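import Groth.Agent.Lib.CurveOm17.Local
import Groth.Agent.Lib.TensorMod.Dual
import Groth.Agent.Lib.Twist.Gen
import Groth.Agent.Lib.VeryAmple11.Crit

/-!
# Gluing `W ⊗ f^* Ω_Y ≅ Ω_X ⊗ f^* N` from local coefficients
-/

set_option linter.style.haveILetI false
set_option autoImplicit false
set_option maxHeartbeats 800000

universe u

open CategoryTheory TopologicalSpace Opposite CategoryTheory.Limits AlgebraicGeometry TensorProduct

namespace Groth.Agent.CurveOm17

open Groth.Agent.M1 Groth.Agent.M2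

variable {X Y : Scheme.{u}}

/-- A pure tensor of generators generates. -/
theorem isGen_tsec {A B : X.Modules} {U : X.Opens} {a : Γ(A, U)} {b : Γ(B, U)} (ha : Twist.IsGen A U a)
    (hb : Twist.IsGen B U b) : Twist.IsGen (CohB1.tensorMod A B) U (tsec A B a b) := by
  refine Twist.isGen_of_stalk fun x hx => ?_
  let eA := LinearEquiv.ofBijective (LinearMap.toSpanSingleton _ _ (A.presheaf.germ U x hx a)) (ha.stalk hx)
  let eB := LinearEquiv.ofBijective (LinearMap.toSpanSingleton _ _ (B.presheaf.germ U x hx b)) (hb.stalk hx)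
  let e := (TensorProduct.lid (X.presheaf.stalk x) (X.presheaf.stalk x)).symm ≪≫ₗ TensorProduct.congr eA eB ≪≫ₗ
    (stalkEquiv A B x).symm
  have h1 : e 1 = (CohB1.tensorMod A B).presheaf.germ U x hx (tsec A B a b) := by
    rw [LinearEquiv.trans_apply, LinearEquiv.trans_apply, LinearEquiv.symm_apply_eq, stalkEquiv_tsec,
      TensorProduct.lid_symm_apply, TensorProduct.congr_tmul]
    simp only [eA, eB, LinearEquiv.ofBijective_apply, LinearMap.toSpanSingleton_apply_one]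
  convert e.bijective using 1
  funext c
  show c • _ = e c
  rw [← h1, ← map_smul, smul_eq_mul, mul_one]

/-- A criterion for `SameTransition`. -/
theorem sameTransition_of_inf {P Q : X.Modules} {ι : Type*} {U : ι → X.Opens} {p : ∀ i, Γ(P, U i)}
    {q : ∀ i, Γ(Q, U i)} (hp : ∀ i, Twist.IsGen P (U i) (p i))
    (h : ∀ i j, ∃ (O : X.Opens) (hi : O ≤ U i) (hj : O ≤ U j) (t : Γ(X, O)), (∀ V, V ≤ U i → V ≤ U j → V ≤ O) ∧
      mres P hj (p j) = t • mres P hi (p i) ∧ mres Q hj (q j) = t • mres Q hi (q i)) :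
    Twist.SameTransition U p q := fun i j V hi hj t ht => by
  obtain ⟨O, hOi, hOj, t₀, hO, h₁, h₂⟩ := h i j
  have hV := hO V hi hj
  have e₁ := congrArg (fun z => mres P hV z) h₁
  have e₂ := congrArg (fun z => mres Q hV z) h₂
  simp only [mres_smul, mres_mres] at e₁ e₂
  rw [show t = ores hV t₀ from (hp i V hi).1 (ht.symm.trans e₁)]
  exact e₂

theorem mres_tsec {A B : X.Modules} {U V : X.Opens} (h : V ≤ U) (a : Γ(A, U)) (b : Γ(B, U)) :
    mres (CohB1.tensorMod A B) h (tsec A B a b) = tsec A B (mres A h a) (mres B h b) :=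
  M2.res_tsec h a b

theorem mres_pullSec (f : X ⟶ Y) (M : Y.Modules) {U V : Y.Opens} (h : V ≤ U) (s : Γ(M, U)) :
    mres ((Scheme.Modules.pullback f).obj M) (f.preimage_mono h) (pullSec f M s) = pullSec f M (mres M h s) :=
  (M1.app_mres ((Scheme.Modules.pullbackPushforwardAdjunction f).unit.app M) h s).symm

theorem jacobsonSpace_of_over {k : Type u} [Field k] [Y.Over (Spec (CommRingCat.of k))]
    [LocallyOfFiniteType (Y ↘ Spec (CommRingCat.of k))] : JacobsonSpace Y :=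
  LocallyOfFiniteType.jacobsonSpace (Y ↘ Spec (CommRingCat.of k))

/-- Data with associated coefficients glue to an isomorphism. -/
theorem nonempty_iso_of_local [IsIntegral X] [IsIntegral Y] [JacobsonSpace Y] (f : X ⟶ Y)
    (e : f (genericPoint X) = genericPoint Y) {W ΩX : X.Modules} {N ΩY : Y.Modules}
    (ψ : N ⟶ (Scheme.Modules.pushforward f).obj W) (φ : ΩY ⟶ (Scheme.Modules.pushforward f).obj ΩX)
    (h : ∀ y : Y, IsClosed ({y} : Set Y) →
      ∃ (U : Y.Opens) (_ : y ∈ U) (m : Γ(N, U)) (η : Γ(ΩY, U)) (w : Γ(W, f ⁻¹ᵁ U)) (ω : Γ(ΩX, f ⁻¹ᵁ U))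
      (c c' : Γ(X, f ⁻¹ᵁ U)),
      Twist.IsGen N U m ∧ Twist.IsGen ΩY U η ∧ Twist.IsGen W (f ⁻¹ᵁ U) w ∧ Twist.IsGen ΩX (f ⁻¹ᵁ U) ω ∧
      (ψ.app U m : Γ(W, f ⁻¹ᵁ U)) = c • w ∧ (φ.app U η : Γ(ΩX, f ⁻¹ᵁ U)) = c' • ω ∧ c ≠ 0 ∧ Associated c c') :
    Nonempty (CohB1.tensorMod W ((Scheme.Modules.pullback f).obj ΩY) ≅
      CohB1.tensorMod ΩX ((Scheme.Modules.pullback f).obj N)) := by
  classical
  let ι := {y : Y // IsClosed ({y} : Set Y)}
  choose U hyU m η w ω c c' hm hη hw hω hc hc' hc0 hass using fun i : ι => h i.1 i.2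
  choose u hu using hass
  have hcovY : ⨆ i, U i = ⊤ := by
    by_contra hne
    have hZ : ((⨆ i, U i : Y.Opens) : Set Y)ᶜ.Nonempty := Set.nonempty_compl.2 fun hh =>
      hne (TopologicalSpace.Opens.ext hh)
    obtain ⟨z, hz, hzc⟩ := nonempty_inter_closedPoints hZ (⨆ i, U i : Y.Opens).isOpen.isClosed_compl.isLocallyClosed
    exact hz (Opens.mem_iSup.2 ⟨⟨z, hzc⟩, hyU ⟨z, hzc⟩⟩)
  have hcov : ⨆ i, f ⁻¹ᵁ U i = ⊤ := by rw [← Scheme.Hom.preimage_iSup, hcovY]; rfl
  let p : ∀ i, Γ(CohB1.tensorMod W ((Scheme.Modules.pullback f).obj ΩY), f ⁻¹ᵁ U i) := fun i =>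
    tsec _ _ (w i) (pullSec f ΩY (η i))
  let q : ∀ i, Γ(CohB1.tensorMod ΩX ((Scheme.Modules.pullback f).obj N), f ⁻¹ᵁ U i) := fun i =>
    (u i : Γ(X, f ⁻¹ᵁ U i)) • tsec _ _ (ω i) (pullSec f N (m i))
  have hp : ∀ i, Twist.IsGen _ (f ⁻¹ᵁ U i) (p i) := fun i => isGen_tsec (hw i) ((hη i).pullback f)
  have hq : ∀ i, Twist.IsGen _ (f ⁻¹ᵁ U i) (q i) := fun i =>
    VA11.isGen_smul_unit (isGen_tsec (hω i) ((hm i).pullback f)) (u i).isUnit
  have hsame : Twist.SameTransition (fun i => f ⁻¹ᵁ U i) p q := sameTransition_of_inf hp fun i j => by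
    have hi : U i ⊓ U j ≤ U i := inf_le_left
    have hj : U i ⊓ U j ≤ U j := inf_le_right
    obtain ⟨a, ha⟩ := (hm i _ hi).2 (mres N hj (m j))
    obtain ⟨b, hb⟩ := (hη i _ hi).2 (mres ΩY hj (η j))
    obtain ⟨α, hα⟩ := (hw i _ (f.preimage_mono hi)).2 (mres W (f.preimage_mono hj) (w j))
    obtain ⟨β, hβ⟩ := (hω i _ (f.preimage_mono hi)).2 (mres ΩX (f.preimage_mono hj) (ω j))
    dsimp only at ha hb hα hβ
    -- coefficients of `ψ`
    have e₁ : ores (f.preimage_mono hj) (c j) * α = f.app _ a * ores (f.preimage_mono hi) (c i) := by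
      refine (hw i _ (f.preimage_mono hi)).1 ?_
      dsimp only
      rw [mul_smul, hα, mul_smul, ← mres_smul, ← mres_smul, ← hc j, ← hc i]
      refine (M1.app_mres ψ hj (m j)).symm.trans ?_
      rw [← ha, Scheme.Modules.Hom.app_smul, M1.app_mres]
      rfl
    have e₂ : ores (f.preimage_mono hj) (c' j) * β = f.app _ b * ores (f.preimage_mono hi) (c' i) := by
      refine (hω i _ (f.preimage_mono hi)).1 ?_
      dsimp only
      rw [mul_smul, hβ, mul_smul, ← mres_smul, ← mres_smul, ← hc' j, ← hc' i]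
      refine (M1.app_mres φ hj (η j)).symm.trans ?_
      rw [← hb, Scheme.Modules.Hom.app_smul, M1.app_mres]
      rfl
    haveI : Nonempty ((f ⁻¹ᵁ (U i ⊓ U j) : X.Opens) : Scheme.{u}) := ⟨⟨genericPoint X,
      show f (genericPoint X) ∈ U i ⊓ U j from e ▸
        ⟨(genericPoint_specializes i.1).mem_open (U i).2 (hyU i),
          (genericPoint_specializes j.1).mem_open (U j).2 (hyU j)⟩⟩⟩
    have hne : ores (f.preimage_mono hj) (c j) ≠ 0 := fun h0 =>
      hc0 j (map_injective_of_isIntegral X (homOfLE (f.preimage_mono hj)) (h0.trans (map_zero _).symm))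
    have hkey : ores (f.preimage_mono hj) (u j : Γ(X, f ⁻¹ᵁ U j)) * β * f.app _ a =
        α * f.app _ b * ores (f.preimage_mono hi) (u i : Γ(X, f ⁻¹ᵁ U i)) := by
      refine mul_left_cancel₀ (a := ores (f.preimage_mono hj) (c j)) (b := _) ?_ ?_
      · exact hne
      have h1 := congrArg (ores (f.preimage_mono hj)) (hu j)
      have h2 := congrArg (ores (f.preimage_mono hi)) (hu i)
      rw [map_mul] at h1 h2
      linear_combination (β * f.app _ a) * h1 - (f.app _ a * f.app _ b) * h2 + f.app _ a * e₂ -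
        (f.app _ b * ores (f.preimage_mono hi) (u i : Γ(X, f ⁻¹ᵁ U i))) * e₁
    refine ⟨f ⁻¹ᵁ (U i ⊓ U j), f.preimage_mono hi, f.preimage_mono hj, α * f.app _ b,
      fun V h₁ h₂ x hx => ⟨h₁ hx, h₂ hx⟩, ?_, ?_⟩
    · show mres _ _ (tsec _ _ (w j) (pullSec f ΩY (η j))) = _ • mres _ _ (tsec _ _ (w i) (pullSec f ΩY (η i)))
      rw [mres_tsec, mres_tsec, ← hα, mres_pullSec f ΩY hj, mres_pullSec f ΩY hi, ← hb, pullSec_smul, tsec_smul_left,
        tsec_smul_right, ← mul_smul]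
    · show mres _ _ (_ • tsec _ _ (ω j) (pullSec f N (m j))) = _ • mres _ _ (_ • tsec _ _ (ω i) (pullSec f N (m i)))
      rw [mres_smul, mres_smul, mres_tsec, mres_tsec, ← hβ, mres_pullSec f N hj, mres_pullSec f N hi, ← ha, pullSec_smul,
        tsec_smul_left, tsec_smul_right, ← mul_smul, ← mul_smul, ← mul_smul, hkey]
  obtain ⟨τ, -⟩ := Twist.exists_iso_of_gen _ hcov p q hp hq hsame
  exact ⟨τ⟩

/-- An invertible module cancels. -/
theorem nonempty_iso_of_tensor_iso {A B L L' : X.Modules} (hL : PicF.IsInvertible L) (e : L ≅ L')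
    (h : Nonempty (CohB1.tensorMod A L ≅ CohB1.tensorMod B L')) : Nonempty (A ≅ B) := by
  obtain ⟨h⟩ := h
  obtain ⟨D, -, ⟨i⟩⟩ := M2.exists_inverse hL
  exact ⟨(tensorRUnit A).symm ≪≫ tensorIso (Iso.refl A) i.symm ≪≫ (tensorAssoc A L D).symm ≪≫
    tensorIso (h ≪≫ tensorIso (Iso.refl B) e.symm) (Iso.refl D) ≪≫ tensorAssoc B L D ≪≫
    tensorIso (Iso.refl B) i ≪≫ tensorRUnit B⟩

end Groth.Agent.CurveOm17
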