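import Groth.Agent.Lib.CurveOm17.Main
import Groth.Agent.Lib.CurveCoh17.GenusBC
import Groth.Agent.Lib.CurveCoh17.Skyscraper
import Groth.Agent.Lib.Rigid19.AntiAffine
import Groth.Agent.Lib.Omega12.BaseChange
import Groth.Agent.Lib.Omega12.Universal
import Groth.Agent.Lib.CohBC18.Field
import Groth.Agent.S4642

/-!
# `Ω` is dualizing on a smooth proper curve over any field with `h⁰(O) = 1`
-/

set_option linter.style.haveILetI false
set_option autoImplicit false
set_option maxHeartbeats 800000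

universe u

open CategoryTheory TopologicalSpace Opposite CategoryTheory.Limits AlgebraicGeometry

namespace Groth.Agent.CurveOm17

open Groth.Agent.M1 Groth.Agent.M2 Groth.Agent.CurveCoh17

variable {k : Type u} [Field k]

/-- `h⁰(O) = 1` forces connectedness. -/
theorem connectedSpace_of_h0 {X : Scheme.{u}} [X.Over (Spec (CommRingCat.of k))]
    (h0 : Module.finrank k (Coh.HH X (Coh.structureModule X) 0) = 1) : ConnectedSpace X := by
  refine Rigid19.connectedSpace_of_antiAffine (X := Over.mk (X ↘ Spec (CommRingCat.of k))) ?_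
  let F := Coh.structureModule X
  obtain ⟨x, hx, hspan⟩ := finrank_eq_one_iff'.1 h0
  have hT : ∀ (c : k), Coh.toGlobal (X ↘ Spec (CommRingCat.of k)) c =
      ((Scheme.ΓSpecIso (CommRingCat.of k)).inv ≫ (X ↘ Spec (CommRingCat.of k)).appTop).hom c := fun c => rfl
  have hsmul : ∀ (c : k) (z : Coh.HH X F 0), hh0 F (c • z) =
      (show Γ(X, ⊤) from Coh.toGlobal (X ↘ Spec (CommRingCat.of k)) c) • hh0 F z := fun c z =>
    hh0_smul (M := F) _ z
  obtain ⟨a, ha⟩ := hspan ((hh0 F).symm (one ⊤))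
  have h1 := congrArg (hh0 F) ha
  rw [hsmul, AddEquiv.apply_symm_apply] at h1
  have h1' : (show Γ(X, ⊤) from Coh.toGlobal (X ↘ Spec (CommRingCat.of k)) a) * (show Γ(X, ⊤) from hh0 F x) = 1 := h1
  haveI : Nontrivial Γ(X, ⊤) := by
    by_contra hh
    rw [not_nontrivial_iff_subsingleton] at hh
    exact hh0_ne_zero hx (@Subsingleton.elim _ hh _ _)
  refine ⟨RingHom.injective ((Scheme.ΓSpecIso (CommRingCat.of k)).inv ≫ (X ↘ Spec (CommRingCat.of k)).appTop).hom,
    fun (g : Γ(X, ⊤)) => ?_⟩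
  obtain ⟨c, hc⟩ := hspan ((hh0 F).symm ((show Γ(X, ⊤) from g) : Γ(F, ⊤)))
  have h2 := congrArg (hh0 F) hc
  rw [hsmul, AddEquiv.apply_symm_apply] at h2
  have h2' : (show Γ(X, ⊤) from Coh.toGlobal (X ↘ Spec (CommRingCat.of k)) c) * (show Γ(X, ⊤) from hh0 F x) = g := h2
  have hne : a ≠ 0 := fun h => one_ne_zero (α := Γ(X, ⊤)) (by
    rw [← h1', h, hT, map_zero, zero_mul])
  refine ⟨c * a⁻¹, ?_⟩
  set φ := ((Scheme.ΓSpecIso (CommRingCat.of k)).inv ≫ (X ↘ Spec (CommRingCat.of k)).appTop).hom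
  have h3 : φ a⁻¹ = (show Γ(X, ⊤) from hh0 F x) := by
    calc φ a⁻¹ = φ a⁻¹ * (φ a * (show Γ(X, ⊤) from hh0 F x)) := by rw [show φ a * _ = 1 from h1', mul_one]
      _ = _ := by rw [← mul_assoc, ← map_mul, inv_mul_cancel₀ hne, map_one, one_mul]
  show φ (c * a⁻¹) = g
  rw [map_mul, h3]
  exact h2'

variable {X : Scheme.{u}} [X.Over (Spec (CommRingCat.of k))] [IsIntegral X]
  [IsProper (X ↘ Spec (CommRingCat.of k))] [Smooth (X ↘ Spec (CommRingCat.of k))]

/-- `h⁰(Ω) = g` and `h¹(Ω) = 1` over any field. -/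
theorem omega_h0_h1 (hdim : topologicalKrullDim X = 1)
    (h0 : Module.finrank k (Coh.HH X (Coh.structureModule X) 0) = 1) {Ω : X.Modules}
    {d : OmegaSh.Der (X ↘ Spec (CommRingCat.of k)) Ω} (hd : OmegaSh.IsUniversal d) :
    Module.finrank k (Coh.HH X Ω 0) = Curv2.genus k X ∧ Module.finrank k (Coh.HH X Ω 1) = 1 := by
  let K := AlgebraicClosure k
  letI : (Curv2.bc k X K).Over (Spec (CommRingCat.of K)) := ⟨Curv2.bcSnd k X K⟩
  have hpb : IsPullback (Curv2.bcFst k X K) (Curv2.bcSnd k X K) (X ↘ Spec (CommRingCat.of k))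
      (Spec.map (CommRingCat.ofHom (algebraMap k K))) := IsPullback.of_hasPullback _ _
  haveI : Smooth (Curv2.bcSnd k X K) :=
    MorphismProperty.of_isPullback (P := @Smooth) hpb ‹Smooth (X ↘ Spec (CommRingCat.of k))›
  haveI : IsProper (Curv2.bcSnd k X K) :=
    MorphismProperty.of_isPullback (P := @IsProper) hpb ‹IsProper (X ↘ Spec (CommRingCat.of k))›
  haveI : Smooth ((Curv2.bc k X K) ↘ Spec (CommRingCat.of K)) := ‹Smooth (Curv2.bcSnd k X K)›
  haveI : IsProper ((Curv2.bc k X K) ↘ Spec (CommRingCat.of K)) := ‹IsProper (Curv2.bcSnd k X K)›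
  haveI : CompactSpace X := QuasiCompact.compactSpace_of_compactSpace (X ↘ Spec (CommRingCat.of k))
  haveI : QuasiSeparatedSpace X :=
    quasiSeparatedSpace_of_quasiSeparated (X ↘ Spec (CommRingCat.of k))
  have h0K : Module.finrank K (Coh.HH (Curv2.bc k X K) (Coh.structureModule (Curv2.bc k X K)) 0) = 1 := by
    rw [finrank_HH_bc K 0, h0]
  haveI := connectedSpace_of_h0 h0K
  haveI := VB17.isNoetherian_of_over (k := K) (X := Curv2.bc k X K)
  haveI : IsIntegral (Curv2.bc k X K) := VB17.isIntegral_of_connected fun x =>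
    SmoothReg17.isDomain_stalk ((Curv2.bc k X K) ↘ Spec (CommRingCat.of K)) x
  have hdimK : topologicalKrullDim (Curv2.bc k X K) = 1 :=
    (Groth.Agent.S4642.result (K := K) (X ↘ Spec (CommRingCat.of k))).trans hdim
  have hdK := Omega12.isUniversal_dOmega (f := (Curv2.bc k X K) ↘ Spec (CommRingCat.of K))
  obtain ⟨c, hc, -⟩ := Omega12.existsUnique_diffCompat (f' := (Curv2.bc k X K) ↘ Spec (CommRingCat.of K))
    (h := Curv2.bcFst k X K) hpb.w.symm hd (OmegaSh.dOmega ((Curv2.bc k X K) ↘ Spec (CommRingCat.of K)))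
  haveI := Omega12.isIso_diffCompat_of_isPullback hpb hd hdK c hc
  obtain ⟨hK0, hK1, -⟩ := omega_invariants hdimK hdK
  have key : ∀ n, Module.finrank k (Coh.HH X Ω n) =
      Module.finrank K (Coh.HH (Curv2.bc k X K) (Omega.sheaf ((Curv2.bc k X K) ↘ Spec (CommRingCat.of K))) n) := fun n => by
    obtain ⟨e⟩ := CohBC18.nonempty_HH_bc (k := k) X K Ω (Omega12.isQCoh_receptacle _ hd) n
    exact Module.finrank_baseChange.symm.trans (e.finrank_eq.trans (hequiv K (asIso c) n).finrank_eq)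
  refine ⟨(key 0).trans (hK0.trans ?_), (key 1).trans hK1⟩
  exact finrank_HH_bc K 1

/-- `Ω` is dualizing. -/
theorem exists_isDualizing_omega' (hdim : topologicalKrullDim X = 1)
    (h0 : Module.finrank k (Coh.HH X (Coh.structureModule X) 0) = 1) {Ω : X.Modules}
    {d : OmegaSh.Der (X ↘ Spec (CommRingCat.of k)) Ω} (hd : OmegaSh.IsUniversal d) :
    VB17.RegCurve k X ∧ VB17.HasBigDeg k X ∧ PicF.IsInvertible Ω ∧
      Curv2.deg k X Ω 1 = 2 * (Curv2.genus k X : ℤ) - 2 ∧ ∃ lam, VB17.IsDualizing k Ω lam := by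
  have hX : VB17.RegCurve k X := VB17.regCurve' hdim
  have hbig := CurveCoh17.hasBigDeg_of_regCurve hX hdim
  haveI := CurveCartier25.smoothOfRelativeDimension_one (X ↘ Spec (CommRingCat.of k)) hdim
  have hΩ : PicF.IsInvertible Ω := (isInvertible_iff_isFinLocFreeOfRank_one _).2
    (Omega12.isFinLocFreeOfRank_receptacle_of_smooth _ hd 1)
  obtain ⟨hg, h1⟩ := omega_h0_h1 hdim h0 hd
  have hrr := hX.like.rr (isCoh_of_ofRank ((isInvertible_iff_isFinLocFreeOfRank_one _).1 hΩ))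
  rw [hg, h1, h0] at hrr
  have hdeg : Curv2.deg k X Ω 1 = 2 * (Curv2.genus k X : ℤ) - 2 := by
    omega
  obtain ⟨W, lam, hW⟩ := VB17.exists_isDualizing hX h0 hbig
  have hdW := (hW.invariants hX h0 hbig).2.2
  haveI : Nontrivial (Coh.HH X Ω 1) := Module.nontrivial_of_finrank_eq_succ h1
  obtain ⟨η, hη⟩ := exists_ne (0 : Coh.HH X Ω 1)
  haveI : Module.Free k (Coh.HH X Ω 1) := Module.Free.of_divisionRing k _
  haveI : Module.Projective k (Coh.HH X Ω 1) := Module.Projective.of_free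
  obtain ⟨μ, hμ⟩ := Module.Projective.exists_dual_ne_zero k hη
  exact ⟨hX, hbig, hΩ, hdeg, μ, hΩ, fun h => hμ (by rw [h]; rfl), fun W' hW' h' =>
    (hW.max W' hW' h').trans_eq (hdW.trans hdeg.symm)⟩

end Groth.Agent.CurveOm17
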