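import Groth.Agent.Lib.CurveOm17.AnyField
import Groth.Agent.Lib.CurveCoh17.VeryAmple
import Groth.Agent.Lib.CurveCoh17.Equality
import Groth.Agent.Lib.VB17.GlobGen
import Groth.Agent.Lib.RelAmple18.Generation

/-!
# Consequences of duality with `Ω`
-/

set_option linter.style.haveILetI false
set_option autoImplicit false
set_option maxHeartbeats 800000

universe u

open CategoryTheory TopologicalSpace Opposite CategoryTheory.Limits AlgebraicGeometry

namespace Groth.Agent.CurveOm17

open Groth.Agent.M1 Groth.Agent.M2 Groth.Agent.CurveCoh17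

variable {k : Type u} [Field k] {X : Scheme.{u}} [X.Over (Spec (CommRingCat.of k))]

/-- An invertible module of nonpositive degree with a nonzero section is trivial. -/
theorem nonempty_iso_of_deg_nonpos (hX : VB17.RegCurve k X) {L : X.Modules} (hL : PicF.IsInvertible L)
    (hd : Curv2.deg k X L 1 ≤ 0) (hs : Nontrivial (Coh.HH X L 0)) :
    Nonempty (Coh.structureModule X ≅ L) := by
  obtain ⟨z, hz⟩ := exists_ne (0 : Coh.HH X L 0)
  have hne : secHom (hh0 L z) ≠ 0 := fun h => hh0_ne_zero hz (by
    rw [← secHom_app_one (hh0 L z), h]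
    simp)
  haveI := VB17.mono_of_ne_zero hX (PicLoc.isInvertible_structureModule X) hL _ hne
  haveI := hX.integral
  obtain ⟨hle, heq⟩ := VB17.deg_le_of_mono hX.like
    ((isInvertible_iff_isFinLocFreeOfRank_one _).1 (PicLoc.isInvertible_structureModule X))
    ((isInvertible_iff_isFinLocFreeOfRank_one _).1 hL) (secHom (hh0 L z))
  rw [deg_structureModule] at hle heq
  haveI := heq (le_antisymm hle hd)
  exact ⟨asIso (secHom (hh0 L z))⟩

variable {W : X.Modules} {lam : Module.Dual k (Coh.HH X W 1)}

/-- An invertible module of canonical degree with at least `g` sections is dualizing. -/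
theorem nonempty_iso_of_deg_eq (hX : VB17.RegCurve k X)
    (h0 : Module.finrank k (Coh.HH X (Coh.structureModule X) 0) = 1) (hbig : VB17.HasBigDeg k X)
    (hW : VB17.IsDualizing k W lam) {L : X.Modules} (hL : PicF.IsInvertible L)
    (hdeg : Curv2.deg k X L 1 = 2 * (Curv2.genus k X : ℤ) - 2)
    (hh0 : Curv2.genus k X ≤ Module.finrank k (Coh.HH X L 0)) : Nonempty (L ≅ W) := by
  haveI := hX.integral
  obtain ⟨L', hL', ⟨e⟩⟩ := exists_inverse hL
  have h1 := hW.finrank_h1 hX h0 hbig hL hL' (tensorComm _ _ ≪≫ e)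
  have hrr := hX.like.rr (isCoh_of_ofRank ((isInvertible_iff_isFinLocFreeOfRank_one _).1 hL))
  rw [h0] at hrr
  have hWL := isInvertible_tensor hW.inv hL'
  have hd0 : Curv2.deg k X (CohB1.tensorMod W L') 1 = 0 := by
    rw [hX.like.deg_tensor_invertible hW.inv hL', (hW.invariants hX h0 hbig).2.2,
      hX.like.deg_of_tensor_iso hL hL' e, hdeg]
    ring
  haveI := hX.like.fin _ (isCoh_of_ofRank ((isInvertible_iff_isFinLocFreeOfRank_one _).1 hWL)) 0
  obtain ⟨i⟩ := nonempty_iso_of_deg_nonpos hX hWL hd0.le (Module.finrank_pos_iff.1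
    (show 0 < Module.finrank k (Coh.HH X (CohB1.tensorMod W L') 0) by omega))
  exact ⟨(tensorLUnit L).symm ≪≫ tensorIso i (Iso.refl L) ≪≫ tensorAssoc W L' L ≪≫
    tensorIso (Iso.refl W) (tensorComm L' L ≪≫ e) ≪≫ tensorRUnit W⟩

/-- A dualizing module is globally generated in positive genus. -/
theorem isGloballyGenerated_of_genus_pos (hX : VB17.RegCurve k X) (hdim : topologicalKrullDim X = 1)
    (h0 : Module.finrank k (Coh.HH X (Coh.structureModule X) 0) = 1) (hbig : VB17.HasBigDeg k X)
    (hW : VB17.IsDualizing k W lam) (hg : 1 ≤ Curv2.genus k X) : Curv2.IsGloballyGenerated W := by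
  haveI := hX.integral
  haveI := hX.like.noetherian
  obtain ⟨hW0, hW1, hWd⟩ := hW.invariants hX h0 hbig
  have key : ∀ (x : X), IsClosed ({x} : Set X) → ∃ t : Γ(W, (⊤ : X.Opens)),
      Submodule.span (X.presheaf.stalk x)
        ({(W.presheaf.germ ⊤ x trivial t : W.presheaf.stalk x)} : Set (W.presheaf.stalk x)) = ⊤ := fun x hx => by
    refine (atPoint_ne_zero_iff (k := k) hW.inv hx).1 fun hz => ?_
    set Z := Scheme.IdealSheafData.vanishingIdeal (⟨{x}, hx⟩ : Closeds X)
    have hI := isInvertible_pointIdeal_of_pid hdim hx (hX.pid x)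
    obtain ⟨hle, heq⟩ := haveI : Mono (ClSub.idealModι Z) := (shortExact_idealMod Z).mono_f
      VB17.deg_le_of_mono hX.like ((isInvertible_iff_isFinLocFreeOfRank_one _).1 hI)
        ((isInvertible_iff_isFinLocFreeOfRank_one _).1 (PicLoc.isInvertible_structureModule X)) (ClSub.idealModι Z)
    rw [deg_structureModule] at hle heq
    have hneg : Curv2.deg k X (ClSub.idealMod Z) 1 < 0 := lt_of_le_of_ne hle fun h => by
      haveI := heq h
      obtain ⟨a, ha⟩ := (quot_point_props hx).2
      obtain ⟨w, rfl⟩ := (epi_iff_stalk (ClSub.toSubscheme Z)).1 (shortExact_idealMod Z).epi_g x a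
      obtain ⟨v, rfl⟩ := surjective_stalkLin_of_isIso (ClSub.idealModι Z) x w
      apply ha
      refine (stalkLin_comp (ClSub.idealModι Z) (ClSub.toSubscheme Z) x v).symm.trans ?_
      rw [show ClSub.idealModι Z ≫ ClSub.toSubscheme Z = 0 from kernel.condition _]
      show (stalkAb x).map (0 : ClSub.idealMod Z ⟶ ClSub.quotMod Z) v = 0
      rw [Functor.map_zero]
      rfl
    obtain ⟨-, h2⟩ := finrank_twist_point hX.like hW.inv hx (k := k)
    rw [hz, LinearMap.range_zero, finrank_bot, hW0] at h2
    change _ = Module.finrank k (Coh.HH X (CohB1.tensorMod W (ClSub.idealMod Z)) 0) + _ at h2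
    obtain ⟨D, hD, ⟨eD⟩⟩ := exists_inverse hI
    obtain ⟨W', hW', ⟨eW⟩⟩ := exists_inverse hW.inv
    have hWI := isInvertible_tensor hW.inv hI
    let e' : CohB1.tensorMod (CohB1.tensorMod W' D) (CohB1.tensorMod W (ClSub.idealMod Z)) ≅ Coh.structureModule X :=
      tensorInterchange W' D W (ClSub.idealMod Z) ≪≫
        tensorIso (tensorComm _ _ ≪≫ eW) (tensorComm _ _ ≪≫ eD) ≪≫ tensorLUnit _
    have h1 := hW.finrank_h1 hX h0 hbig hWI (isInvertible_tensor hW' hD) e'
    rw [(hequiv k ((tensorAssoc W W' D).symm ≪≫ tensorIso eW (Iso.refl D) ≪≫ tensorLUnit D) 0).finrank_eq] at h1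
    have hrr := hX.like.rr (isCoh_of_ofRank ((isInvertible_iff_isFinLocFreeOfRank_one _).1 hWI))
    rw [hX.like.deg_tensor_invertible hW.inv hI, hWd, h0, h1] at hrr
    have hdD := hX.like.deg_of_tensor_iso hI hD eD
    simp only [Z] at h2 hneg
    have := hX.like.genus_eq_zero_of_h0_eq_deg_add_one h0 hD (by rw [hdD]; push_cast at hrr ⊢; omega) (by omega)
    omega
  refine RA.isGloballyGenerated_of_span W fun y => ?_
  have hspan : ∀ x, IsClosed ({x} : Set X) → Submodule.span (X.presheaf.stalk x)
      (Set.range fun t : Γ(W, (⊤ : X.Opens)) => (W.presheaf.germ ⊤ x trivial t : W.presheaf.stalk x)) = ⊤ := fun x hx => by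
    obtain ⟨t, ht⟩ := key x hx
    exact top_le_iff.1 (ht.ge.trans (Submodule.span_mono (Set.singleton_subset_iff.2 ⟨t, rfl⟩)))
  by_cases hy : IsClosed ({y} : Set X)
  · exact hspan y hy
  · obtain rfl : y = genericPoint X := (Curve17.eq_of_specializes hdim.le hy (genericPoint_specializes y)).symm
    obtain ⟨x, hx⟩ : ∃ x : X, IsClosed ({x} : Set X) := by
      by_contra hno
      push Not at hno
      have hall : ∀ x : X, x = genericPoint X := fun x =>
        by_contra fun h => hno x (AmpleFin18.isClosed_of_ne_genericPoint hdim.le h)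
      haveI : Subsingleton X := ⟨fun a b => (hall a).trans (hall b).symm⟩
      exact hno (genericPoint X) Set.subsingleton_of_subsingleton.isClosed
    exact VB17.span_germ_genericPoint_of_span ((isInvertible_iff_isFinLocFreeOfRank_one _).1 hW.inv) (hspan x hx)

end Groth.Agent.CurveOm17
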