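import Groth.Agent.Lib.CurveOm17.Monogenic
import Groth.Agent.Lib.VB17.Proper
import Groth.Agent.Lib.VarDim.Normal
import Groth.Agent.Lib.Curve17.Basic
import Groth.Agent.Lib.KrullAkizuki.DVR
import Mathlib.RingTheory.Jacobson.Ring
import Mathlib.AlgebraicGeometry.Morphisms.Finite
import Mathlib.FieldTheory.IsAlgClosed.Basic

/-!
# Monogenic charts of finite separable covers of smooth curves over algebraically closed fields
-/

set_option linter.style.haveILetI false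
set_option autoImplicit false
set_option maxHeartbeats 800000

universe u

open CategoryTheory TopologicalSpace CategoryTheory.Limits AlgebraicGeometry

namespace Groth.Agent.CurveOm17

variable {k : Type u} [Field k] {X Y : Scheme.{u}} [X.Over (Spec (CommRingCat.of k))] [Y.Over (Spec (CommRingCat.of k))]

/-- Sections of a smooth curve over an affine open form a Dedekind domain. -/
theorem isDedekindDomain_sections [IsIntegral X] [Smooth (X ↘ Spec (CommRingCat.of k))]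
    (hdim : topologicalKrullDim X ≤ 1) {U : X.Opens} (hU : IsAffineOpen U) [Nonempty U] :
    IsDedekindDomain Γ(X, U) := by
  haveI := LocallyOfFiniteType.isLocallyNoetherian (X ↘ Spec (CommRingCat.of k))
  haveI : IsNoetherianRing Γ(X, U) := IsLocallyNoetherian.component_noetherian ⟨U, hU⟩
  haveI : IsIntegrallyClosed Γ(X, U) := VarDim.isIntegrallyClosed_sections
    (fun x => SmoothReg17.isIntegrallyClosed_stalk (X ↘ Spec (CommRingCat.of k)) x) U
  haveI : Ring.KrullDimLE 1 Γ(X, U) := Ring.krullDimLE_iff.2 (by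
    rw [← PrimeSpectrum.topologicalKrullDim_eq_ringKrullDim]
    exact (hU.fromSpec.isOpenEmbedding.isInducing.topologicalKrullDim_le).trans hdim)
  haveI := KrullAkizuki.dimensionLEOne_of_krullDimLE Γ(X, U)
  exact { }

variable (k) in
/-- The structure map of sections. -/
noncomputable def toSect (U : X.Opens) : k →+* Γ(X, U) :=
  ((X ↘ Spec (CommRingCat.of k)).appLE ⊤ U le_top).hom.comp (Scheme.ΓSpecIso (CommRingCat.of k)).inv.hom

theorem app_toSect (f : X ⟶ Y) (hf : f ≫ (Y ↘ Spec (CommRingCat.of k)) = X ↘ Spec (CommRingCat.of k))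
    (U : Y.Opens) (c : k) : f.app U (toSect k U c) = toSect k (f ⁻¹ᵁ U) c := by
  show ((Y ↘ Spec (CommRingCat.of k)).appLE ⊤ U le_top ≫ f.app U) ((Scheme.ΓSpecIso (CommRingCat.of k)).inv c) = _
  rw [Scheme.Hom.app_eq_appLE, Scheme.Hom.appLE_comp_appLE]
  simp only [hf]
  rfl

/-- At a maximal ideal every section is congruent to a constant. -/
theorem exists_sub_toSect_mem [IsAlgClosed k] [LocallyOfFiniteType (X ↘ Spec (CommRingCat.of k))] {U : X.Opens}
    (hU : IsAffineOpen U) (P : Ideal Γ(X, U)) [P.IsMaximal] (b : Γ(X, U)) : ∃ c : k, b - toSect k U c ∈ P := by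
  have hft : (toSect k U).FiniteType := RingHom.FiniteType.comp
    ((X ↘ Spec (CommRingCat.of k)).finiteType_appLE (isAffineOpen_top _) hU le_top)
    (RingHom.FiniteType.of_surjective _ (Scheme.ΓSpecIso (CommRingCat.of k)).commRingCatIsoToRingEquiv.symm.surjective)
  letI := (toSect k U).toAlgebra
  haveI : Algebra.FiniteType k Γ(X, U) := hft
  letI := Ideal.Quotient.field P
  haveI : Algebra.FiniteType k (Γ(X, U) ⧸ P) :=
    Algebra.FiniteType.of_surjective (Ideal.Quotient.mkₐ k P) Ideal.Quotient.mk_surjective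
  haveI : Module.Finite k (Γ(X, U) ⧸ P) := finite_of_finite_type_of_isJacobsonRing k _
  obtain ⟨c, hc⟩ := IsAlgClosed.algebraMap_bijective_of_isIntegral (k := k) (K := Γ(X, U) ⧸ P) |>.2 (Ideal.Quotient.mk P b)
  exact ⟨c, Ideal.Quotient.eq.1 hc.symm⟩

/-- Near a closed point a finite cover of smooth curves is given by a monogenic algebra. -/
theorem exists_chart [IsAlgClosed k] [IsIntegral X] [IsIntegral Y] [Smooth (X ↘ Spec (CommRingCat.of k))]
    [Smooth (Y ↘ Spec (CommRingCat.of k))] (hdX : topologicalKrullDim X ≤ 1) (hdY : topologicalKrullDim Y = 1) (f : X ⟶ Y) [IsFinite f]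
    (hf : f ≫ (Y ↘ Spec (CommRingCat.of k)) = X ↘ Spec (CommRingCat.of k))
    (e : f (genericPoint X) = genericPoint Y) {y : Y} (hy : IsClosed ({y} : Set Y)) {O : Y.Opens} (hyO : y ∈ O) :
    ∃ U : Y.Opens, IsAffineOpen U ∧ y ∈ U ∧ U ≤ O ∧ ∃ θ : Γ(X, f ⁻¹ᵁ U),
      letI := (f.app U).hom.toAlgebra
      Algebra.adjoin Γ(Y, U) {θ} = ⊤ := by
  obtain ⟨U₀, hU₀, hy₀, hU₀O⟩ := exists_isAffineOpen_mem_and_subset hyO
  have hV₀ : IsAffineOpen (f ⁻¹ᵁ U₀) := hU₀.preimage f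
  haveI : Nonempty U₀ := ⟨⟨y, hy₀⟩⟩
  have hξ : genericPoint X ∈ f ⁻¹ᵁ U₀ := show f (genericPoint X) ∈ U₀ from
    e ▸ (genericPoint_specializes y).mem_open U₀.2 hy₀
  haveI : Nonempty ((f ⁻¹ᵁ U₀ : X.Opens) : Scheme.{u}) := ⟨⟨genericPoint X, hξ⟩⟩
  haveI : Nonempty (f ⁻¹ᵁ U₀ : X.Opens) := ⟨⟨genericPoint X, hξ⟩⟩
  haveI := isDedekindDomain_sections (k := k) hdX hV₀
  letI := (f.app U₀).hom.toAlgebra
  haveI : Module.Finite Γ(Y, U₀) Γ(X, f ⁻¹ᵁ U₀) := f.finite_app U₀ hU₀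
  set p := (hU₀.primeIdealOf ⟨y, hy₀⟩).asIdeal with hp
  haveI : p.IsMaximal := by
    rw [← PrimeSpectrum.isClosed_singleton_iff_isMaximal]
    have h1 : (hU₀.fromSpec ⁻¹' {y} : Set (PrimeSpectrum Γ(Y, U₀))) = {hU₀.primeIdealOf ⟨y, hy₀⟩} := by
      ext z
      exact ⟨fun h => hU₀.fromSpec.isOpenEmbedding.injective (h.trans (hU₀.fromSpec_primeIdealOf ⟨y, hy₀⟩).symm),
        fun h => (congrArg hU₀.fromSpec h).trans (hU₀.fromSpec_primeIdealOf ⟨y, hy₀⟩)⟩
    exact h1 ▸ hy.preimage hU₀.fromSpec.continuous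
  haveI : Infinite (Γ(Y, U₀) ⧸ p) := by
    letI := Ideal.Quotient.field p
    exact Infinite.of_injective ((Ideal.Quotient.mk p).comp (toSect k U₀)) (RingHom.injective _)
  have hinj : Function.Injective (f.app U₀).hom := fun a b hab => by
    have hη : f (genericPoint X) ∈ U₀ := hξ
    refine germ_injective_of_isIntegral Y _ hη (Curve17.stalkMap_injective f e (genericPoint X) ?_)
    rw [Scheme.Hom.germ_stalkMap_apply, Scheme.Hom.germ_stalkMap_apply, hab]
  haveI : FaithfulSMul Γ(Y, U₀) Γ(X, f ⁻¹ᵁ U₀) := (faithfulSMul_iff_algebraMap_injective _ _).2 hinj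
  have hne : p.map (algebraMap Γ(Y, U₀) Γ(X, f ⁻¹ᵁ U₀)) ≠ ⊥ := by
    rw [ne_eq, Ideal.map_eq_bot_iff_of_injective (show Function.Injective (algebraMap _ _) from hinj)]
    intro h0
    refine Curve17.ne_genericPoint hdY hy ?_
    rw [← genericPoint_eq_of_isOpenImmersion hU₀.fromSpec, genericPoint_eq_bot_of_affine,
      ← show hU₀.primeIdealOf ⟨y, hy₀⟩ = (⊥ : PrimeSpectrum Γ(Y, U₀)) from PrimeSpectrum.ext h0]
    exact (hU₀.fromSpec_primeIdealOf ⟨y, hy₀⟩).symm
  obtain ⟨θ, s, hs, hspan⟩ := exists_adjoin_eq_local p hne fun P hP hPI b => by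
    obtain ⟨c, hc⟩ := exists_sub_toSect_mem (k := k) hV₀ P b
    exact ⟨toSect k U₀ c, by rwa [RingHom.algebraMap_toAlgebra, app_toSect f hf U₀ c]⟩
  refine ⟨Y.basicOpen s, hU₀.basicOpen s, ?_, (Y.basicOpen_le s).trans hU₀O, ?_⟩
  · obtain ⟨z, hz⟩ : ∃ z, z = hU₀.primeIdealOf ⟨y, hy₀⟩ := ⟨_, rfl⟩
    have : z ∈ hU₀.fromSpec ⁻¹ᵁ Y.basicOpen s := by
      rw [IsAffineOpen.fromSpec_preimage_basicOpen]
      exact fun h => hs (hp ▸ hz ▸ h)
    rw [hz] at this
    have h : hU₀.fromSpec (hU₀.primeIdealOf ⟨y, hy₀⟩) ∈ Y.basicOpen s := this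
    rwa [hU₀.fromSpec_primeIdealOf ⟨y, hy₀⟩] at h
  · have hpre : f ⁻¹ᵁ Y.basicOpen s = X.basicOpen (f.app U₀ s) := f.preimage_basicOpen s
    have hle : f ⁻¹ᵁ Y.basicOpen s ≤ f ⁻¹ᵁ U₀ := f.preimage_mono (Y.basicOpen_le s)
    refine ⟨X.presheaf.map (homOfLE hle).op θ, ?_⟩
    letI := (f.app (Y.basicOpen s)).hom.toAlgebra
    set B' := Algebra.adjoin Γ(Y, Y.basicOpen s) {X.presheaf.map (homOfLE hle).op θ}
    letI : Algebra Γ(X, f ⁻¹ᵁ U₀) Γ(X, f ⁻¹ᵁ Y.basicOpen s) := (X.presheaf.map (homOfLE hle).op).hom.toAlgebra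
    haveI : IsLocalization.Away (f.app U₀ s) Γ(X, f ⁻¹ᵁ Y.basicOpen s) := hV₀.isLocalization_of_eq_basicOpen _ _ hpre
    haveI : IsLocalization.Away s Γ(Y, Y.basicOpen s) := hU₀.isLocalization_basicOpen s
    have hres : ∀ a, algebraMap Γ(X, f ⁻¹ᵁ U₀) Γ(X, f ⁻¹ᵁ Y.basicOpen s) (f.app U₀ a) =
        algebraMap Γ(Y, Y.basicOpen s) Γ(X, f ⁻¹ᵁ Y.basicOpen s) (Y.presheaf.map (homOfLE (Y.basicOpen_le s)).op a) :=
      fun a => (ConcreteCategory.congr_hom (f.naturality (homOfLE (Y.basicOpen_le s)).op) a).symm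
    obtain ⟨t, ht⟩ : ∃ t : Γ(Y, Y.basicOpen s), Y.presheaf.map (homOfLE (Y.basicOpen_le s)).op s * t = 1 :=
      (IsLocalization.Away.algebraMap_isUnit (S := Γ(Y, Y.basicOpen s)) s).exists_right_inv
    have hmem : ∀ b : Γ(X, f ⁻¹ᵁ U₀), algebraMap _ Γ(X, f ⁻¹ᵁ Y.basicOpen s) b ∈ B' := fun b => by
      have hq : ∀ z ∈ Algebra.adjoin Γ(Y, U₀) {θ}, algebraMap _ Γ(X, f ⁻¹ᵁ Y.basicOpen s) z ∈ B' := fun z hz => by
        induction hz using Algebra.adjoin_induction with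
        | mem x hx => rw [Set.mem_singleton_iff.1 hx]; exact Algebra.subset_adjoin (Set.mem_singleton _)
        | algebraMap r => rw [RingHom.algebraMap_toAlgebra (f.app U₀).hom, hres]; exact B'.algebraMap_mem _
        | add x y _ _ hx hy => rw [map_add]; exact add_mem hx hy
        | mul x y _ _ hx hy => rw [map_mul]; exact mul_mem hx hy
      have h := hq _ (hspan b)
      rw [Algebra.smul_def, RingHom.algebraMap_toAlgebra (f.app U₀).hom, map_mul, hres] at h
      have := mul_mem (B'.algebraMap_mem t) h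
      rwa [← mul_assoc, ← map_mul, mul_comm t, ht, map_one, one_mul] at this
    refine eq_top_iff.2 fun z _ => ?_
    obtain ⟨n, b, hb⟩ := IsLocalization.Away.surj (f.app U₀ s) z
    rw [hres] at hb
    have := mul_mem (B'.algebraMap_mem (t ^ n)) (hmem b)
    rw [← hb] at this
    convert this using 1
    rw [mul_comm z, ← mul_assoc, ← map_pow, ← map_mul, ← mul_pow, mul_comm t, ht, one_pow, map_one, one_mul]

end Groth.Agent.CurveOm17
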