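import Groth.Agent.Lib.CurveOm17.Apps
import Groth.Agent.Lib.CurveCoh17.Hyper
import Groth.Agent.Lib.CurveCoh17.RegPoint
import Groth.Agent.Lib.RegSmooth17.Scheme

/-!
# Pencils of degree two and the canonical module
-/

set_option linter.style.haveILetI false
set_option autoImplicit false
set_option maxHeartbeats 800000

universe u

open CategoryTheory TopologicalSpace Opposite CategoryTheory.Limits AlgebraicGeometry

namespace Groth.Agent.CurveOm17

open Groth.Agent.M1 Groth.Agent.M2 Groth.Agent.CurveCoh17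

variable {k : Type u} [Field k] {X : Scheme.{u}} [X.Over (Spec (CommRingCat.of k))] [IsIntegral X]
  [IsProper (X ↘ Spec (CommRingCat.of k))] [Smooth (X ↘ Spec (CommRingCat.of k))]

/-- Two sections make a linear series. -/
theorem exists_isLinSer {M : X.Modules} (hM : PicF.IsInvertible M) {d : ℕ} (hd : Curv2.deg k X M 1 = d)
    [Module.Finite k (Coh.HH X M 0)]
    (h2 : 2 ≤ Module.finrank k (Coh.HH X M 0)) : ∃ s : Fin 2 → LinSer.Sect X M, LinSer.IsLinSer k X M d 1 s := by
  obtain ⟨v, hv⟩ := exists_linearIndependent_of_le_finrank h2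
  refine ⟨fun i => hh0 M (v i), hM, hd, fun c hc => funext (Fintype.linearIndependent_iff.1 hv c ?_)⟩
  refine (hh0 M).injective ?_
  rw [map_zero, map_sum]
  exact (Finset.sum_congr rfl fun i _ => hh0_smul (M := M) _ (v i)).trans hc

/-- A linear series of dimension one has two sections. -/
theorem two_le_h0_of_isLinSer {M : X.Modules} {d : ℕ} {s : Fin 2 → LinSer.Sect X M}
    (hs : LinSer.IsLinSer k X M d 1 s) [Module.Finite k (Coh.HH X M 0)] :
    2 ≤ Module.finrank k (Coh.HH X M 0) := by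
  have hv : LinearIndependent k fun i => (hh0 M).symm (s i) := Fintype.linearIndependent_iff.2 fun c hc => by
    refine congrFun (hs.2.2 c ?_)
    have h := congrArg (hh0 M) hc
    rw [map_zero, map_sum] at h
    refine Eq.trans (Finset.sum_congr rfl fun i _ => ?_) h
    refine Eq.trans ?_ (hh0_smul (M := M) _ _).symm
    rw [AddEquiv.apply_symm_apply]
    rfl
  simpa using hv.fintype_card_le_finrank

variable [IsAlgClosed k] (hdim : topologicalKrullDim X = 1)

include hdim in
/-- A pencil of degree two is the divisor of two points. -/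
theorem exists_two_points {M : X.Modules} (hM : PicF.IsInvertible M) (hdeg : Curv2.deg k X M 1 = 2)
    (h2 : 2 ≤ Module.finrank k (Coh.HH X M 0)) :
    ∃ (P Q : X) (hP : IsClosed ({P} : Set X)) (hQ : IsClosed ({Q} : Set X)),
      Nonempty (CohB1.tensorMod M (CohB1.tensorMod (ClSub.idealMod (Scheme.IdealSheafData.vanishingIdeal (⟨{P}, hP⟩ : Closeds X)))
        (ClSub.idealMod (Scheme.IdealSheafData.vanishingIdeal (⟨{Q}, hQ⟩ : Closeds X)))) ≅ Coh.structureModule X) := by
  obtain ⟨hX, -, -⟩ := VB17.setup (k := k) (X := X) hdim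
  haveI := hX.like.noetherian
  haveI : JacobsonSpace X := LocallyOfFiniteType.jacobsonSpace (X ↘ Spec (CommRingCat.of k))
  obtain ⟨P, -, hP⟩ := nonempty_inter_closedPoints (Z := (Set.univ : Set X)) Set.univ_nonempty isClosed_univ.isLocallyClosed
  rw [mem_closedPoints_iff] at hP
  obtain ⟨hIP, hdP⟩ := VB17.pointIdeal_data k (X := X) hdim hP
  have hN := isInvertible_tensor hM hIP
  haveI := hX.like.fin _ (isCoh_of_ofRank ((isInvertible_iff_isFinLocFreeOfRank_one _).1 hN)) 0
  have hb := hX.like.h0_le_twist_add_one hM hP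
  set N := CohB1.tensorMod M (ClSub.idealMod (Scheme.IdealSheafData.vanishingIdeal (⟨{P}, hP⟩ : Closeds X)))
  obtain ⟨z, hz⟩ := Module.finrank_pos_iff_exists_ne_zero.1 (show 0 < Module.finrank k (Coh.HH X N 0) by omega)
  have hdN : Curv2.deg k X N 1 = 1 := by
    rw [hX.like.deg_tensor_invertible hM hIP, hdeg, hdP]; norm_num
  obtain ⟨Q, hQm⟩ := exists_vanish_of_deg_pos hX.like hN (by rw [hdN]; norm_num) (hh0_ne_zero hz)
  have hQ : IsClosed ({Q} : Set X) := by
    by_contra hQc
    obtain rfl : Q = genericPoint X := (Curve17.eq_of_specializes hdim.le hQc (genericPoint_specializes Q)).symm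
    have hbot : IsLocalRing.maximalIdeal (X.presheaf.stalk (genericPoint X)) = ⊥ :=
      IsLocalRing.isField_iff_maximalIdeal_eq.1 (Field.toIsField X.functionField)
    rw [hbot, Submodule.bot_smul, Submodule.mem_bot] at hQm
    exact hh0_ne_zero hz (eq_zero_of_germ_eq_zero ((isInvertible_iff_isFinLocFreeOfRank_one _).1 hN) _ hQm)
  obtain ⟨hIQ, hdQ⟩ := VB17.pointIdeal_data k (X := X) hdim hQ
  obtain ⟨a, ha⟩ := (germ_mem_iff (k := k) hN hQ z).1 hQm
  have hNQ : PicF.IsInvertible (pointSC hQ N).X₁ := isInvertible_tensor hIQ hN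
  have hd0 : Curv2.deg k X (pointSC hQ N).X₁ 1 = 0 :=
    (hX.like.deg_tensor_invertible hIQ hN).trans (by rw [hdQ, hdN]; norm_num)
  obtain ⟨i⟩ := nonempty_iso_of_deg_nonpos hX hNQ hd0.le
    ⟨a, 0, fun h => hz (ha.symm.trans
      ((congrArg (fun t => hmap k (pointIncl hQ N) 0 t) h).trans (map_zero (hmap k (pointIncl hQ N) 0))))⟩
  exact ⟨P, Q, hP, hQ, ⟨(tensorAssoc _ _ _).symm ≪≫ tensorComm _ _ ≪≫ i.symm⟩⟩

variable {W : X.Modules} {lam : Module.Dual k (Coh.HH X W 1)}

omit [IsIntegral X] [IsProper (X ↘ Spec (CommRingCat.of k))] [Smooth (X ↘ Spec (CommRingCat.of k))]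
  [IsAlgClosed k] in
/-- Riemann-Roch for a divisor of degree two, dually. -/
theorem h0_twist_pair (hX : VB17.RegCurve k X) (h0 : Module.finrank k (Coh.HH X (Coh.structureModule X) 0) = 1)
    (hbig : VB17.HasBigDeg k X) (hW : VB17.IsDualizing k W lam) {D J : X.Modules} (hD : PicF.IsInvertible D)
    (hJ : PicF.IsInvertible J) (e : CohB1.tensorMod D J ≅ Coh.structureModule X) (hdeg : Curv2.deg k X D 1 = 2) :
    (Module.finrank k (Coh.HH X (CohB1.tensorMod W J) 0) : ℤ) =
      Module.finrank k (Coh.HH X D 0) + (Curv2.genus k X : ℤ) - 3 := by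
  have h1 := hW.finrank_h1 hX h0 hbig hD hJ (tensorComm _ _ ≪≫ e)
  have hrr := hX.like.rr (isCoh_of_ofRank ((isInvertible_iff_isFinLocFreeOfRank_one _).1 hD))
  rw [h0, hdeg, h1] at hrr
  omega

end Groth.Agent.CurveOm17
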