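import Groth.Agent.Lib.CurveOm17.CliffordStep
import Groth.Agent.Lib.CurveOm17.Hyp
import Groth.Agent.Lib.CurveCoh17.Pairing

/-!
# Equality in Clifford's theorem
-/

set_option linter.style.haveILetI false
set_option autoImplicit false
set_option maxHeartbeats 800000

universe u

open CategoryTheory TopologicalSpace Opposite CategoryTheory.Limits AlgebraicGeometry

namespace Groth.Agent.CurveOm17

open Groth.Agent.M1 Groth.Agent.M2 Groth.Agent.CurveCoh17

variable {k : Type u} [Field k] [IsAlgClosed k] {X : Scheme.{u}} [X.Over (Spec (CommRingCat.of k))] [IsIntegral X]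
  [IsProper (X ↘ Spec (CommRingCat.of k))] [Smooth (X ↘ Spec (CommRingCat.of k))]
  {W : X.Modules} {lam : Module.Dual k (Coh.HH X W 1)}

omit [Smooth (X ↘ Spec (CommRingCat.of k))] [IsAlgClosed k] [IsProper (X ↘ Spec (CommRingCat.of k))] [IsIntegral X] in
/-- `h¹(W ⊗ A⁻¹) = h⁰(A)`. -/
theorem finrank_h1_twist (hX : VB17.RegCurve k X) (h0 : Module.finrank k (Coh.HH X (Coh.structureModule X) 0) = 1)
    (hbig : VB17.HasBigDeg k X) (hW : VB17.IsDualizing k W lam) {A A' : X.Modules} (hA : PicF.IsInvertible A)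
    (hA' : PicF.IsInvertible A') (e : CohB1.tensorMod A A' ≅ Coh.structureModule X) :
    Module.finrank k (Coh.HH X (CohB1.tensorMod W A') 1) = Module.finrank k (Coh.HH X A 0) := by
  obtain ⟨W', hW', ⟨eW⟩⟩ := exists_inverse hW.inv
  rw [hW.finrank_h1 hX h0 hbig (isInvertible_tensor hW.inv hA') (isInvertible_tensor hW' hA)
    (tensorInterchange W' A W A' ≪≫ tensorIso (tensorComm _ _ ≪≫ eW) e ≪≫ tensorLUnit _)]
  exact (hequiv k ((tensorAssoc _ _ _).symm ≪≫ tensorIso eW (Iso.refl A) ≪≫ tensorLUnit A) 0).finrank_eq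

/-- Sections of invertible modules multiply: `h⁰(D) + h⁰(H) ≤ h⁰(D ⊗ H) + 1`. -/
theorem h0_add_le_h0_tensor (hdim : topologicalKrullDim X = 1) (hW : VB17.IsDualizing k W lam) {D H : X.Modules}
    (hD : PicF.IsInvertible D) (hH : PicF.IsInvertible H) (hD0 : 1 ≤ Module.finrank k (Coh.HH X D 0))
    (hH0 : 1 ≤ Module.finrank k (Coh.HH X H 0)) :
    Module.finrank k (Coh.HH X D 0) + Module.finrank k (Coh.HH X H 0) ≤
      Module.finrank k (Coh.HH X (CohB1.tensorMod D H) 0) + 1 := by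
  obtain ⟨hX, h0, hbig⟩ := VB17.setup (k := k) (X := X) hdim
  obtain ⟨D', hD', ⟨eD⟩⟩ := exists_inverse hD
  obtain ⟨H', hH', ⟨eH⟩⟩ := exists_inverse hH
  have h1 := finrank_h1_twist hX h0 hbig hW (isInvertible_tensor hD hH) (isInvertible_tensor hD' hH')
    (tensorInterchange D H D' H' ≪≫ tensorIso eD eH ≪≫ tensorLUnit _)
  have h2 := finrank_h1_twist hX h0 hbig hW hH hH' eH
  let E := CohB1.tensorMod W (CohB1.tensorMod D' H')
  have i : CohB1.tensorMod D E ≅ CohB1.tensorMod W H' := (tensorAssoc _ _ _).symm ≪≫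
    tensorInterchange D W D' H' ≪≫ tensorIso eD (Iso.refl _) ≪≫ tensorLUnit _
  have h3 := (hequiv k i 1).finrank_eq
  haveI := hX.like.fin _ (isCoh_of_ofRank ((isInvertible_iff_isFinLocFreeOfRank_one _).1
    (isInvertible_tensor hD (isInvertible_tensor hW.inv (isInvertible_tensor hD' hH'))))) 1
  haveI := hX.like.fin _ (isCoh_of_ofRank ((isInvertible_iff_isFinLocFreeOfRank_one _).1 hD)) 0
  have h := hX.like.h0_add_h1_tensor_le hD (isInvertible_tensor hW.inv (isInvertible_tensor hD' hH'))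
    ((Module.finrank_pos_iff (R := k)).1 (show 0 < Module.finrank k (Coh.HH X D 0) by omega))
    ((Module.finrank_pos_iff (R := k)).1 (show 0 < Module.finrank k (Coh.HH X (CohB1.tensorMod D E) 1) by omega))
  change _ + Module.finrank k (Coh.HH X (CohB1.tensorMod D E) 1) ≤ Module.finrank k (Coh.HH X E 1) + 1 at h
  change Module.finrank k (Coh.HH X E 1) = _ at h1
  omega

/-- Powers of a pencil have many sections. -/
theorem succ_le_h0_pow (hdim : topologicalKrullDim X = 1) (hW : VB17.IsDualizing k W lam) {N : X.Modules}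
    (hN : PicF.IsInvertible N) (h2 : 2 ≤ Module.finrank k (Coh.HH X N 0)) (m : ℕ) :
    m + 1 ≤ Module.finrank k (Coh.HH X (CohB1.tensorPow N m) 0) := by
  induction m with
  | zero => exact (VB17.setup (k := k) (X := X) hdim).2.1.ge
  | succ m ih =>
    have h := h0_add_le_h0_tensor hdim hW (isInvertible_tensorPow hN m) hN (by omega) (by omega)
    change m + 1 + 1 ≤ Module.finrank k (Coh.HH X (CohB1.tensorMod (CohB1.tensorPow N m) N) 0)
    omega

/-- Equality in Clifford away from the ends gives a pencil of degree two. -/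
theorem exists_g12_of_clifford_eq (hdim : topologicalKrullDim X = 1) (hW : VB17.IsDualizing k W lam) {L : X.Modules}
    (hL : PicF.IsInvertible L) (heq : 2 * (Module.finrank k (Coh.HH X L 0) : ℤ) = Curv2.deg k X L 1 + 2)
    (hpos : 0 < Curv2.deg k X L 1) (hdL : Curv2.deg k X L 1 < 2 * (Curv2.genus k X : ℤ) - 2) :
    ∃ N : X.Modules, PicF.IsInvertible N ∧ Curv2.deg k X N 1 = 2 ∧ 2 ≤ Module.finrank k (Coh.HH X N 0) := by
  induction hn : Module.finrank k (Coh.HH X L 0) using Nat.strong_induction_on generalizing L with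
  | _ n ih =>
    subst hn
    by_cases h2 : Module.finrank k (Coh.HH X L 0) = 2
    · exact ⟨L, hL, by rw [h2] at heq; push_cast at heq; omega, h2.ge⟩
    · obtain ⟨K, hK, hKpos, hKlt, hKeq⟩ := clifford_step hdim hW hL heq (by omega) hdL
      exact ih _ (by omega) hK hKeq hKpos (hKlt.trans hdL) rfl

/-- Equality in Clifford: a multiple of the pencil of degree two. -/
theorem nonempty_iso_pow_of_clifford_eq (hdim : topologicalKrullDim X = 1) (hW : VB17.IsDualizing k W lam)
    {L N : X.Modules} (hL : PicF.IsInvertible L)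
    (heq : 2 * (Module.finrank k (Coh.HH X L 0) : ℤ) = Curv2.deg k X L 1 + 2)
    (hpos : 0 < Curv2.deg k X L 1) (hdL : Curv2.deg k X L 1 < 2 * (Curv2.genus k X : ℤ) - 2)
    (hN : PicF.IsInvertible N) (hd : Curv2.deg k X N 1 = 2) (h2 : 2 ≤ Module.finrank k (Coh.HH X N 0)) :
    Nonempty (L ≅ CohB1.tensorPow N (Module.finrank k (Coh.HH X L 0) - 1)) := by
  obtain ⟨hX, h0, hbig⟩ := VB17.setup (k := k) (X := X) hdim
  obtain ⟨r, hr⟩ : ∃ r, Module.finrank k (Coh.HH X L 0) = r + 1 := ⟨Module.finrank k (Coh.HH X L 0) - 1, by omega⟩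
  obtain ⟨c, hc⟩ : ∃ c, Curv2.genus k X = r + 1 + c := ⟨Curv2.genus k X - (r + 1), by omega⟩
  rw [hr, Nat.add_sub_cancel]
  have hQ := isInvertible_tensorPow hN r
  have hP := isInvertible_tensorPow hN c
  have h3 := succ_le_h0_pow hdim hW hN h2 c
  have h4 := h0_add_le_h0_tensor hdim hW hL hP (by omega) (by omega)
  have h5 := succ_le_h0_pow hdim hW hN h2 (r + c)
  obtain ⟨i⟩ := nonempty_iso_of_deg_eq hX h0 hbig hW (isInvertible_tensor hL hP)
    (by rw [hX.like.deg_tensor_invertible hL hP, hX.like.deg_tensorPow hN, hd, hc]; push_cast; omega) (by omega)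
  obtain ⟨j⟩ := nonempty_iso_of_deg_eq hX h0 hbig hW (isInvertible_tensorPow hN (r + c))
    (by rw [hX.like.deg_tensorPow hN, hd, hc]; push_cast; omega) (by omega)
  obtain ⟨P', -, ⟨e⟩⟩ := exists_inverse hP
  have s : CohB1.tensorMod L (CohB1.tensorPow N c) ≅ CohB1.tensorMod (CohB1.tensorPow N r) (CohB1.tensorPow N c) :=
    i ≪≫ j.symm ≪≫ tensorPowAdd N r c
  exact ⟨(tensorRUnit L).symm ≪≫ tensorIso (Iso.refl L) e.symm ≪≫ (tensorAssoc _ _ _).symm ≪≫
    tensorIso s (Iso.refl P') ≪≫ tensorAssoc _ _ _ ≪≫ tensorIso (Iso.refl _) e ≪≫ tensorRUnit _⟩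

end Groth.Agent.CurveOm17
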