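import Groth.Agent.Lib.CurveOm17.DoubleCover
import Groth.Agent.Lib.CurveCoh17.Clifford
import Groth.Agent.Lib.CurveCoh17.Equality
import Groth.Agent.Lib.CurveCoh17.Hyper
import Groth.Agent.Lib.CurveCoh17.VeryAmple
import Groth.Agent.Lib.CurveOm17.Apps
import Groth.Agent.Lib.ModM1.Coh
import Groth.Agent.Lib.RHom.PCoh

/-!
# The descent step in the equality case of Clifford's theorem
-/

set_option linter.style.haveILetI false
set_option autoImplicit false
set_option maxHeartbeats 800000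

universe u

open CategoryTheory TopologicalSpace Opposite CategoryTheory.Limits AlgebraicGeometry

namespace Groth.Agent.CurveOm17

open Groth.Agent.M1 Groth.Agent.M2 Groth.Agent.CurveCoh17

variable {k : Type u} [Field k] {X : Scheme.{u}} [X.Over (Spec (CommRingCat.of k))]

theorem h0_le_of_mono {A B : X.Modules} (f : A ⟶ B) [Mono f] [Module.Finite k (Coh.HH X B 0)] :
    Module.finrank k (Coh.HH X A 0) ≤ Module.finrank k (Coh.HH X B 0) := by
  let S : ShortComplex X.Modules := ShortComplex.mk f (cokernel.π f) (cokernel.condition f)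
  have hS : S.ShortExact := { exact := S.exact_of_g_is_cokernel (cokernelIsCokernel f) }
  exact LinearMap.finrank_le_finrank_of_injective (hmap_f_injective k hS)

theorem h0_mid_le {S : ShortComplex X.Modules} (hS : S.ShortExact) [Module.Finite k (Coh.HH X S.X₁ 0)]
    [Module.Finite k (Coh.HH X S.X₂ 0)] [Module.Finite k (Coh.HH X S.X₃ 0)] :
    Module.finrank k (Coh.HH X S.X₂ 0) ≤
      Module.finrank k (Coh.HH X S.X₁ 0) + Module.finrank k (Coh.HH X S.X₃ 0) := by
  rw [finrank_eq_range_add_range _ _ (exact_hmap_hmap k hS 0)]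
  exact Nat.add_le_add (LinearMap.finrank_range_le _) (Submodule.finrank_le _)

theorem finrank_range_of_mono {A B : X.Modules} (f : A ⟶ B) [Mono f] :
    Module.finrank k (LinearMap.range (hmap k f 0)) = Module.finrank k (Coh.HH X A 0) :=
  LinearMap.finrank_range_of_inj (hmap_f_injective k (S := ShortComplex.mk f (cokernel.π f) (cokernel.condition f))
    { exact := ShortComplex.exact_of_g_is_cokernel _ (cokernelIsCokernel f) })

theorem h0_le_of_cokernel {A B : X.Modules} (f : A ⟶ B) [Mono f] [Module.Finite k (Coh.HH X A 0)]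
    [Module.Finite k (Coh.HH X B 0)] [Module.Finite k (Coh.HH X (cokernel f) 0)] :
    Module.finrank k (Coh.HH X B 0) ≤
      Module.finrank k (Coh.HH X A 0) + Module.finrank k (Coh.HH X (cokernel f) 0) := by
  let S : ShortComplex X.Modules := ShortComplex.mk f (cokernel.π f) (cokernel.condition f)
  have hS : S.ShortExact := { exact := S.exact_of_g_is_cokernel (cokernelIsCokernel f) }
  have hex : Function.Exact (hmap k f 0) (hmap k (cokernel.π f) 0) := exact_hmap_hmap k hS 0
  rw [finrank_eq_range_add_range _ _ hex]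
  exact Nat.add_le_add (LinearMap.finrank_range_le _) (Submodule.finrank_le _)

variable {A B W : X.Modules}

/-- Multiplication by a section of `B`, `A → B ⊗ A ≅ W`. -/
noncomputable def mulTo (e : CohB1.tensorMod B A ≅ W) (b : Γ(B, (⊤ : X.Opens))) : A ⟶ W :=
  (tensorLUnit A).inv ≫ tensorMap (secHom b) (𝟙 A) ≫ e.hom

theorem stalkLin_mem_smul {M N : X.Modules} (f : M ⟶ N) (x : X) {a : M.presheaf.stalk x}
    (h : a ∈ IsLocalRing.maximalIdeal (X.presheaf.stalk x) • (⊤ : Submodule (X.presheaf.stalk x) (M.presheaf.stalk x))) :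
    stalkLin f x a ∈
      IsLocalRing.maximalIdeal (X.presheaf.stalk x) • (⊤ : Submodule (X.presheaf.stalk x) (N.presheaf.stalk x)) := by
  induction h using Submodule.smul_induction_on' with
  | smul r hr c _ => rw [map_smul]; exact Submodule.smul_mem_smul hr trivial
  | add b _ c _ hb hc => rw [map_add]; exact add_mem hb hc

/-- Multiplication by a section vanishing at `x` has vanishing values at `x`. -/
theorem mulTo_mem_smul (e : CohB1.tensorMod B A ≅ W) (b : Γ(B, (⊤ : X.Opens))) (x : X)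
    (hb : (B.presheaf.germ ⊤ x trivial b : B.presheaf.stalk x) ∈
      IsLocalRing.maximalIdeal (X.presheaf.stalk x) • (⊤ : Submodule (X.presheaf.stalk x) (B.presheaf.stalk x)))
    (a : A.presheaf.stalk x) :
    stalkLin (mulTo e b) x a ∈
      IsLocalRing.maximalIdeal (X.presheaf.stalk x) • (⊤ : Submodule (X.presheaf.stalk x) (W.presheaf.stalk x)) := by
  rw [mulTo, stalkLin_comp, stalkLin_comp]
  refine stalkLin_mem_smul e.hom x ?_
  generalize stalkLin (tensorLUnit A).inv x a = w
  obtain ⟨z, rfl⟩ := (stalkEquiv (Coh.structureModule X) A x).symm.surjective w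
  induction z using TensorProduct.induction_on with
  | zero => rw [map_zero, map_zero]; exact zero_mem _
  | add p q hp hq => rw [map_add, map_add]; exact add_mem hp hq
  | tmul p q =>
    obtain ⟨U, hx, s, t, rfl, rfl⟩ := exists_germ_germ x p q
    rw [show (stalkEquiv (Coh.structureModule X) A x).symm
        (((Coh.structureModule X).presheaf.germ U x hx s : (Coh.structureModule X).presheaf.stalk x) ⊗ₜ
          (A.presheaf.germ U x hx t : A.presheaf.stalk x)) =
        (CohB1.tensorMod (Coh.structureModule X) A).presheaf.germ U x hx (tsec (Coh.structureModule X) A s t) from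
      (LinearEquiv.symm_apply_eq _).2 (stalkEquiv_tsec _ _ x hx s t).symm]
    rw [stalkLin_apply, germ_naturality, tensorMap_tsec]
    let ψ : B.presheaf.stalk x →ₗ[X.presheaf.stalk x] (CohB1.tensorMod B A).presheaf.stalk x :=
      (stalkEquiv B A x).symm.toLinearMap.comp
        ((TensorProduct.mk _ _ _).flip (A.presheaf.germ U x hx ((𝟙 A : A ⟶ A).app U t)))
    have h1 : (CohB1.tensorMod B A).presheaf.germ U x hx (tsec B A ((secHom b).app U s) ((𝟙 A : A ⟶ A).app U t)) =
        ψ (stalkLin (secHom b) x ((Coh.structureModule X).presheaf.germ U x hx s)) := by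
      rw [stalkLin_apply, germ_naturality]
      exact ((LinearEquiv.symm_apply_eq _).2 (stalkEquiv_tsec B A x hx _ _).symm).symm
    rw [h1]
    obtain ⟨c, -, hc⟩ := stalkLin_secHom b x ((Coh.structureModule X).presheaf.germ U x hx s)
    rw [hc, map_smul]
    refine Submodule.smul_mem _ _ ?_
    have h2 := Submodule.mem_map_of_mem (f := ψ) hb
    rw [Submodule.map_smul''] at h2
    exact Submodule.smul_mono le_rfl le_top h2

/-- Multiplication by a section nonzero at `x` is surjective at `x`. -/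
theorem mulTo_surjective (e : CohB1.tensorMod B A ≅ W) (hB : PicF.IsInvertible B) (b : Γ(B, (⊤ : X.Opens))) (x : X)
    (hb : (B.presheaf.germ ⊤ x trivial b : B.presheaf.stalk x) ∉
      IsLocalRing.maximalIdeal (X.presheaf.stalk x) • (⊤ : Submodule (X.presheaf.stalk x) (B.presheaf.stalk x))) :
    Function.Surjective (stalkLin (mulTo e b) x) := by
  obtain ⟨q⟩ := nonempty_stalk_equiv ((isInvertible_iff_isFinLocFreeOfRank_one B).1 hB) x
  have hdec : ∀ w : B.presheaf.stalk x, w = q w 0 • q.symm 1 := fun w => q.injective (funext fun i => by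
    rw [Fin.fin_one_eq_zero i, map_smul, LinearEquiv.apply_symm_apply, Pi.smul_apply, Pi.one_apply, smul_eq_mul,
      mul_one])
  have hu : IsUnit (q (B.presheaf.germ ⊤ x trivial b) 0) := by
    by_contra hu
    refine hb ?_
    rw [hdec (B.presheaf.germ ⊤ x trivial b)]
    exact Submodule.smul_mem_smul ((IsLocalRing.mem_maximalIdeal _).2 hu) trivial
  have hgen : ∀ a : B.presheaf.stalk x, ∃ c : X.presheaf.stalk x,
      c • (B.presheaf.germ ⊤ x trivial b : B.presheaf.stalk x) = a := fun a =>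
    ⟨q a 0 * hu.unit⁻¹.1, q.injective (funext fun i => by
      rw [Fin.fin_one_eq_zero i, map_smul, Pi.smul_apply, smul_eq_mul, mul_assoc, IsUnit.val_inv_mul, mul_one])⟩
  intro w
  obtain ⟨w₁, rfl⟩ := surjective_stalkLin_of_isIso e.hom x w
  obtain ⟨w₂, rfl⟩ := surjective_stalk_tensorMap (secHom b) (𝟙 A) x (surjective_stalk_secHom b x hgen)
    (surjective_stalkLin_of_isIso _ x) w₁
  obtain ⟨w₃, rfl⟩ := surjective_stalkLin_of_isIso (tensorLUnit A).inv x w₂
  exact ⟨w₃, by rw [mulTo, stalkLin_comp, stalkLin_comp]⟩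

/-- The stalk of an invertible module is not `m` times itself. -/
theorem exists_not_mem_smul (hW : PicF.IsInvertible W) (x : X) : ∃ w : W.presheaf.stalk x,
    w ∉ IsLocalRing.maximalIdeal (X.presheaf.stalk x) • (⊤ : Submodule (X.presheaf.stalk x) (W.presheaf.stalk x)) := by
  obtain ⟨q⟩ := nonempty_stalk_equiv ((isInvertible_iff_isFinLocFreeOfRank_one W).1 hW) x
  refine ⟨q.symm 1, fun h => ?_⟩
  let ev : W.presheaf.stalk x →ₗ[X.presheaf.stalk x] X.presheaf.stalk x :=
    (LinearMap.proj 0).comp q.toLinearMap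
  have h2 := Submodule.mem_map_of_mem (f := ev) h
  rw [Submodule.map_smul''] at h2
  have h3 := Submodule.smul_mono (I := IsLocalRing.maximalIdeal (X.presheaf.stalk x)) le_rfl le_top h2
  rw [Ideal.smul_eq_mul, Ideal.mul_top, show ev (q.symm 1) = 1 by simp [ev]] at h3
  exact (IsLocalRing.mem_maximalIdeal _).1 h3 isUnit_one

theorem eq_inl_add_inr (x : X) (a : (A ⊞ B : X.Modules).presheaf.stalk x) :
    a = stalkLin (biprod.inl : A ⟶ A ⊞ B) x (stalkLin (biprod.fst : A ⊞ B ⟶ A) x a) +
      stalkLin (biprod.inr : B ⟶ A ⊞ B) x (stalkLin (biprod.snd : A ⊞ B ⟶ B) x a) := by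
  rw [← stalkLin_comp, ← stalkLin_comp]
  show a = (stalkAb x).map _ a + (stalkAb x).map _ a
  have h := congrArg (fun f => (stalkAb x).map f a) (biprod.total (X := A) (Y := B))
  simp only [Functor.map_add, CategoryTheory.Functor.map_id] at h
  exact h.symm

variable [IsAlgClosed k] [IsIntegral X] [IsProper (X ↘ Spec (CommRingCat.of k))]
  [Smooth (X ↘ Spec (CommRingCat.of k))]

/-- A nonzero section of a module of positive degree vanishes at a closed point. -/
theorem exists_closed_vanish (hdim : topologicalKrullDim X = 1) {L : X.Modules} (hL : PicF.IsInvertible L)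
    (hd : 0 < Curv2.deg k X L 1) {z : Coh.HH X L 0} (hz : z ≠ 0) :
    ∃ P : X, IsClosed ({P} : Set X) ∧ (L.presheaf.germ ⊤ P trivial (hh0 L z) : L.presheaf.stalk P) ∈
      IsLocalRing.maximalIdeal (X.presheaf.stalk P) • (⊤ : Submodule (X.presheaf.stalk P) (L.presheaf.stalk P)) := by
  obtain ⟨hX, -, -⟩ := VB17.setup (k := k) (X := X) hdim
  haveI := hX.like.noetherian
  obtain ⟨Q, hQm⟩ := exists_vanish_of_deg_pos hX.like hL hd (hh0_ne_zero hz)
  refine ⟨Q, ?_, hQm⟩
  by_contra hQc
  obtain rfl : Q = genericPoint X := (Curve17.eq_of_specializes hdim.le hQc (genericPoint_specializes Q)).symm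
  have hbot : IsLocalRing.maximalIdeal (X.presheaf.stalk (genericPoint X)) = ⊥ :=
    IsLocalRing.isField_iff_maximalIdeal_eq.1 (Field.toIsField X.functionField)
  rw [hbot, Submodule.bot_smul, Submodule.mem_bot] at hQm
  exact hh0_ne_zero hz (eq_zero_of_germ_eq_zero ((isInvertible_iff_isFinLocFreeOfRank_one _).1 hL) _ hQm)

variable (k) in
include k in
/-- A nonzero section is nonzero at some closed point. -/
theorem exists_closed_not_vanish (hdim : topologicalKrullDim X = 1) {L : X.Modules} (hL : PicF.IsInvertible L)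
    {z : Coh.HH X L 0} (hz : z ≠ 0) :
    ∃ Q : X, IsClosed ({Q} : Set X) ∧ (L.presheaf.germ ⊤ Q trivial (hh0 L z) : L.presheaf.stalk Q) ∉
      IsLocalRing.maximalIdeal (X.presheaf.stalk Q) • (⊤ : Submodule (X.presheaf.stalk Q) (L.presheaf.stalk Q)) := by
  haveI : JacobsonSpace X := LocallyOfFiniteType.jacobsonSpace (X ↘ Spec (CommRingCat.of k))
  obtain ⟨D, g, hxD, hg⟩ := ProjUP.exists_isGen_of_invertible hL (genericPoint X)
  obtain ⟨c, hc⟩ := (hg D le_rfl).2 (mres L le_top (hh0 L z))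
  simp only [mres_id] at hc
  haveI : Nonempty D := ⟨⟨_, hxD⟩⟩
  have hc0 : c ≠ 0 := fun h => by
    refine hh0_ne_zero hz (eq_zero_of_germ_eq_zero ((isInvertible_iff_isFinLocFreeOfRank_one _).1 hL) _
      (x := genericPoint X) ?_)
    rw [← germ_mres L (le_top : D ≤ ⊤) hxD, ← hc, h, zero_smul, map_zero]
  have hne : (X.basicOpen c : Set X).Nonempty := by
    rw [Set.nonempty_iff_ne_empty]
    intro h
    exact hc0 ((basicOpen_eq_bot_iff c).1 (SetLike.coe_injective (h.trans Opens.coe_bot.symm)))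
  obtain ⟨Q, hQc, hQ⟩ := nonempty_inter_closedPoints hne (X.basicOpen c).isOpen.isLocallyClosed
  rw [mem_closedPoints_iff] at hQ
  refine ⟨Q, hQ, fun hm => ?_⟩
  have hQD : Q ∈ D := X.basicOpen_le c hQc
  have hu : IsUnit (X.presheaf.germ D Q hQD c) := (X.mem_basicOpen c Q hQD).1 hQc
  rw [← germ_mres L (le_top : D ≤ ⊤) hQD, ← hc, M1.germ_smul, Submodule.smul_mem_iff_of_isUnit _ hu] at hm
  obtain ⟨w, hw⟩ := exists_not_mem_smul hL Q
  obtain ⟨d, rfl⟩ := (hg.stalk hQD).2 w
  exact hw (Submodule.smul_mem _ d hm)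

variable {lam : Module.Dual k (Coh.HH X W 1)}

/-- There is a section vanishing at two given points. -/
theorem exists_vanish_two (hX : CurveLike k X) {L : X.Modules} (hL : PicF.IsInvertible L)
    [Module.Finite k (Coh.HH X L 0)] (h3 : 3 ≤ Module.finrank k (Coh.HH X L 0)) {P Q : X}
    (hP : IsClosed ({P} : Set X)) (hQ : IsClosed ({Q} : Set X)) : ∃ zs : Coh.HH X L 0, zs ≠ 0 ∧
      (L.presheaf.germ ⊤ P trivial (hh0 L zs) : L.presheaf.stalk P) ∈
        IsLocalRing.maximalIdeal (X.presheaf.stalk P) • (⊤ : Submodule (X.presheaf.stalk P) (L.presheaf.stalk P)) ∧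
      (L.presheaf.germ ⊤ Q trivial (hh0 L zs) : L.presheaf.stalk Q) ∈
        IsLocalRing.maximalIdeal (X.presheaf.stalk Q) • (⊤ : Submodule (X.presheaf.stalk Q) (L.presheaf.stalk Q)) := by
  have hcod : ∀ (x : X) (hx : IsClosed ({x} : Set X)),
      Module.finrank k (Coh.HH X L 0) ≤ Module.finrank k (LinearMap.range (hmap k (pointIncl hx L) 0)) + 1 :=
    fun x hx => by
      have hS : (pointSC hx L).ShortExact := twistSES hL _
      haveI : Mono (pointIncl hx L) := @mono_comp _ _ _ _ _ _ hS.mono_f _ inferInstance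
      rw [finrank_range_of_mono]
      refine (hX.h0_le_twist_add_one hL hx).trans (le_of_eq ?_)
      congr 1
      exact (hequiv k (tensorComm _ _) 0).finrank_eq
  have hP' := hcod P hP
  have hQ' := hcod Q hQ
  have hsum := Submodule.finrank_sup_add_finrank_inf_eq (LinearMap.range (hmap k (pointIncl hP L) 0))
    (LinearMap.range (hmap k (pointIncl hQ L) 0))
  have hsup := Submodule.finrank_le (LinearMap.range (hmap k (pointIncl hP L) 0) ⊔
    LinearMap.range (hmap k (pointIncl hQ L) 0))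
  have hne : (LinearMap.range (hmap k (pointIncl hP L) 0) ⊓ LinearMap.range (hmap k (pointIncl hQ L) 0)) ≠ ⊥ := by
    intro h
    rw [h, finrank_bot] at hsum
    omega
  obtain ⟨zs, ⟨hm1, hm2⟩, hzs⟩ := Submodule.exists_mem_ne_zero_of_ne_bot hne
  exact ⟨zs, hzs, (germ_mem_iff hL hP zs).2 (LinearMap.mem_range.1 hm1),
    (germ_mem_iff hL hQ zs).2 (LinearMap.mem_range.1 hm2)⟩

/-- The kernel of `L ⊕ M → W` in the descent step. -/
theorem image_step (hdim : topologicalKrullDim X = 1) (hW : VB17.IsDualizing k W lam) {L M : X.Modules}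
    (hL : PicF.IsInvertible L) (hM : PicF.IsInvertible M) (φ1 : L ⟶ W) (φ2 : M ⟶ W) [Mono φ1] [Mono φ2] (P Q : X)
    (hP1 : ∀ a, stalkLin φ1 P a ∈
      IsLocalRing.maximalIdeal (X.presheaf.stalk P) • (⊤ : Submodule (X.presheaf.stalk P) (W.presheaf.stalk P)))
    (hP2 : ∀ a, stalkLin φ2 P a ∈
      IsLocalRing.maximalIdeal (X.presheaf.stalk P) • (⊤ : Submodule (X.presheaf.stalk P) (W.presheaf.stalk P)))
    (hQ1 : Function.Surjective (stalkLin φ1 Q))
    (hQ2 : ∀ a, stalkLin φ2 Q a ∈
      IsLocalRing.maximalIdeal (X.presheaf.stalk Q) • (⊤ : Submodule (X.presheaf.stalk Q) (W.presheaf.stalk Q)))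
    (hdM : Curv2.deg k X M 1 = 2 * (Curv2.genus k X : ℤ) - 2 - Curv2.deg k X L 1)
    (hq : (Curv2.genus k X : ℤ) + 1 ≤ Module.finrank k (Coh.HH X L 0) + Module.finrank k (Coh.HH X M 0))
    (hLg : Module.finrank k (Coh.HH X L 0) ≤ Curv2.genus k X)
    (h1L : 1 ≤ Module.finrank k (Coh.HH X L 1)) :
    ∃ K : X.Modules, PicF.IsInvertible K ∧ 0 < Curv2.deg k X K 1 ∧ Curv2.deg k X K 1 < Curv2.deg k X L 1 ∧
      2 * (Module.finrank k (Coh.HH X K 0) : ℤ) = Curv2.deg k X K 1 + 2 := by
  obtain ⟨hX, h0, hbig⟩ := VB17.setup (k := k) (X := X) hdim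
  haveI := hX.like.noetherian
  obtain ⟨hW0, hW1, hWd⟩ := hW.invariants hX h0 hbig
  have hLr := (isInvertible_iff_isFinLocFreeOfRank_one L).1 hL
  have hMr := (isInvertible_iff_isFinLocFreeOfRank_one M).1 hM
  have hWr := (isInvertible_iff_isFinLocFreeOfRank_one W).1 hW.inv
  haveI := hX.like.fin L (isCoh_of_ofRank hLr) 0
  haveI := hX.like.fin M (isCoh_of_ofRank hMr) 0
  haveI := hX.like.fin W (isCoh_of_ofRank hWr) 0
  -- kernel and image
  let PP : X.Modules := L ⊞ M
  let ψ : PP ⟶ W := biprod.desc φ1 φ2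
  let K := kernel ψ
  let ι : K ⟶ PP := kernel.ι ψ
  let S : ShortComplex X.Modules := ShortComplex.mk ι (cokernel.π ι) (cokernel.condition ι)
  have hS : S.ShortExact := { exact := S.exact_of_g_is_cokernel (cokernelIsCokernel ι) }
  let G := cokernel ι
  let g : G ⟶ W := Abelian.factorThruCoimage ψ
  haveI : Mono g := inferInstanceAs (Mono (Abelian.factorThruCoimage ψ))
  have hg : cokernel.π ι ≫ g = ψ := Abelian.coimage.fac ψ
  let R : ShortComplex X.Modules := ShortComplex.mk (biprod.inl : L ⟶ PP) (biprod.snd : PP ⟶ M) biprod.inl_snd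
  have hR : R.ShortExact := (ShortComplex.Splitting.ofHasBinaryBiproduct L M).shortExact
  have aL := hX.like.adm (isCoh_of_ofRank hLr)
  have aM := hX.like.adm (isCoh_of_ofRank hMr)
  have aP : Adm k PP := adm₂ hR aL aM
  have hPc : Coh.IsCoh PP := RHom.isCoh_of_shortExact hR (isCoh_of_ofRank hLr) (isCoh_of_ofRank hMr)
  have hKc : Coh.IsCoh K := M1.isCoh_kernel hPc (isCoh_of_ofRank hWr).1 ψ
  have hGc : Coh.IsCoh G := M1.isCoh_cokernel hKc.1 hPc ι
  haveI : Mono (ι ≫ (biprod.fst : PP ⟶ L)) := by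
    refine Preadditive.mono_of_cancel_zero _ fun {T} z hz => ?_
    have h2 : z ≫ ι ≫ (biprod.snd : PP ⟶ M) = 0 := by
      rw [← cancel_mono φ2, zero_comp, Category.assoc, Category.assoc]
      have h3 : z ≫ ι ≫ ψ = 0 := by
        rw [show ι ≫ ψ = 0 from kernel.condition ψ, comp_zero]
      have hψ : ψ = (biprod.fst : PP ⟶ L) ≫ φ1 + (biprod.snd : PP ⟶ M) ≫ φ2 := biprod.desc_eq
      rw [hψ, Preadditive.comp_add, Preadditive.comp_add] at h3
      have h4 : z ≫ ι ≫ (biprod.fst : PP ⟶ L) ≫ φ1 = 0 := by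
        have := congrArg (· ≫ φ1) hz
        simpa only [Category.assoc, zero_comp] using this
      rwa [h4, zero_add] at h3
    rw [← cancel_mono ι, zero_comp]
    refine biprod.hom_ext _ _ ?_ ?_
    · rw [Category.assoc, zero_comp]; exact hz
    · rw [Category.assoc, zero_comp]; exact h2
  haveI := hX.like.fin K hKc 0
  haveI := hX.like.fin G hGc 0
  haveI := aP.fin 0
  -- dimensions of sections
  have hsum : Module.finrank k (Coh.HH X L 0) + Module.finrank k (Coh.HH X M 0) ≤ Module.finrank k (Coh.HH X PP 0) :=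
    h0_add_le (biprod.inl : L ⟶ PP) biprod.inr biprod.fst biprod.snd biprod.inl_fst biprod.inr_snd biprod.inl_snd
      biprod.inr_fst
  have hmid : Module.finrank k (Coh.HH X PP 0) ≤ Module.finrank k (Coh.HH X K 0) + Module.finrank k (Coh.HH X G 0) := by
    exact h0_le_of_cokernel (k := k) ι
  have hGle := h0_le_of_mono (k := k) g
  have hKle := h0_le_of_mono (k := k) (ι ≫ (biprod.fst : PP ⟶ L))
  have hK1 : 1 ≤ Module.finrank k (Coh.HH X K 0) := by omega
  have hG1 : 1 ≤ Module.finrank k (Coh.HH X G 0) := by omega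
  have hrank : ∀ {N E : X.Modules}, Coh.IsCoh N → FlatMod.IsFinLocFreeOfRank 1 E → ∀ f : N ⟶ E, Mono f →
      1 ≤ Module.finrank k (Coh.HH X N 0) → FlatMod.IsFinLocFreeOfRank 1 N := by
    intro N E hN hE f hf hpos
    haveI := hf
    obtain ⟨r, hr, hNr⟩ := VB17.exists_rank_of_mono hX.pid hE hN f
    rcases Nat.le_one_iff_eq_zero_or_eq_one.1 hr with h | h
    · subst h
      exfalso
      have hz := VB17.isZero_of_rank_zero hNr
      haveI : Subsingleton (Coh.HH X N 0) := subsingleton_of_forall_eq 0 fun x => by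
        have h := hmap_id (A := k) N 0 x
        rw [hz.eq_of_src (𝟙 N) 0, hmap_zero] at h
        exact h.symm
      rw [Module.finrank_zero_of_subsingleton] at hpos
      omega
    · exact h ▸ hNr
  have hKr := hrank hKc hLr (ι ≫ (biprod.fst : PP ⟶ L)) inferInstance hK1
  have hGr := hrank hGc hWr g inferInstance hG1
  have hKi := (isInvertible_iff_isFinLocFreeOfRank_one K).2 hKr
  have hGi := (isInvertible_iff_isFinLocFreeOfRank_one G).2 hGr
  -- degrees
  have hE1 := euler_add (k := k) hS (hX.like.adm hKc) (hX.like.adm hGc)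
  have hE2 := euler_add (k := k) hR aL aM
  change Curv2.euler k X PP = Curv2.euler k X K + Curv2.euler k X G at hE1
  change Curv2.euler k X PP = Curv2.euler k X L + Curv2.euler k X M at hE2
  have hdeg : Curv2.deg k X K 1 + Curv2.deg k X G 1 = 2 * (Curv2.genus k X : ℤ) - 2 := by
    have hd : Curv2.deg k X M 1 = Curv2.euler k X M - (1 : ℕ) * Curv2.euler k X (Coh.structureModule X) := rfl
    have hd' : Curv2.deg k X L 1 = Curv2.euler k X L - (1 : ℕ) * Curv2.euler k X (Coh.structureModule X) := rfl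
    simp only [Curv2.deg] at hdM ⊢
    omega
  obtain ⟨hKd, hKiso⟩ := VB17.deg_le_of_mono hX.like hKr hLr (ι ≫ (biprod.fst : PP ⟶ L))
  obtain ⟨hGd, hGiso⟩ := VB17.deg_le_of_mono hX.like hGr hWr g
  have hGlt : Curv2.deg k X G 1 < Curv2.deg k X W 1 := lt_of_le_of_ne hGd fun h => by
    haveI := hGiso h
    obtain ⟨w, hw⟩ := exists_not_mem_smul hW.inv P
    obtain ⟨a', rfl⟩ := surjective_stalkLin_of_isIso g P w
    obtain ⟨a, rfl⟩ := (epi_iff_stalk (cokernel.π ι)).1 inferInstance P a'
    refine hw ?_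
    erw [← stalkLin_comp]
    rw [hg, eq_inl_add_inr P a, map_add, ← stalkLin_comp (biprod.inl : L ⟶ PP) ψ, ← stalkLin_comp (biprod.inr : M ⟶ PP) ψ]
    erw [biprod.inl_desc, biprod.inr_desc]
    exact add_mem (hP1 _) (hP2 _)
  have hKlt : Curv2.deg k X K 1 < Curv2.deg k X L 1 := lt_of_le_of_ne hKd fun h => by
    haveI := hKiso h
    obtain ⟨w, hw⟩ := exists_not_mem_smul hW.inv Q
    obtain ⟨a, rfl⟩ := hQ1 w
    obtain ⟨b, rfl⟩ := surjective_stalkLin_of_isIso (ι ≫ (biprod.fst : PP ⟶ L)) Q a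
    refine hw ?_
    have h0' : stalkLin ψ Q (stalkLin ι Q b) = 0 := by
      rw [← stalkLin_comp, show ι ≫ ψ = 0 from kernel.condition ψ]
      show (stalkAb Q).map (0 : K ⟶ W) b = 0
      rw [Functor.map_zero]
      rfl
    rw [eq_inl_add_inr Q (stalkLin ι Q b), map_add, ← stalkLin_comp (biprod.inl : L ⟶ PP) ψ,
      ← stalkLin_comp (biprod.inr : M ⟶ PP) ψ] at h0'
    erw [biprod.inl_desc, biprod.inr_desc] at h0'
    rw [stalkLin_comp, eq_neg_of_add_eq_zero_left h0']
    exact neg_mem (hQ2 _)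
  -- Clifford on both parts
  have hcl : ∀ {N E : X.Modules}, FlatMod.IsFinLocFreeOfRank 1 N → FlatMod.IsFinLocFreeOfRank 1 E →
      ∀ f : N ⟶ E, Mono f → 1 ≤ Module.finrank k (Coh.HH X N 0) → 1 ≤ Module.finrank k (Coh.HH X E 1) →
      2 * (Module.finrank k (Coh.HH X N 0) : ℤ) ≤ Curv2.deg k X N 1 + 2 := by
    intro N E hN hE f hf hpos h1E
    haveI := hf
    have hRN := rkOne_of_invertible hX.like.dim ((isInvertible_iff_isFinLocFreeOfRank_one N).2 hN)
    haveI := hX.like.fin N hRN.coh 0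
    haveI := hX.like.fin N hRN.coh 1
    have hsurj := LinearMap.finrank_le_finrank_of_surjective (f := hmap k f 1) (VB17.h1_surjective_of_mono hX hN hE f)
    have h := hX.like.clifford hRN ((Module.finrank_pos_iff (R := k)).1 (show 0 < Module.finrank k (Coh.HH X N 0) by omega))
      ((Module.finrank_pos_iff (R := k)).1 (show 0 < Module.finrank k (Coh.HH X N 1) by omega))
    rw [h0] at h
    push_cast at h
    linarith
  have hcK := hcl hKr hLr (ι ≫ (biprod.fst : PP ⟶ L)) inferInstance hK1 h1L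
  have hcG := hcl hGr hWr g inferInstance hG1 (by rw [hW1])
  refine ⟨K, hKi, ?_, hKlt, ?_⟩ <;> omega


/-- From equality in Clifford, a smaller positive degree with equality. -/
theorem clifford_step (hdim : topologicalKrullDim X = 1) (hW : VB17.IsDualizing k W lam) {L : X.Modules}
    (hL : PicF.IsInvertible L) (heq : 2 * (Module.finrank k (Coh.HH X L 0) : ℤ) = Curv2.deg k X L 1 + 2)
    (h3 : 3 ≤ Module.finrank k (Coh.HH X L 0))
    (hdL : Curv2.deg k X L 1 < 2 * (Curv2.genus k X : ℤ) - 2) :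
    ∃ K : X.Modules, PicF.IsInvertible K ∧ 0 < Curv2.deg k X K 1 ∧ Curv2.deg k X K 1 < Curv2.deg k X L 1 ∧
      2 * (Module.finrank k (Coh.HH X K 0) : ℤ) = Curv2.deg k X K 1 + 2 := by
  obtain ⟨hX, h0, hbig⟩ := VB17.setup (k := k) (X := X) hdim
  haveI := hX.like.noetherian
  obtain ⟨hW0, hW1, hWd⟩ := hW.invariants hX h0 hbig
  obtain ⟨L', hL', ⟨eL⟩⟩ := exists_inverse hL
  let M := CohB1.tensorMod W L'
  have hM : PicF.IsInvertible M := isInvertible_tensor hW.inv hL'
  have hLr := (isInvertible_iff_isFinLocFreeOfRank_one L).1 hL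
  have hMr := (isInvertible_iff_isFinLocFreeOfRank_one M).1 hM
  have hWr := (isInvertible_iff_isFinLocFreeOfRank_one W).1 hW.inv
  haveI := hX.like.fin L (isCoh_of_ofRank hLr) 0
  haveI := hX.like.fin M (isCoh_of_ofRank hMr) 0
  haveI := hX.like.fin W (isCoh_of_ofRank hWr) 0
  have h1 := hW.finrank_h1 hX h0 hbig hL hL' (tensorComm _ _ ≪≫ eL)
  have hrr := hX.like.rr (isCoh_of_ofRank hLr)
  rw [h0, h1] at hrr
  change Module.finrank k (Coh.HH X L 1) = Module.finrank k (Coh.HH X M 0) at h1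
  change (Module.finrank k (Coh.HH X L 0) : ℤ) - Module.finrank k (Coh.HH X M 0) = _ at hrr
  push_cast at hrr
  have hdM : Curv2.deg k X M 1 = 2 * (Curv2.genus k X : ℤ) - 2 - Curv2.deg k X L 1 := by
    rw [hX.like.deg_tensor_invertible hW.inv hL', hWd, hX.like.deg_of_tensor_iso hL hL' eL]; ring
  have hq : (Module.finrank k (Coh.HH X M 0) : ℤ) = Curv2.genus k X + 1 - Module.finrank k (Coh.HH X L 0) := by
    omega
  -- the sections
  obtain ⟨zt, hzt⟩ := Module.finrank_pos_iff_exists_ne_zero.1 (show 0 < Module.finrank k (Coh.HH X M 0) by omega)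
  obtain ⟨P, hP, htP⟩ := exists_closed_vanish hdim hM (by rw [hdM]; omega) hzt
  obtain ⟨Q, hQ, htQ⟩ := exists_closed_not_vanish k hdim hM hzt
  obtain ⟨zs, hzs, hsP, hsQ⟩ := exists_vanish_two (k := k) hX.like hL h3 hP hQ
  let e2 : CohB1.tensorMod L M ≅ W := tensorComm _ _ ≪≫ tensorAssoc _ _ _ ≪≫
    tensorIso (Iso.refl W) (tensorComm _ _ ≪≫ eL) ≪≫ tensorRUnit W
  let e1 : CohB1.tensorMod M L ≅ W := tensorComm _ _ ≪≫ e2
  let φ1 : L ⟶ W := mulTo e1 (hh0 M zt)
  let φ2 : M ⟶ W := mulTo e2 (hh0 L zs)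
  have hmono : ∀ {A B : X.Modules} (e : CohB1.tensorMod B A ≅ W) (hA : PicF.IsInvertible A)
      (hB : PicF.IsInvertible B) {z : Coh.HH X B 0}, z ≠ 0 → Mono (mulTo e (hh0 B z)) := by
    intro A B e hA hB z hz
    refine VB17.mono_of_ne_zero hX hA hW.inv _ fun h => ?_
    obtain ⟨R, -, hR⟩ := exists_closed_not_vanish k hdim hB hz
    obtain ⟨w, hw⟩ := exists_not_mem_smul hW.inv R
    obtain ⟨a, ha⟩ := mulTo_surjective e hB _ R hR w
    refine hw ?_
    rw [← ha, h]
    show (stalkAb R).map (0 : A ⟶ W) a ∈ _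
    rw [Functor.map_zero]
    exact zero_mem _
  haveI : Mono φ1 := hmono e1 hL hM hzt
  haveI : Mono φ2 := hmono e2 hM hL hzs
  exact image_step hdim hW hL hM φ1 φ2 P Q (mulTo_mem_smul e1 _ P htP) (mulTo_mem_smul e2 _ P hsP)
    (mulTo_surjective e1 hM _ Q htQ) (mulTo_mem_smul e2 _ Q hsQ) hdM (by omega) (by omega) (by omega)

end Groth.Agent.CurveOm17
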