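import Groth.Agent.Lib.CurveOm17.Monogenic
import Mathlib.RingTheory.Kaehler.Basic
import Mathlib.Algebra.Polynomial.Derivation

/-!
# The coefficient of the pulled back differential of a monogenic extension is `F'(θ)`
-/

set_option autoImplicit false
set_option maxHeartbeats 400000

universe u

open Polynomial

namespace Groth.Agent.CurveOm17

variable {R A B P : Type u} [CommRing R] [CommRing A] [CommRing B] [Algebra R A] [Algebra R B] [Algebra A B]
  [IsScalarTower R A B] [AddCommGroup P] [Module B P]

/-- `Ω_{B/R} = B ω`, the differentials from `A` span `c' ω`; then `c'` is `F'(θ)` up to a unit. -/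
theorem associated_of_derivation [IsDomain A] [IsDomain B] [IsIntegrallyClosed A] [FaithfulSMul A B]
    [Module.Finite A B] (θ : B) (hθ : Algebra.adjoin A {θ} = ⊤)
    (EX : KaehlerDifferential R B ≃ₗ[B] P) (ω : P) (hω : Function.Bijective fun b : B => b • ω) (c' : B)
    (hdvd : ∀ a : A, ∃ q : B, EX (KaehlerDifferential.D R B (algebraMap A B a)) = (q * c') • ω)
    (hmem : c' • ω ∈ Submodule.span B (Set.range fun a : A => EX (KaehlerDifferential.D R B (algebraMap A B a)))) :
    Associated (aeval θ (derivative (minpoly A θ))) c' := by
  set F' := aeval θ (derivative (minpoly A θ))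
  choose r hr using fun b => hω.2 (EX (KaehlerDifferential.D R B b))
  dsimp only at hr
  have hinj : ∀ {a a' : B}, a • ω = a' • ω → a = a' := fun h => hω.1 h
  refine associated_of_dvd_dvd ?_ ?_
  · obtain ⟨D, hD⟩ := exists_derivation θ hθ
    let l : P →ₗ[B] B ⧸ Ideal.span {F'} := (D.restrictScalars R).liftKaehlerDifferential.comp EX.symm.toLinearMap
    have hl : ∀ b, l (EX (KaehlerDifferential.D R B b)) = D b := fun b => by
      show (D.restrictScalars R).liftKaehlerDifferential (EX.symm (EX _)) = D b
      rw [LinearEquiv.symm_apply_apply, Derivation.liftKaehlerDifferential_comp_D]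
      rfl
    have h0 : l (c' • ω) = 0 := by
      have h := Submodule.mem_map_of_mem (f := l) hmem
      rw [Submodule.map_span, ← Set.range_comp] at h
      have : (l ∘ fun a : A => EX (KaehlerDifferential.D R B (algebraMap A B a))) = fun _ => 0 :=
        funext fun a => (hl _).trans (D.map_algebraMap a)
      rw [this] at h
      refine (Submodule.mem_bot B).1 (Submodule.span_le.2 ?_ h)
      rintro _ ⟨_, rfl⟩
      rfl
    have h1 : r θ • l ω = 1 := by rw [← map_smul, hr, hl, hD]
    rw [← Ideal.mem_span_singleton, ← Ideal.Quotient.eq_zero_iff_mem]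
    calc (Ideal.Quotient.mk (Ideal.span {F'}) c') = c' • (r θ • l ω) := by
          rw [h1, Algebra.smul_def, mul_one]; rfl
      _ = r θ • l (c' • ω) := by rw [smul_comm, map_smul]
      _ = 0 := by rw [h0, smul_zero]
  · let J := Ideal.span {c'}
    let D₀ : Derivation R B (B ⧸ J) := Derivation.mk'
      { toFun := fun b => Ideal.Quotient.mk J (r b)
        map_add' := fun b b' => by
          rw [show r (b + b') = r b + r b' from hinj (by rw [hr, add_smul, hr, hr, map_add, map_add]), map_add]
        map_smul' := fun x b => by
          rw [RingHom.id_apply, show r (x • b) = algebraMap R B x * r b from hinj (by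
            rw [hr, Derivation.map_smul, mul_smul, hr, ← algebraMap_smul B x (KaehlerDifferential.D R B b), map_smul]), map_mul,
            Algebra.smul_def]
          rfl }
      fun a b => by
        show Ideal.Quotient.mk J (r (a * b)) = a • Ideal.Quotient.mk J (r b) + b • Ideal.Quotient.mk J (r a)
        rw [show r (a * b) = a * r b + b * r a from hinj (by
          rw [hr, Derivation.leibniz, map_add, map_smul, map_smul, add_smul, mul_smul, mul_smul, hr, hr]),
          map_add, map_mul, map_mul, Algebra.smul_def, Algebra.smul_def]
        rfl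
    have hA0 : ∀ a, D₀ (algebraMap A B a) = 0 := fun a => by
      obtain ⟨q, hq⟩ := hdvd a
      show Ideal.Quotient.mk J (r (algebraMap A B a)) = 0
      rw [Ideal.Quotient.eq_zero_iff_mem, Ideal.mem_span_singleton, show r (algebraMap A B a) = q * c' from hinj (by
        rw [hr, hq])]
      exact dvd_mul_left _ _
    let D : Derivation A B (B ⧸ J) := Derivation.mk'
      { toFun := fun b => D₀ b
        map_add' := map_add D₀
        map_smul' := fun a b => by
          rw [RingHom.id_apply, Algebra.smul_def, Derivation.leibniz, hA0, smul_zero, add_zero, algebraMap_smul] }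
      fun a b => D₀.leibniz a b
    have hD : ∀ b, D b = Ideal.Quotient.mk J (r b) := fun _ => rfl
    have hall : ∀ z : P, ∃ a q : B, z = (a * r θ + q * c') • ω := by
      intro z
      have h : EX.symm z ∈ Submodule.span B (Set.range (KaehlerDifferential.D R B)) := by
        rw [KaehlerDifferential.span_range_derivation]; trivial
      rw [← EX.apply_symm_apply z]
      generalize EX.symm z = x at h ⊢
      induction h using Submodule.span_induction with
      | mem x hx =>
        obtain ⟨b, rfl⟩ := hx
        have hb' : b ∈ Algebra.adjoin A {θ} := by rw [hθ]; exact Algebra.mem_top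
        rw [Algebra.adjoin_singleton_eq_range_aeval] at hb'
        obtain ⟨p, rfl⟩ := hb'
        have h := D.map_aeval p θ
        rw [hD, hD, Algebra.smul_def, Ideal.Quotient.algebraMap_eq, ← map_mul, Ideal.Quotient.eq] at h
        obtain ⟨q, hq⟩ := Ideal.mem_span_singleton.1 h
        refine ⟨aeval θ (derivative p), q, (hr _).symm.trans (congrArg (· • ω) ?_)⟩
        linear_combination hq
      | zero => exact ⟨0, 0, by simp⟩
      | add x x' _ _ hx hx' =>
        obtain ⟨a, q, ha⟩ := hx
        obtain ⟨a', q', ha'⟩ := hx'
        exact ⟨a + a', q + q', by rw [map_add, ha, ha', ← add_smul]; congr 1; ring⟩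
      | smul b x _ hx =>
        obtain ⟨a, q, ha⟩ := hx
        exact ⟨b * a, b * q, by rw [map_smul, ha, ← mul_smul]; congr 1; ring⟩
    obtain ⟨a, q, ha⟩ := hall ω
    have h1 : a * r θ + q * c' = 1 := (hinj (by rw [one_smul]; exact ha.symm))
    have h2 := D.map_aeval (minpoly A θ) θ
    rw [minpoly.aeval, map_zero, hD, Algebra.smul_def, Ideal.Quotient.algebraMap_eq, ← map_mul, eq_comm,
      Ideal.Quotient.eq_zero_iff_mem, Ideal.mem_span_singleton] at h2
    obtain ⟨s, hs⟩ := h2
    refine ⟨a * s + q * F', ?_⟩
    linear_combination -F' * h1 + a * hs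

end Groth.Agent.CurveOm17
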