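import Groth.Agent.Lib.CurveOm17.Perfect
import Groth.Agent.Lib.CurveCoh17.TracePair
import Groth.Agent.Lib.KoszShH13.Glue
import Groth.Agent.Lib.Twist.UniversalExist

/-!
# Functionals on `f_* O` represented by sections of `f_* W`

For a finite flat `f` and `t : f_* W → N` whose pairing `f_* O ⊗ f_* W → N` is perfect on stalks, every functional
is locally given by a unique section of `f_* W`; in particular the trace gives `N → f_* W`.
-/

set_option linter.style.haveILetI false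
set_option autoImplicit false
set_option maxHeartbeats 800000

universe u

open CategoryTheory TopologicalSpace Opposite CategoryTheory.Limits AlgebraicGeometry

namespace Groth.Agent.CurveOm17

open Groth.Agent.M1 Groth.Agent.M2 Groth.Agent.CurveCoh17 Groth.Agent.P1Split

variable {X Y : Scheme.{u}} (f : X ⟶ Y) (W : X.Modules)

/-- `f_* W`. -/
noncomputable abbrev pushW : Y.Modules := (Scheme.Modules.pushforward f).obj W

/-- The action of `f_* O` on `f_* W`, on sections. -/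
noncomputable def act {U : Y.Opens} (s : Γ(pushO f, U)) (w : Γ(pushW f W, U)) : Γ(pushW f W, U) :=
  ((show Γ(X, f ⁻¹ᵁ U) from s) • (show Γ(W, f ⁻¹ᵁ U) from w) : Γ(W, f ⁻¹ᵁ U))

theorem act_mres {U V : Y.Opens} (h : V ≤ U) (s : Γ(pushO f, U)) (w : Γ(pushW f W, U)) :
    mres (pushW f W) h (act f W s w) = act f W (mres (pushO f) h s) (mres (pushW f W) h w) :=
  Scheme.Modules.map_smul W (homOfLE (f.preimage_mono h)) (show Γ(X, f ⁻¹ᵁ U) from s) (show Γ(W, f ⁻¹ᵁ U) from w)

/-- The action of `f_* O` on `f_* W`. -/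
noncomputable def actBiMap : BiMap (pushO f) (pushW f W) (pushW f W) where
  f _ s w := act f W s w
  add_left U s s' w := add_smul (R := Γ(X, f ⁻¹ᵁ U)) (M := Γ(W, f ⁻¹ᵁ U)) s s' w
  smul_left U r s w := mul_smul (α := Γ(X, f ⁻¹ᵁ U)) (β := Γ(W, f ⁻¹ᵁ U)) (f.app U r) s w
  add_right U s w w' := smul_add (M := Γ(X, f ⁻¹ᵁ U)) (A := Γ(W, f ⁻¹ᵁ U)) s w w'
  smul_right U r s w := smul_comm (M := Γ(X, f ⁻¹ᵁ U)) (N := Γ(X, f ⁻¹ᵁ U)) (α := Γ(W, f ⁻¹ᵁ U)) s (f.app U r) w
  compat {U V} h s w := (act_mres f W h s w).symm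

variable {N : Y.Modules} (t : pushW f W ⟶ N)

/-- The pairing `f_* O ⊗ f_* W → N`. -/
noncomputable def pair : CohB1.tensorMod (pushO f) (pushW f W) ⟶ N := mkHom (actBiMap f W) ≫ t

theorem bil_pair_germ {U : Y.Opens} {y : Y} (hy : y ∈ U) (s : Γ(pushO f, U)) (w : Γ(pushW f W, U)) :
    bil (pair f W t) y ((pushO f).presheaf.germ U y hy s) ((pushW f W).presheaf.germ U y hy w) =
      N.presheaf.germ U y hy (t.app U (act f W s w)) := by
  rw [bil_apply, (LinearEquiv.symm_apply_eq _).2 (stalkEquiv_tsec _ _ y hy s w).symm, stalkLin_apply]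
  refine (M1.germ_naturality (pair f W t) U y hy _).trans (congrArg _ ?_)
  show (mkHom (actBiMap f W) ≫ t).app U _ = _
  rw [Scheme.Modules.Hom.comp_app, CategoryTheory.comp_apply]
  exact congrArg _ (mkHom_tsec (actBiMap f W) s w)

/-- The pairing has trivial right kernel on sections. -/
def RKTriv : Prop := ∀ (U : Y.Opens) (w : Γ(pushW f W, U)),
  (∀ (U' : Y.Opens) (h : U' ≤ U) (s : Γ(pushO f, U')), t.app U' (act f W s (mres (pushW f W) h w)) = 0) → w = 0

variable {f W t}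

theorem rkTriv_ext (h0 : RKTriv f W t) {U : Y.Opens} {w w' : Γ(pushW f W, U)}
    (h : ∀ (U' : Y.Opens) (hU : U' ≤ U) (s : Γ(pushO f, U')),
      t.app U' (act f W s (mres (pushW f W) hU w)) = t.app U' (act f W s (mres (pushW f W) hU w'))) : w = w' := by
  refine sub_eq_zero.1 (h0 U _ fun U' hU s => ?_)
  rw [map_sub]
  show t.app U' ((actBiMap f W).f U' s (_ - _)) = 0
  have hadd := (actBiMap f W).add_right U' s (mres (pushW f W) hU w - mres (pushW f W) hU w') (mres (pushW f W) hU w')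
  rw [sub_add_cancel] at hadd
  rw [eq_sub_of_add_eq hadd.symm, map_sub, sub_eq_zero]
  exact h U' hU s

/-- A relation checked on a basis holds for all sections below. -/
theorem eq_of_isBas {n : ℕ} {U : Y.Opens} {b : Fin n → Γ(pushO f, U)} (hb : IsBas (pushO f) U b)
    {U' : Y.Opens} (hU : U' ≤ U) (w : Γ(pushW f W, U')) (g : ∀ V : Y.Opens, V ≤ U → Γ(pushO f, V) →+ Γ(N, V))
    (hg : ∀ V hV (r : Γ(Y, V)) s, g V hV (r • s) = r • g V hV s)
    (h : ∀ (V : Y.Opens) (hV : V ≤ U') (i : Fin n),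
      t.app V (act f W (mres (pushO f) (hV.trans hU) (b i)) (mres (pushW f W) hV w)) =
        g V (hV.trans hU) (mres (pushO f) (hV.trans hU) (b i)))
    (V : Y.Opens) (hV : V ≤ U') (s : Γ(pushO f, V)) :
    t.app V (act f W s (mres (pushW f W) hV w)) = g V (hV.trans hU) s := by
  obtain ⟨c, rfl⟩ := (hb V (hV.trans hU)).2 s
  let A : Γ(pushO f, V) →+ Γ(N, V) := AddMonoidHom.mk' (fun s => t.app V (act f W s (mres (pushW f W) hV w)))
    fun s s' => by
      rw [← map_add]
      exact congrArg _ ((actBiMap f W).add_left V s s' _)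
  show A (∑ i, _) = g V _ (∑ i, _)
  rw [map_sum, map_sum]
  refine Finset.sum_congr rfl fun i _ => ?_
  rw [hg, ← h V hV i, ← Scheme.Modules.Hom.app_smul]
  exact congrArg _ ((actBiMap f W).smul_left V (c i) _ _)

/-- Perfectness at a point represents functionals nearby. -/
theorem exists_rep [IsFinite f] [Coh.IsQCoh (pushO f)] {n : ℕ} {U : Y.Opens} (hU : IsAffineOpen U)
    {b : Fin n → Γ(pushO f, U)} (hb : IsBas (pushO f) U b) {y : Y} (hy : y ∈ U)
    (hperf : ∀ φ : (pushO f).presheaf.stalk y →ₗ[Y.presheaf.stalk y] N.presheaf.stalk y,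
      ∃ w, ∀ a, bil (pair f W t) y a w = φ a)
    (G : Γ(pushO f, U) →ₗ[Γ(Y, U)] Γ(N, U)) :
    ∃ (U' : Y.Opens) (hU' : U' ≤ U), y ∈ U' ∧ ∃ w : Γ(pushW f W, U'), ∀ (V : Y.Opens) (hV : V ≤ U') (i : Fin n),
      t.app V (act f W (mres (pushO f) (hV.trans hU') (b i)) (mres (pushW f W) hV w)) =
        mres N (hV.trans hU') (G (b i)) := by
  classical
  letI := stalkModule (pushO f) hy
  letI := stalkModule N hy
  letI : Algebra Γ(Y, U) (Y.presheaf.stalk y) := (Y.presheaf.germ U y hy).hom.toAlgebra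
  haveI := hU.isLocalization_stalk ⟨y, hy⟩
  haveI := isLocalizedModule_germ (pushO f) hU hy
  haveI : IsScalarTower Γ(Y, U) (Y.presheaf.stalk y) ((pushO f).presheaf.stalk y : Type u) :=
    IsScalarTower.of_algebraMap_smul fun _ _ => rfl
  haveI : IsScalarTower Γ(Y, U) (Y.presheaf.stalk y) (N.presheaf.stalk y : Type u) :=
    IsScalarTower.of_algebraMap_smul fun _ _ => rfl
  have hunit : ∀ c : (hU.primeIdealOf ⟨y, hy⟩).asIdeal.primeCompl,
      IsUnit (algebraMap Γ(Y, U) (Module.End Γ(Y, U) (N.presheaf.stalk y : Type u)) c) := fun c => by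
      have hu : IsUnit (algebraMap Γ(Y, U) (Y.presheaf.stalk y) c) := IsLocalization.map_units _ c
      rw [Module.End.isUnit_iff]
      refine ⟨fun a a' h => ?_, fun a => ⟨(hu.unit⁻¹ : (Y.presheaf.stalk y)ˣ) • a, ?_⟩⟩
      · exact hu.smul_left_cancel.1 h
      · show algebraMap Γ(Y, U) (Y.presheaf.stalk y) c • _ = a
        exact smul_inv_smul hu.unit a
  let φ₀ := IsLocalizedModule.lift (hU.primeIdealOf ⟨y, hy⟩).asIdeal.primeCompl (germₗ (pushO f) hy)
    ((germₗ N hy).comp G) hunit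
  let φ : (pushO f).presheaf.stalk y →ₗ[Y.presheaf.stalk y] N.presheaf.stalk y :=
    LinearMap.extendScalarsOfIsLocalization (hU.primeIdealOf ⟨y, hy⟩).asIdeal.primeCompl _ φ₀
  obtain ⟨w₀, hw₀⟩ := hperf φ
  obtain ⟨U₁, hy₁, w, rfl⟩ := (pushW f W).presheaf.exists_germ_eq w₀
  have key : ∀ i, ∃ U' : Y.Opens, y ∈ U' ∧ ∃ (h₁ : U' ≤ U) (h₂ : U' ≤ U₁),
      t.app U' (act f W (mres (pushO f) h₁ (b i)) (mres (pushW f W) h₂ w)) = mres N h₁ (G (b i)) := by
    intro i
    have hy' : y ∈ U ⊓ U₁ := ⟨hy, hy₁⟩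
    have h := hw₀ ((pushO f).presheaf.germ U y hy (b i))
    rw [← germ_mres (pushO f) (inf_le_left : U ⊓ U₁ ≤ U) hy', ← germ_mres (pushW f W) (inf_le_right : U ⊓ U₁ ≤ U₁) hy',
      bil_pair_germ] at h
    have h2 : φ ((pushO f).presheaf.germ (U ⊓ U₁) y hy' (mres (pushO f) inf_le_left (b i))) =
        N.presheaf.germ (U ⊓ U₁) y hy' (mres N inf_le_left (G (b i))) := by
      rw [germ_mres, germ_mres]
      exact IsLocalizedModule.lift_apply (hU.primeIdealOf ⟨y, hy⟩).asIdeal.primeCompl (germₗ (pushO f) hy) _ hunit (b i)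
    rw [h2] at h
    obtain ⟨U', hy'', i₁, i₂, he⟩ := N.presheaf.germ_eq y (U := U ⊓ U₁) (V := U ⊓ U₁) hy' hy' _ _ h
    refine ⟨U', hy'', i₁.le.trans inf_le_left, i₁.le.trans inf_le_right, ?_⟩
    have h3 := he
    change mres N i₁.le _ = mres N i₁.le _ at h3
    rw [← M1.app_mres, act_mres, mres_mres, mres_mres, mres_mres] at h3
    exact h3
  choose Uᵢ hyi h₁ h₂ hi using key
  let U' : Y.Opens := U ⊓ U₁ ⊓ Finset.univ.inf Uᵢ
  have hUi : ∀ i, U' ≤ Uᵢ i := fun i => inf_le_right.trans (Finset.inf_le (Finset.mem_univ i))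
  have hle : U' ≤ U₁ := inf_le_left.trans inf_le_right
  refine ⟨U', inf_le_left.trans inf_le_left, ⟨⟨hy, hy₁⟩, ?_⟩, mres (pushW f W) hle w, fun V hV i => ?_⟩
  · show y ∈ Finset.univ.inf Uᵢ
    clear_value φ
    induction (Finset.univ : Finset (Fin n)) using Finset.induction_on with
    | empty => trivial
    | insert i s _ ih => rw [Finset.inf_insert]; exact ⟨hyi i, ih⟩
  · have h := congrArg (mres N (hV.trans (hUi i))) (hi i)
    rw [← M1.app_mres, act_mres, mres_mres, mres_mres, mres_mres] at h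
    rw [mres_mres]
    exact h

/-- The trace lifts to `N → f_* W`. -/
theorem exists_lift [IsFinite f] [Flat f] [LocallyOfFinitePresentation f] (hN : PicF.IsInvertible N)
    (h0 : RKTriv f W t) (hperf : ∀ (y : Y) (φ : (pushO f).presheaf.stalk y →ₗ[Y.presheaf.stalk y] N.presheaf.stalk y),
      ∃ w, ∀ a, bil (pair f W t) y a w = φ a) (τ : pushO f ⟶ Coh.structureModule Y) :
    ∃ ψ : N ⟶ pushW f W, ∀ (U : Y.Opens) (m : Γ(N, U)) (s : Γ(pushO f, U)),
      t.app U (act f W s (ψ.app U m)) = (show Γ(Y, U) from τ.app U s) • m := by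
  haveI : Coh.IsQCoh (pushO f) := M1.isQCoh_push f (M1.isQCoh_structureModule X)
  let Sol : ∀ (U : Y.Opens), Γ(N, U) → Γ(pushW f W, U) → Prop := fun U m w =>
    ∀ (V : Y.Opens) (h : V ≤ U) (s : Γ(pushO f, V)),
      t.app V (act f W s (mres (pushW f W) h w)) = (show Γ(Y, V) from τ.app V s) • mres N h m
  let P : Y.affineOpens → Prop := fun U => ∃ e : Γ(N, U.1), Twist.IsGen N U.1 e ∧ ∃ w, Sol U.1 e w
  have hsol : ∀ {U : Y.Opens} {m : Γ(N, U)} {w} (r : Γ(Y, U)), Sol U m w → Sol U (r • m) (r • w) := by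
    intro U m w r h V hV s
    rw [mres_smul, mres_smul, smul_comm, ← h V hV s, ← Scheme.Modules.Hom.app_smul]
    exact congrArg _ ((actBiMap f W).smul_right V _ _ _)
  have hex : ∀ (U : Y.affineOpens), P U → ∀ m : Γ(N, U.1), ∃ w, Sol U.1 m w := by
    rintro U ⟨e, he, w, hw⟩ m
    obtain ⟨r, hr⟩ := (he U.1 le_rfl).2 m
    dsimp only at hr
    rw [mres_id] at hr
    exact ⟨r • w, hr ▸ hsol r hw⟩
  choose l hl using hex
  have huniq : ∀ {U : Y.Opens} {m : Γ(N, U)} {w w'}, Sol U m w → Sol U m w' → w = w' := fun h h' =>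
    rkTriv_ext h0 fun V hV s => (h V hV s).trans (h' V hV s).symm
  have hadd : ∀ {U : Y.Opens} {m m' : Γ(N, U)} {w w'}, Sol U m w → Sol U m' w' → Sol U (m + m') (w + w') := by
    intro U m m' w w' h h' V hV s
    rw [show mres N hV (m + m') = mres N hV m + mres N hV m' from map_add _ _ _, smul_add, ← h V hV s, ← h' V hV s,
      ← map_add, show mres (pushW f W) hV (w + w') = mres (pushW f W) hV w + mres (pushW f W) hV w' from map_add _ _ _]
    exact congrArg _ ((actBiMap f W).add_right V s _ _)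
  have hbasis : KoszShH13.IsAffBasis P := fun O y hy => by
    obtain ⟨D, g, hyD, hg⟩ := ProjUP.exists_isGen_of_invertible hN y
    obtain ⟨U, hU, hyU, hUle, n, b, hb⟩ := Trace12.exists_affine_hasBas (RelSpec.QCAlg.directImage f)
      (isFinLocFree_pushO f) (show y ∈ O ⊓ D from ⟨hy, hyD⟩)
    replace hb : IsBas (pushO f) U b := hb
    let e : Γ(N, U) := mres N (hUle.trans inf_le_right) g
    let G : Γ(pushO f, U) →ₗ[Γ(Y, U)] Γ(N, U) :=
      { toFun := fun s => (show Γ(Y, U) from τ.app U s) • e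
        map_add' := fun s s' => by rw [map_add]; exact add_smul (R := Γ(Y, U)) _ _ e
        map_smul' := fun r s => by
          rw [Scheme.Modules.Hom.app_smul]
          exact mul_smul (α := Γ(Y, U)) r _ e }
    obtain ⟨U', hU', hyU', w, hw⟩ := exists_rep hU hb hyU (hperf y) G
    obtain ⟨U₂, hU₂, hyU₂, hle₂⟩ := exists_isAffineOpen_mem_and_subset hyU'
    refine ⟨⟨U₂, hU₂⟩, ⟨mres N ((hle₂ : U₂ ≤ U').trans hU') e,
      (hg.mres (hUle.trans inf_le_right)).mres _, mres (pushW f W) hle₂ w, fun V hV s => ?_⟩,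
      hyU₂, ((hle₂ : U₂ ≤ U').trans hU').trans (hUle.trans inf_le_left)⟩
    rw [mres_mres, mres_mres]
    refine eq_of_isBas hb hU' w
      (fun V hVU => AddMonoidHom.mk' (fun s => (show Γ(Y, V) from τ.app V s) • mres N hVU e)
        (fun s s' => by rw [map_add]; exact add_smul (R := Γ(Y, V)) _ _ _))
      (fun V hVU r s => by
        show (show Γ(Y, V) from τ.app V (r • s)) • mres N hVU e = r • ((show Γ(Y, V) from τ.app V s) • mres N hVU e)
        rw [Scheme.Modules.Hom.app_smul]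
        exact mul_smul (α := Γ(Y, V)) r _ _) (fun V hVU i => ?_) V (hV.trans hle₂) s
    rw [hw V hVU i]
    show mres N (hVU.trans hU') ((show Γ(Y, U) from τ.app U (b i)) • e) =
      (show Γ(Y, V) from τ.app V (mres (pushO f) (hVU.trans hU') (b i))) • mres N (hVU.trans hU') e
    rw [mres_smul, M1.app_mres τ]
    rfl
  obtain ⟨ψ, hψ⟩ := KoszShH13.exists_glue hbasis
    (fun U hU => AddMonoidHom.mk' (l U hU) fun m m' => huniq (hl U hU _) (hadd (hl U hU m) (hl U hU m')))
    (fun U hU r m => huniq (hl U hU _) (hsol r (hl U hU m)))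
    (fun U hU V hV h m => huniq (fun O hO s => by
      rw [mres_mres, mres_mres]
      exact hl U hU m O _ s) (hl V hV _))
  refine ⟨ψ, fun U m s => M1.section_ext _ _ fun y hy => ?_⟩
  obtain ⟨V, hV, hyV, hVU⟩ := hbasis U y hy
  rw [← germ_mres N hVU hyV, ← germ_mres N hVU hyV]
  refine congrArg _ ?_
  rw [← M1.app_mres, act_mres, ← M1.app_mres ψ, hψ V hV, mres_smul]
  have h := hl V hV (mres N hVU m) V.1 le_rfl (mres (pushO f) hVU s)
  rw [mres_id, mres_id] at h
  refine h.trans ?_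
  rw [M1.app_mres τ]
  rfl

end Groth.Agent.CurveOm17
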