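import Groth.Agent.Lib.CurveOm17.Chart
import Groth.Agent.Lib.CurveOm17.Lift
import Groth.Agent.Lib.CurveOm17.DerivAssoc
import Groth.Agent.Lib.Omega12.Finite
import Groth.Agent.Lib.Trace12.Hom

/-!
# Coefficients of the trace lift and of the differential on a monogenic chart
-/

set_option linter.style.haveILetI false
set_option autoImplicit false
set_option maxHeartbeats 800000

universe u

open CategoryTheory TopologicalSpace Opposite CategoryTheory.Limits AlgebraicGeometry Polynomial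

namespace Groth.Agent.CurveOm17

open Groth.Agent.M1 Groth.Agent.M2 Groth.Agent.CurveCoh17 Groth.Agent.P1Split

variable {X Y : Scheme.{u}} (f : X ⟶ Y) {W : X.Modules} {N : Y.Modules} {t : pushW f W ⟶ N}

theorem smul_inj_of_isGen {M : X.Modules} {V : X.Opens} {w : Γ(M, V)} (hw : Twist.IsGen M V w) {a a' : Γ(X, V)}
    (h : a • w = a' • w) : a = a' :=
  (hw V le_rfl).1 (by dsimp only; rw [M1.mres_id]; exact h)

theorem exists_eq_smul_of_isGen {M : X.Modules} {V : X.Opens} {w : Γ(M, V)} (hw : Twist.IsGen M V w) (z : Γ(M, V)) :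
    ∃ a : Γ(X, V), z = a • w := by
  obtain ⟨a, ha⟩ := (hw V le_rfl).2 z
  exact ⟨a, by dsimp only at ha; rw [M1.mres_id] at ha; exact ha.symm⟩

/-- The coefficient of a section, as a linear functional. -/
theorem exists_functional {U : Y.Opens} {m : Γ(N, U)} (hm : Twist.IsGen N U m) (w : Γ(W, f ⁻¹ᵁ U)) :
    letI := (f.app U).hom.toAlgebra
    ∃ G : Γ(X, f ⁻¹ᵁ U) →ₗ[Γ(Y, U)] Γ(Y, U),
      ∀ s : Γ(X, f ⁻¹ᵁ U), t.app U (act f W (s : Γ(pushO f, U)) w) = G s • m := by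
  letI := (f.app U).hom.toAlgebra
  choose G hG using fun s : Γ(X, f ⁻¹ᵁ U) => exists_eq_smul_of_isGen hm (t.app U (act f W (s : Γ(pushO f, U)) w))
  refine ⟨{ toFun := G, map_add' := fun s s' => smul_inj_of_isGen hm ?_,
            map_smul' := fun r s => smul_inj_of_isGen hm ?_ }, hG⟩
  · rw [add_smul, ← hG, ← hG, ← hG, ← map_add]
    exact congrArg _ ((actBiMap f W).add_left U _ _ _)
  · rw [RingHom.id_apply, smul_eq_mul, mul_smul, ← hG, ← hG, ← Scheme.Modules.Hom.app_smul]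
    exact congrArg _ ((actBiMap f W).smul_left U r _ _)

/-- The trace condition read in a functional. -/
theorem trace_eq [IsFinite f] [Flat f] [LocallyOfFinitePresentation f] {U : Y.Opens} {n : ℕ}
    {b : Fin n → Γ(pushO f, U)} (hb : IsBas (pushO f) U b)
    {m : Γ(N, U)} (hm : Twist.IsGen N U m) {w : Γ(W, f ⁻¹ᵁ U)} (c : Γ(X, f ⁻¹ᵁ U))
    {τ : pushO f ⟶ Coh.structureModule Y}
    (hτ : τ = Trace12.traceHom (RelSpec.QCAlg.directImage f) (isFinLocFree_pushO f))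
    (hψ : ∀ s : Γ(pushO f, U), t.app U (act f W s (c • w : Γ(W, f ⁻¹ᵁ U))) =
      (show Γ(Y, U) from τ.app U s) • m) :
    letI := (f.app U).hom.toAlgebra
    ∀ (G : Γ(X, f ⁻¹ᵁ U) →ₗ[Γ(Y, U)] Γ(Y, U))
      (_ : ∀ s : Γ(X, f ⁻¹ᵁ U), t.app U (act f W (s : Γ(pushO f, U)) w) = G s • m) (s : Γ(X, f ⁻¹ᵁ U)),
      Algebra.trace Γ(Y, U) Γ(X, f ⁻¹ᵁ U) s = G (c * s) := by
  letI := (f.app U).hom.toAlgebra
  subst hτ
  intro G hG s
  have hbas : Trace12.HasBas (RelSpec.QCAlg.directImage f) U := ⟨n, b, hb⟩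
  refine smul_inj_of_isGen hm ?_
  rw [← hG]
  refine Eq.trans ?_ ((hψ (s : Γ(pushO f, U))).symm.trans (congrArg _ ?_))
  · refine congrArg (fun a : Γ(Y, U) => a • m) ?_
    exact (Trace12.traceHom_app_of_hasBas _ _ hbas (s : Γ(pushO f, U))).symm
  · show ((s : Γ(X, f ⁻¹ᵁ U)) • (c • w : Γ(W, f ⁻¹ᵁ U)) : Γ(W, f ⁻¹ᵁ U)) = (c * s : Γ(X, f ⁻¹ᵁ U)) • w
    rw [← mul_smul, mul_comm]

/-- Perfectness makes the comparison factor a unit near the fibre. -/
theorem exists_isUnit_res [IsFinite f] [Flat f] [LocallyOfFinitePresentation f] (h0 : RKTriv f W t)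
    {U : Y.Opens} (hU : IsAffineOpen U) {n : ℕ} {b : Fin n → Γ(pushO f, U)} (hb : IsBas (pushO f) U b)
    {m : Γ(N, U)} {w : Γ(W, f ⁻¹ᵁ U)} (hw : Twist.IsGen W (f ⁻¹ᵁ U) w) {y : Y} (hy : y ∈ U)
    (hperf : ∀ φ : (pushO f).presheaf.stalk y →ₗ[Y.presheaf.stalk y] N.presheaf.stalk y,
      ∃ w, ∀ a, bil (pair f W t) y a w = φ a) (v : Γ(X, f ⁻¹ᵁ U)) :
    letI := (f.app U).hom.toAlgebra
    ∀ (G₀ : Γ(X, f ⁻¹ᵁ U) →ₗ[Γ(Y, U)] Γ(Y, U))
      (_ : ∀ s : Γ(X, f ⁻¹ᵁ U), t.app U (act f W (s : Γ(pushO f, U)) w) = G₀ (v * s) • m),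
      ∃ (U' : Y.Opens) (hU' : U' ≤ U), y ∈ U' ∧ IsUnit (X.presheaf.map (homOfLE (f.preimage_mono hU')).op v) := by
  letI := (f.app U).hom.toAlgebra
  intro G₀ hG
  haveI : Coh.IsQCoh (pushO f) := M1.isQCoh_push f (M1.isQCoh_structureModule X)
  let Gm : Γ(pushO f, U) →ₗ[Γ(Y, U)] Γ(N, U) :=
    { toFun := fun s => G₀ (show Γ(X, f ⁻¹ᵁ U) from s) • m
      map_add' := fun s s' => by
        rw [← add_smul]
        exact congrArg (fun a : Γ(Y, U) => a • m) (map_add G₀ _ _)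
      map_smul' := fun r s => by
        rw [RingHom.id_apply, ← mul_smul]
        exact congrArg (fun a : Γ(Y, U) => a • m) (map_smul G₀ r (show Γ(X, f ⁻¹ᵁ U) from s)) }
  obtain ⟨U', hU', hyU', w', hw'⟩ := exists_rep hU hb hy hperf Gm
  obtain ⟨v', hv'⟩ := (hw (f ⁻¹ᵁ U') (f.preimage_mono hU')).2 (w' : Γ(W, f ⁻¹ᵁ U'))
  dsimp only at hv'
  refine ⟨U', hU', hyU', IsUnit.of_mul_eq_one v' ((hw _ (f.preimage_mono hU')).1 ?_)⟩
  dsimp only
  rw [one_smul, mul_smul, hv']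
  have hlin : ∀ (O : Y.Opens) (hO : O ≤ U') (s : Γ(pushO f, U)),
      t.app O (act f W (mres (pushO f) (hO.trans hU') s) (mres (pushW f W) hO w')) =
        mres N (hO.trans hU') (Gm s) := fun O hO s => by
    obtain ⟨r, rfl⟩ := (hb U le_rfl).2 s
    let L₁ : Γ(pushO f, U) →+ Γ(N, O) := AddMonoidHom.mk'
      (fun s => t.app O (act f W (mres (pushO f) (hO.trans hU') s) (mres (pushW f W) hO w'))) fun s s' => by
        exact (congrArg (fun z => t.app O (act f W z (mres (pushW f W) hO w')))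
          (map_add (mres (pushO f) (hO.trans hU')).hom s s')).trans
          ((congrArg (fun z => t.app O z) ((actBiMap f W).add_left O _ _ _)).trans (map_add _ _ _))
    show L₁ (∑ i, _) = mres N _ (Gm (∑ i, _))
    rw [map_sum, map_sum, map_sum]
    refine Finset.sum_congr rfl fun i _ => ?_
    rw [M1.mres_id, LinearMap.map_smul, mres_smul]
    show t.app O (act f W (mres (pushO f) (hO.trans hU') (r i • b i)) (mres (pushW f W) hO w')) = _
    refine Eq.trans (congrArg (fun z => t.app O (act f W z (mres (pushW f W) hO w'))) (mres_smul _ _ _ _)) ?_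
    refine Eq.trans (congrArg (fun z => t.app O z) ((actBiMap f W).smul_left O _ _ _)) ?_
    exact (Scheme.Modules.Hom.app_smul t _ _).trans (congrArg _ (hw' O hO i))
  show act f W (mres (pushO f) hU' (v : Γ(pushO f, U))) w' = mres (pushW f W) hU' (w : Γ(pushW f W, U))
  refine rkTriv_ext h0 fun O hO s => ?_
  let g : ∀ V : Y.Opens, V ≤ U → Γ(pushO f, V) →+ Γ(N, V) := fun V hV => AddMonoidHom.mk'
    (fun s => t.app V (act f W s (mres (pushW f W) hV (w : Γ(pushW f W, U))))) fun s s' => by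
      rw [← map_add]
      exact congrArg _ ((actBiMap f W).add_left V s s' _)
  refine (eq_of_isBas hb hU' (act f W (mres (pushO f) hU' (v : Γ(pushO f, U))) w') g (fun V hV r s => ?_)
    (fun V hV i => ?_) O hO s).trans ?_
  · show t.app V (act f W (r • s) _) = r • t.app V (act f W s _)
    rw [← Scheme.Modules.Hom.app_smul]
    exact congrArg _ ((actBiMap f W).smul_left V r s _)
  · have h1 := hlin V hV ((v * (show Γ(X, f ⁻¹ᵁ U) from b i) : Γ(X, f ⁻¹ᵁ U)) : Γ(pushO f, U))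
    have h2 : Gm ((v * (show Γ(X, f ⁻¹ᵁ U) from b i) : Γ(X, f ⁻¹ᵁ U)) : Γ(pushO f, U)) =
        t.app U (act f W (b i) (w : Γ(pushW f W, U))) := (hG _).symm
    rw [h2, ← M1.app_mres, act_mres] at h1
    refine Eq.trans ?_ h1
    rw [act_mres, mres_mres]
    refine congrArg _ ?_
    show (_ : Γ(X, f ⁻¹ᵁ V)) • ((_ : Γ(X, f ⁻¹ᵁ V)) • (_ : Γ(W, f ⁻¹ᵁ V))) = (X.presheaf.map _ (v * _)) • _
    rw [map_mul, ← mul_smul, mul_comm]
    rfl
  · show t.app O (act f W s (mres (pushW f W) (hO.trans hU') (w : Γ(pushW f W, U)))) =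
      t.app O (act f W s (mres (pushW f W) hO (mres (pushW f W) hU' (w : Γ(pushW f W, U)))))
    rw [mres_mres]

variable {k : Type u} [Field k] [X.Over (Spec (CommRingCat.of k))] [Y.Over (Spec (CommRingCat.of k))]

/-- The coefficient of the pulled back differential on a monogenic chart. -/
theorem associated_diff [IsIntegral X] [IsIntegral Y] [IsFinite f]
    (hf : f ≫ (Y ↘ Spec (CommRingCat.of k)) = X ↘ Spec (CommRingCat.of k))
    {ΩX : X.Modules} {dX : OmegaSh.Der (X ↘ Spec (CommRingCat.of k)) ΩX} (hdX : OmegaSh.IsUniversal dX)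
    {ΩY : Y.Modules} {dY : OmegaSh.Der (Y ↘ Spec (CommRingCat.of k)) ΩY} (hdY : OmegaSh.IsUniversal dY)
    {φ : ΩY ⟶ pushW f ΩX} (hφ : ∀ (U : Y.Opens) (a : Γ(Y, U)), φ.app U (dY.app U a) = dX.app (f ⁻¹ᵁ U) (f.app U a))
    {U : Y.Opens} (hU : IsAffineOpen U) [Nonempty U] [Nonempty (f ⁻¹ᵁ U : X.Opens)] [IsIntegrallyClosed Γ(Y, U)]
    {η : Γ(ΩY, U)} (hη : Twist.IsGen ΩY U η) {ω : Γ(ΩX, f ⁻¹ᵁ U)} (hω : Twist.IsGen ΩX (f ⁻¹ᵁ U) ω)
    (θ : Γ(X, f ⁻¹ᵁ U)) (hθ : letI := (f.app U).hom.toAlgebra; Algebra.adjoin Γ(Y, U) {θ} = ⊤)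
    (hinj : Function.Injective (f.app U)) (c' : Γ(X, f ⁻¹ᵁ U)) (hc' : (φ.app U η : Γ(ΩX, f ⁻¹ᵁ U)) = c' • ω) :
    letI := (f.app U).hom.toAlgebra
    Associated (aeval θ (derivative (minpoly Γ(Y, U) θ))) c' := by
  letI : Algebra Γ(Y, U) Γ(X, f ⁻¹ᵁ U) := (f.app U).hom.toAlgebra
  haveI : Module.Finite Γ(Y, U) Γ(X, f ⁻¹ᵁ U) := f.finite_app U hU
  haveI : FaithfulSMul Γ(Y, U) Γ(X, f ⁻¹ᵁ U) := (faithfulSMul_iff_algebraMap_injective _ _).2 hinj
  haveI : Nonempty ((f ⁻¹ᵁ U : X.Opens) : Scheme.{u}) := ‹Nonempty (f ⁻¹ᵁ U : X.Opens)›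
  letI : Algebra Γ(Spec (CommRingCat.of k), ⊤) Γ(Y, U) :=
    ((Y ↘ Spec (CommRingCat.of k)).appLE ⊤ U le_top).hom.toAlgebra
  letI : Algebra Γ(Spec (CommRingCat.of k), ⊤) Γ(X, f ⁻¹ᵁ U) :=
    ((X ↘ Spec (CommRingCat.of k)).appLE ⊤ (f ⁻¹ᵁ U) le_top).hom.toAlgebra
  haveI : IsScalarTower Γ(Spec (CommRingCat.of k), ⊤) Γ(Y, U) Γ(X, f ⁻¹ᵁ U) := IsScalarTower.of_algebraMap_eq fun r => by
    show _ = ((Y ↘ Spec (CommRingCat.of k)).appLE ⊤ U le_top ≫ f.app U) r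
    rw [Scheme.Hom.app_eq_appLE, Scheme.Hom.appLE_comp_appLE]
    simp only [hf]
    rfl
  let EX := Omega12.sectLinEquiv _ hdX (hU.preimage f) (isAffineOpen_top _)
    (le_top : f ⁻¹ᵁ U ≤ (X ↘ Spec (CommRingCat.of k)) ⁻¹ᵁ ⊤)
  let EY := Omega12.sectLinEquiv _ hdY hU (isAffineOpen_top _) (le_top : U ≤ (Y ↘ Spec (CommRingCat.of k)) ⁻¹ᵁ ⊤)
  have hEX : ∀ b, EX (KaehlerDifferential.D _ _ b) = dX.app (f ⁻¹ᵁ U) b := fun b =>
    Omega12.sectLinEquiv_D _ hdX (hU.preimage f) (isAffineOpen_top _) le_top b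
  have hEY : ∀ b, EY (KaehlerDifferential.D _ _ b) = dY.app U b := fun b =>
    Omega12.sectLinEquiv_D _ hdY hU (isAffineOpen_top _) le_top b
  refine associated_of_derivation θ hθ EX ω ?_ c' (fun a => ?_) ?_
  · exact ⟨fun a a' h => smul_inj_of_isGen hω h, fun z => (exists_eq_smul_of_isGen hω z).imp fun a ha => ha.symm⟩
  · obtain ⟨q, hq⟩ := exists_eq_smul_of_isGen hη (dY.app U a)
    refine ⟨f.app U q, ?_⟩
    rw [RingHom.algebraMap_toAlgebra, hEX, ← hφ, hq, Scheme.Modules.Hom.app_smul, mul_smul, ← hc']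
    rfl
  · rw [← hc']
    have key : ∀ x : KaehlerDifferential Γ(Spec (CommRingCat.of k), ⊤) Γ(Y, U), (φ.app U (EY x) : Γ(ΩX, f ⁻¹ᵁ U)) ∈
        Submodule.span Γ(X, f ⁻¹ᵁ U) (Set.range fun a : Γ(Y, U) =>
          EX (KaehlerDifferential.D _ _ (algebraMap Γ(Y, U) Γ(X, f ⁻¹ᵁ U) a))) := fun x => by
      have hx : x ∈ Submodule.span Γ(Y, U) (Set.range (KaehlerDifferential.D Γ(Spec (CommRingCat.of k), ⊤) Γ(Y, U))) := by
        rw [KaehlerDifferential.span_range_derivation]; trivial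
      induction hx using Submodule.span_induction with
      | mem x hx =>
        obtain ⟨a, rfl⟩ := hx
        refine Submodule.subset_span ⟨a, ?_⟩
        show EX _ = _
        rw [hEX, hEY, hφ, RingHom.algebraMap_toAlgebra]
      | zero => rw [map_zero, map_zero]; exact zero_mem _
      | add x x' _ _ hx hx' => rw [map_add, map_add]; exact add_mem hx hx'
      | smul a x _ hx =>
        rw [map_smul, Scheme.Modules.Hom.app_smul]
        exact Submodule.smul_mem _ (f.app U a) hx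
    have h := key (EY.symm η)
    rwa [EY.apply_symm_apply] at h

end Groth.Agent.CurveOm17
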