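import Groth.Agent.Lib.VB17.SmoothDuality
import Groth.Agent.Lib.TensorMod.IdealMod

/-!
# Ideals of finite colength on a smooth curve
-/

set_option linter.style.haveILetI false
set_option autoImplicit false

universe u

open CategoryTheory CategoryTheory.Limits AlgebraicGeometry
open Curves

namespace Groth.Agent.CurveOm17

/-- An ideal of colength `n ≥ 2` is invertible of degree `-n`. -/
theorem idealMod_of_colength {k : Type u} [Field k] [IsAlgClosed k]
    (X : Scheme.{u}) [X.Over (Spec (CommRingCat.of k))] [IsIntegral X]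
    [IsProper (X ↘ Spec (CommRingCat.of k))] [Smooth (X ↘ Spec (CommRingCat.of k))]
    (hdim : topologicalKrullDim X = 1) (I : X.IdealSheafData) {n : ℕ} (hn : 2 ≤ n)
    (hI : Module.finrank k (Coh.HH X (ClSub.quotMod I) 0) = n) :
    PicF.IsInvertible (ClSub.idealMod I) ∧ Curv2.deg k X (ClSub.idealMod I) 1 = -(n : ℤ) := by
  obtain ⟨hX, h0, -⟩ := Groth.Agent.VB17.setup (k := k) (X := X) hdim
  haveI := hX.like.noetherian
  have hO := (Groth.Agent.M2.isInvertible_iff_isFinLocFreeOfRank_one _).1 (PicLoc.isInvertible_structureModule X)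
  let T : ShortComplex X.Modules := ShortComplex.mk (ClSub.idealModι I) (ClSub.toSubscheme I) (kernel.condition _)
  have hT : T.ShortExact := Groth.Agent.M2.shortExact_idealMod I
  haveI : Mono (ClSub.idealModι I) := hT.mono_f
  have hcI := Groth.Agent.CurveCoh17.isCoh_idealMod (X := X) I
  obtain ⟨r, hr, hIr⟩ := Groth.Agent.VB17.exists_rank_of_mono hX.pid hO hcI (ClSub.idealModι I)
  have he := Groth.Agent.CurveCoh17.euler_add hT (hX.like.adm hcI) (hX.like.adm (Groth.Agent.CurveCoh17.isCoh_quotMod I))
  haveI hQ1 : Subsingleton (Coh.HH X (ClSub.quotMod I) 1) := by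
    have hsurj := Groth.Agent.VB17.h1_surjective_of_epi hX hT hcI.1
    rcases Nat.le_one_iff_eq_zero_or_eq_one.1 hr with h | h
    · subst h
      exfalso
      have hz := Groth.Agent.VB17.isZero_of_rank_zero hIr
      haveI : Mono T.g := hT.exact.mono_g (hz.eq_of_src _ _)
      haveI : Epi T.g := hT.epi_g
      haveI : IsIso T.g := isIso_of_mono_of_epi T.g
      have h4 := (Groth.Agent.CurveCoh17.hequiv k (asIso T.g) 0).finrank_eq
      change Module.finrank k (Coh.HH X (Coh.structureModule X) 0) = Module.finrank k (Coh.HH X (ClSub.quotMod I) 0) at h4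
      omega
    · subst h
      have hf := Groth.Agent.VB17.h1_surjective_of_mono hX hIr hO (ClSub.idealModι I)
      refine subsingleton_of_forall_eq 0 fun q => ?_
      obtain ⟨a, rfl⟩ := hsurj q
      obtain ⟨b, rfl⟩ := hf a
      exact (Groth.Agent.CurveCoh17.exact_hmap_hmap k hT 1 _).2 ⟨b, rfl⟩
  rcases Nat.le_one_iff_eq_zero_or_eq_one.1 hr with h | h
  · subst h
    exfalso
    have hz := Groth.Agent.VB17.isZero_of_rank_zero hIr
    haveI : Mono T.g := hT.exact.mono_g (hz.eq_of_src _ _)
    haveI : Epi T.g := hT.epi_g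
    haveI : IsIso T.g := isIso_of_mono_of_epi T.g
    have h4 := (Groth.Agent.CurveCoh17.hequiv k (asIso T.g) 0).finrank_eq
    change Module.finrank k (Coh.HH X (Coh.structureModule X) 0) = Module.finrank k (Coh.HH X (ClSub.quotMod I) 0) at h4
    omega
  subst h
  have hIi := (Groth.Agent.M2.isInvertible_iff_isFinLocFreeOfRank_one _).2 hIr
  have hdI : Curv2.deg k X (ClSub.idealMod I) 1 = -(n : ℤ) := by
    change Curv2.euler k X (Coh.structureModule X) = Curv2.euler k X (ClSub.idealMod I) + Curv2.euler k X (ClSub.quotMod I) at he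
    rw [(hX.like.adm (Groth.Agent.CurveCoh17.isCoh_quotMod I)).euler_eq,
      Module.finrank_zero_of_subsingleton (M := Coh.HH X (ClSub.quotMod I) 1), hI] at he
    rw [Curv2.deg, he]
    push_cast
    ring
  exact ⟨hIi, hdI⟩

end Groth.Agent.CurveOm17
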