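import Groth.Agent.Lib.Omega12.Universal
import Groth.Agent.Lib.Omega12.Restrict

/-!
# The first exact sequence of differentials for sheaves

For `X ⟶ Y ⟶ S` the cokernel of `f^* Ω_{Y/S} ⟶ Ω_{X/S}` is `Ω_{X/Y}`.
-/

set_option autoImplicit false
set_option backward.isDefEq.respectTransparency false
set_option backward.isDefEq.respectTransparency.types false

universe u

open CategoryTheory CategoryTheory.Limits AlgebraicGeometry TopologicalSpace Opposite

namespace Groth.Agent.CurveOm17

open Groth.Agent.Omega12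

variable {X Y S : Scheme.{u}} {f : X ⟶ Y} {p : Y ⟶ S} {q : X ⟶ S}

/-- A derivation over an intermediate scheme is a derivation over the base. -/
noncomputable def coarsenDer (w : f ≫ p = q) {F : X.Modules} (D : OmegaSh.Der f F) : OmegaSh.Der q F where
  d {U} := D.d
  d_mul {U} a b := D.d_mul a b
  d_map {_ _} i s := D.d_map i s
  d_app {W} c := by
    subst w
    show D.d ((f ≫ p).app W.unop c) = 0
    rw [Scheme.Hom.comp_app]
    exact D.d_app (X := op (p ⁻¹ᵁ W.unop)) _

theorem coarsenDer_app (w : f ≫ p = q) {F : X.Modules} (D : OmegaSh.Der f F) (U : X.Opens) (s : Γ(X, U)) :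
    (coarsenDer w D).app U s = D.app U s := rfl

/-- The cokernel of `f^* Ω_{Y/S} ⟶ Ω_{X/S}` is `Ω_{X/Y}`. -/
theorem exists_cokernel_iso (w : f ≫ p = q) {ΩY : Y.Modules} {dY : OmegaSh.Der p ΩY} (hY : OmegaSh.IsUniversal dY)
    {ΩX : X.Modules} {dX : OmegaSh.Der q ΩX} (hX : OmegaSh.IsUniversal dX)
    {Ωf : X.Modules} {df : OmegaSh.Der f Ωf} (hf : OmegaSh.IsUniversal df)
    {c : (Scheme.Modules.pullback f).obj ΩY ⟶ ΩX} (hc : OmegaSh.IsDiffCompat f dY dX c) :
    Nonempty (cokernel c ≅ Ωf) := by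
  let adj := Scheme.Modules.pullbackPushforwardAdjunction f
  obtain ⟨π, hπ, -⟩ := hX _ (coarsenDer w df)
  have hπ' : ∀ U s, π.app U (dX.app U s) = df.app U s := fun U s => by
    exact congrArg (fun D : OmegaSh.Der q Ωf => D.app U s) hπ
  have e : ∀ {F : X.Modules} (g : (Scheme.Modules.pullback f).obj ΩY ⟶ F) (U : Y.Opens) (s : Γ(Y, U)),
      (adj.homEquiv _ _ g).app U (dY.app U s) = g.app (f ⁻¹ᵁ U) (OmegaSh.pullSect f ΩY U (dY.app U s)) :=
    fun g U s => by rw [Adjunction.homEquiv_unit]; rfl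
  have hz : c ≫ π = 0 := by
    refine (adj.homEquiv _ _).injective (hom_ext_der p hY fun U s => ?_)
    rw [e, e]
    show π.app _ (c.app (f ⁻¹ᵁ U) (OmegaSh.pullSect f ΩY U (dY.app U s))) = _
    rw [hc U s, hπ', der_base]
    simp
  let Q := cokernel c
  let DQ : OmegaSh.Der f Q :=
    { d := fun {U} => (dX.postcomp (cokernel.π c).val).d
      d_mul := fun {U} a b => (dX.postcomp (cokernel.π c).val).d_mul a b
      d_map := fun {_ _} i s => (dX.postcomp (cokernel.π c).val).d_map i s
      d_app := fun {V} s => by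
        show (cokernel.π c).app (f ⁻¹ᵁ V.unop) (dX.app (f ⁻¹ᵁ V.unop) (f.app V.unop s)) = 0
        rw [← hc V.unop s]
        show (c ≫ cokernel.π c).app (f ⁻¹ᵁ V.unop) _ = 0
        rw [cokernel.condition]
        simp }
  obtain ⟨ψ, hψ, -⟩ := hf Q DQ
  have hψ' : ∀ U s, ψ.app U (df.app U s) = (cokernel.π c).app U (dX.app U s) := fun U s => by
    exact congrArg (fun D : OmegaSh.Der f Q => D.app U s) hψ
  refine ⟨⟨cokernel.desc c π hz, ψ, ?_, ?_⟩⟩
  · rw [← cancel_epi (cokernel.π c), cokernel.π_desc_assoc, Category.comp_id]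
    refine hom_ext_der q hX fun U s => ?_
    show ψ.app U (π.app U (dX.app U s)) = _
    rw [hπ', hψ']
  · refine hom_ext_der f hf fun U s => ?_
    show (cokernel.desc c π hz).app U (ψ.app U (df.app U s)) = _
    rw [hψ']
    show (cokernel.π c ≫ cokernel.desc c π hz).app U (dX.app U s) = _
    rw [cokernel.π_desc, hπ']
    rfl

end Groth.Agent.CurveOm17
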