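import Groth.Agent.Lib.Twist.UniversalExist
import Groth.Agent.Lib.CurveCoh17.Integral

/-!
# Maps between invertible modules on integral schemes
-/

set_option linter.style.haveILetI false
set_option autoImplicit false
set_option maxHeartbeats 800000

universe u

open CategoryTheory TopologicalSpace Opposite CategoryTheory.Limits AlgebraicGeometry

namespace Groth.Agent.CurveOm17

open Groth.Agent.M1 Groth.Agent.M2 Groth.Agent.CurveCoh17

variable {X : Scheme.{u}} [IsIntegral X]

theorem eq_zero_or_mono_of_isInvertible {A B : X.Modules} (hA : PicF.IsInvertible A) (hB : PicF.IsInvertible B)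
    (c : A ⟶ B) :
    c = 0 ∨ (Mono c ∧ ∃ U : X.Opens, (U : Set X).Nonempty ∧ IsZero ((Scheme.Modules.pullback U.ι).obj (cokernel c))) := by
  -- local matrices
  have loc : ∀ x : X, ∃ (U : X.Opens) (a : Γ(A, U)) (b : Γ(B, U)) (r : Γ(X, U)),
      x ∈ U ∧ Twist.IsGen A U a ∧ Twist.IsGen B U b ∧ c.app U a = r • b := fun x => by
    obtain ⟨D, a, hxD, ha⟩ := Groth.Agent.ProjUP.exists_isGen_of_invertible hA x
    obtain ⟨D', b, hxD', hb⟩ := Groth.Agent.ProjUP.exists_isGen_of_invertible hB x
    obtain ⟨r, hr⟩ := (hb (D ⊓ D') inf_le_right).2 (c.app (D ⊓ D') (mres A inf_le_left a))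
    exact ⟨D ⊓ D', _, _, r, ⟨hxD, hxD'⟩, ha.mres inf_le_left, hb.mres inf_le_right, hr.symm⟩
  choose U a b r hxU ha hb hr using loc
  have hgerm : ∀ (x y : X) (hy : y ∈ U x) (α : X.presheaf.stalk y),
      stalkLin c y (α • (A.presheaf.germ (U x) y hy (a x) : A.presheaf.stalk y)) =
        (α * X.presheaf.germ (U x) y hy (r x)) • (B.presheaf.germ (U x) y hy (b x) : B.presheaf.stalk y) :=
      fun x y hy α => by
    rw [map_smul, mul_smul, ← germ_smul]
    exact congrArg (α • ·) ((germ_naturality c (U x) y hy (a x)).trans (congrArg _ (hr x)))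
  have hne : ∀ x y : X, r x = 0 → r y = 0 := fun x y h0 => by
    let W := U x ⊓ U y
    haveI : Nonempty ((W : X.Opens) : Scheme.{u}) := ⟨⟨genericPoint X,
      (genericPoint_specializes x).mem_open (U x).2 (hxU x), (genericPoint_specializes y).mem_open (U y).2 (hxU y)⟩⟩
    obtain ⟨α, hα⟩ := (ha x W inf_le_left).2 (mres A (inf_le_right : W ≤ U y) (a y))
    dsimp only at hα
    have h1 : ores (inf_le_right : W ≤ U y) (r y) • mres B (inf_le_right : W ≤ U y) (b y) = 0 := by
      rw [← mres_smul, ← hr, ← M1.app_mres, ← hα, Scheme.Modules.Hom.app_smul, M1.app_mres, hr, h0, zero_smul,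
        map_zero, smul_zero]
    have h2 : ores (inf_le_right : W ≤ U y) (r y) = 0 := (hb y W inf_le_right).1 (h1.trans (zero_smul _ _).symm)
    exact map_injective_of_isIntegral X (homOfLE (inf_le_right : W ≤ U y)) (h2.trans (map_zero _).symm)
  by_cases h0 : ∃ x, r x = 0
  · obtain ⟨x₀, h0⟩ := h0
    refine Or.inl (Scheme.Modules.hom_ext _ _ fun V => ?_)
    ext s
    refine M1.section_ext _ _ fun y hy => ?_
    obtain ⟨α, hα⟩ := ((ha y).stalk (hxU y)).2 (A.presheaf.germ V y hy s)
    dsimp only at hα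
    refine (germ_naturality c V y hy s).symm.trans ?_
    show stalkLin c y (A.presheaf.germ V y hy s : A.presheaf.stalk y) = _
    rw [← hα, hgerm, hne x₀ y h0, map_zero, mul_zero, zero_smul]
    simp
  · have h0' : ∀ x, r x ≠ 0 := fun x hx => h0 ⟨x, hx⟩
    have hrx : ∀ x y : X, ∀ hy : y ∈ U x, X.presheaf.germ (U x) y hy (r x) ≠ 0 := fun x y hy h =>
      h0' x (germ_injective_of_isIntegral X y hy (h.trans (map_zero _).symm))
    refine Or.inr ⟨(mono_iff_stalk c).2 fun y => (injective_iff_map_eq_zero _).2 fun t ht => ?_, ?_⟩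
    · obtain ⟨α, rfl⟩ := ((ha y).stalk (hxU y)).2 t
      dsimp only at ht ⊢
      replace ht : stalkLin c y _ = 0 := ht
      rw [hgerm] at ht
      have h1 := ((hb y).stalk (hxU y)).1 (ht.trans (zero_smul _ _).symm)
      rw [(mul_eq_zero.1 h1).resolve_right (hrx y y _), zero_smul]
      rfl
    · let x := genericPoint X
      have hη : genericPoint X ∈ X.basicOpen (r x) := by
        rw [Scheme.mem_basicOpen _ _ _ (hxU x)]
        letI : Field (X.presheaf.stalk (genericPoint X)) := inferInstanceAs (Field X.functionField)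
        exact isUnit_iff_ne_zero.2 (hrx x x (hxU x))
      refine ⟨X.basicOpen (r x), ⟨_, hη⟩, ?_⟩
      let V := X.basicOpen (r x)
      refine IsZero.of_iso ?_ ((Scheme.Modules.restrictFunctorIsoPullback V.ι).app (cokernel c)).symm
      rw [IsZero.iff_id_eq_zero]
      refine Scheme.Modules.hom_ext _ _ fun O => ?_
      ext s
      refine M1.section_ext (M := cokernel c) (U := V.ι ''ᵁ O) _ _ fun y hy => ?_
      have hyV : y ∈ V := V.opensRange_ι.le (V.ι.image_le_opensRange O hy)
      have hyU : y ∈ U x := X.basicOpen_le (r x) hyV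
      have hsurj : Function.Surjective (stalkLin c y) := fun t => by
        obtain ⟨β, hβ⟩ := ((hb x).stalk hyU).2 t
        obtain ⟨w, hw⟩ := (Scheme.mem_basicOpen X (r x) y hyU).1 hyV
        refine ⟨(β * ↑w⁻¹) • (A.presheaf.germ (U x) y hyU (a x) : A.presheaf.stalk y), ?_⟩
        rw [hgerm, ← hw, Units.inv_mul_cancel_right]
        exact hβ
      exact (eq_zero_stalk_cokernel c y hsurj _).trans (eq_zero_stalk_cokernel c y hsurj _).symm

end Groth.Agent.CurveOm17
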