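import Groth.Agent.Lib.Omega12.Finite
import Groth.Agent.Lib.CurveOm17.Chart
import Groth.Agent.Lib.CurveOm17.InvHom
import Mathlib.RingTheory.Localization.Integral

/-!
# The differential of a separable map does not vanish
-/

set_option linter.style.haveILetI false
set_option autoImplicit false
set_option maxHeartbeats 800000

universe u

open CategoryTheory TopologicalSpace Opposite CategoryTheory.Limits AlgebraicGeometry Polynomial

namespace Groth.Agent.CurveOm17

open Groth.Agent.M1 Groth.Agent.M2 Groth.Agent.CurveCoh17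

/-- If `dX` kills the sections coming from a separable finite map, it is zero. -/
theorem diff_ne_zero {S X Y : Scheme.{u}} [IsAffine S] [IsIntegral X] [IsIntegral Y] (f : X ⟶ Y) [IsFinite f]
    (e : f (genericPoint X) = genericPoint Y)
    (hsep : letI := ((Y.presheaf.stalkSpecializes (specializes_of_eq e) ≫ f.stalkMap (genericPoint X)).hom).toAlgebra
      Algebra.IsSeparable Y.functionField X.functionField)
    {q : X ⟶ S} {ΩX : X.Modules} (hΩX : PicF.IsInvertible ΩX) {dX : OmegaSh.Der q ΩX}
    (hdXu : OmegaSh.IsUniversal dX) :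
    ∃ (U : Y.Opens) (a : Γ(Y, U)), dX.app (f ⁻¹ᵁ U) (f.app U a) ≠ 0 := by
  classical
  by_contra hall
  push Not at hall
  obtain ⟨U, hU, hyU, -⟩ := exists_isAffineOpen_mem_and_subset (x := genericPoint Y) (U := ⊤) trivial
  obtain ⟨D, g, hξD, hg⟩ := Groth.Agent.ProjUP.exists_isGen_of_invertible hΩX (genericPoint X)
  obtain ⟨V, hV, hξ, hVle⟩ := exists_isAffineOpen_mem_and_subset (x := genericPoint X) (U := D ⊓ f ⁻¹ᵁ U)
    ⟨hξD, show f (genericPoint X) ∈ U from e ▸ hyU⟩
  have hVU : V ≤ f ⁻¹ᵁ U := fun _ h => (hVle h).2
  haveI : Nonempty (U : Y.Opens) := ⟨⟨_, hyU⟩⟩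
  haveI : Nonempty ((U : Y.Opens) : Scheme.{u}) := ⟨⟨_, hyU⟩⟩
  haveI : Nonempty (V : X.Opens) := ⟨⟨_, hξ⟩⟩
  haveI : Nonempty ((V : X.Opens) : Scheme.{u}) := ⟨⟨_, hξ⟩⟩
  let φ : Γ(Y, U) →+* Γ(X, V) := (f.appLE U V hVU).hom
  have hφ0 : ∀ a, dX.app V (φ a) = 0 := fun a => by
    refine (dX.d_map (homOfLE hVU).op (f.app U a)).trans ?_
    rw [show dX.d (X := op (f ⁻¹ᵁ U)) (f.app U a) = 0 from hall U a]
    exact map_zero _
  haveI := functionField_isFractionRing_of_isAffineOpen Y U hU
  haveI := functionField_isFractionRing_of_isAffineOpen X V hV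
  let α : Y.presheaf.stalk (genericPoint Y) ⟶ X.presheaf.stalk (genericPoint X) :=
    Y.presheaf.stalkSpecializes (specializes_of_eq e) ≫ f.stalkMap (genericPoint X)
  letI : Algebra Y.functionField X.functionField := α.hom.toAlgebra
  haveI : Algebra.IsSeparable Y.functionField X.functionField := hsep
  have hsq : ∀ a, algebraMap Γ(X, V) X.functionField (φ a) =
      algebraMap Y.functionField X.functionField (algebraMap Γ(Y, U) Y.functionField a) := fun a => by
    show X.presheaf.germ V _ hξ (X.presheaf.map (homOfLE hVU).op (f.app U a)) =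
      f.stalkMap (genericPoint X) (Y.presheaf.stalkSpecializes (specializes_of_eq e) (Y.presheaf.germ U _ hyU a))
    rw [TopCat.Presheaf.germ_stalkSpecializes_apply, Scheme.Hom.germ_stalkMap_apply, TopCat.Presheaf.germ_res_apply]
  -- all differentials vanish on the chart
  have hker : ∀ b : Γ(X, V), dX.app V b = 0 := fun b => by
    set K := Y.functionField
    set L := X.functionField
    set bL := algebraMap Γ(X, V) L b with hbL
    set m := minpoly K bL with hm
    obtain ⟨r, hr⟩ := IsLocalization.integerNormalization_map_to_map (nonZeroDivisors Γ(Y, U)) m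
    set p := IsLocalization.integerNormalization (nonZeroDivisors Γ(Y, U)) m with hp
    have hr0 : algebraMap Γ(Y, U) K r ≠ 0 := fun h =>
      nonZeroDivisors.ne_zero r.2 (IsFractionRing.injective Γ(Y, U) K (h.trans (map_zero _).symm))
    have hcomp : (algebraMap Γ(X, V) L).comp φ =
        (algebraMap K L).comp (algebraMap Γ(Y, U) K) := RingHom.ext hsq
    have hev : ∀ P : Γ(Y, U)[X], algebraMap Γ(X, V) L (P.eval₂ φ b) =
        aeval bL (P.map (algebraMap Γ(Y, U) K)) := fun P => by
      rw [Polynomial.hom_eval₂, hcomp, aeval_def, eval₂_map]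
    have hp0 : p.eval₂ φ b = 0 := IsFractionRing.injective Γ(X, V) L (by
      rw [hev, map_zero, hr, ← IsScalarTower.algebraMap_smul K (r : Γ(Y, U)), map_smul, hm, minpoly.aeval, smul_zero])
    have hp1 : (derivative p).eval₂ φ b ≠ 0 := fun h => by
      have h1 := hev (derivative p)
      rw [h, map_zero, ← derivative_map, hr, ← IsScalarTower.algebraMap_smul K (r : Γ(Y, U)),
        derivative_smul, map_smul, Algebra.smul_def] at h1
      rcases mul_eq_zero.1 h1.symm with h2 | h2
      · exact hr0 ((algebraMap K L).injective (h2.trans (map_zero _).symm))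
      · exact (Algebra.IsSeparable.isSeparable K bL).aeval_derivative_ne_zero (minpoly.aeval _ _) h2
    have hD : ∀ P : Γ(Y, U)[X], dX.app V (P.eval₂ φ b) =
        (derivative P).eval₂ φ b • dX.app V b := fun P => by
      induction P using Polynomial.induction_on' with
      | add P Q hP hQ => simp only [eval₂_add, map_add, hP, hQ, add_smul]
      | monomial n a =>
        have hn : ∀ n : ℕ, dX.app V (b ^ n) = ((n : Γ(X, V)) * b ^ (n - 1)) • dX.app V b := by
          intro n
          induction n with
          | zero =>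
            have h1 : dX.app V (1 : Γ(X, V)) = 0 := by
              have := dX.d_mul (X := op V) (1 : Γ(X, V)) 1
              rw [mul_one] at this
              replace this : dX.app V (1 : Γ(X, V)) = (1 : Γ(X, V)) • dX.app V 1 +
                (1 : Γ(X, V)) • dX.app V 1 := this
              rwa [one_smul, left_eq_add] at this
            rw [pow_zero, h1, Nat.cast_zero, zero_mul, zero_smul]
          | succ n ih =>
            have := dX.d_mul (X := op V) (b ^ n) b
            replace this : dX.app V (b ^ n * b) = b ^ n • dX.app V b + b • dX.app V (b ^ n) := this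
            rw [pow_succ, this, ih, ← mul_smul, ← add_smul]
            congr 1
            rcases Nat.eq_zero_or_pos n with rfl | h0
            · simp
            · obtain ⟨j, rfl⟩ : ∃ j, n = j + 1 := ⟨n - 1, by omega⟩
              simp only [Nat.add_sub_cancel, Nat.cast_add, Nat.cast_one, pow_succ]
              ring
        rw [eval₂_monomial, derivative_monomial, eval₂_monomial, map_mul φ, map_natCast φ]
        have := dX.d_mul (X := op V) (φ a) (b ^ n)
        replace this : dX.app V (φ a * b ^ n) =
          φ a • dX.app V (b ^ n) + b ^ n • dX.app V (φ a) := this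
        rw [hφ0, smul_zero, add_zero, hn, ← mul_smul] at this
        refine this.trans ?_
        congr 1
        ring
    have hz := hD p
    rw [hp0, map_zero] at hz
    obtain ⟨c, hc⟩ := (hg V (fun _ h => (hVle h).1)).2 (dX.app V b)
    dsimp only at hc
    rw [← hc, ← mul_smul] at hz
    have h2 := (hg V (fun _ h => (hVle h).1)).1 (hz.symm.trans (zero_smul _ _).symm)
    rw [← hc, (mul_eq_zero.1 h2).resolve_left hp1, zero_smul]
  -- contradiction with a generator
  let ed := Omega12.sectLinEquiv q hdXu hV (isAffineOpen_top S) (le_top : V ≤ q ⁻¹ᵁ ⊤)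
  letI := (q.appLE ⊤ V le_top).hom.toAlgebra
  have hzero : ∀ z : Γ(ΩX, V), z = 0 := fun z => by
    have h : ed.symm z ∈ Submodule.span Γ(X, V) (Set.range (KaehlerDifferential.D Γ(S, ⊤) Γ(X, V))) := by
      rw [KaehlerDifferential.span_range_derivation]; trivial
    rw [← ed.apply_symm_apply z]
    generalize ed.symm z = w at h ⊢
    induction h using Submodule.span_induction with
    | mem w hw =>
      obtain ⟨b, rfl⟩ := hw
      exact (Omega12.sectLinEquiv_D q hdXu hV (isAffineOpen_top S) le_top b).trans (hker b)
    | zero => exact map_zero _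
    | add a b _ _ ha hb => rw [map_add, ha, hb, add_zero]
    | smul c a _ ha => rw [map_smul, ha, smul_zero]
  exact one_ne_zero ((hg V (fun _ h => (hVle h).1)).1 ((hzero _).trans (zero_smul _ _).symm))

end Groth.Agent.CurveOm17
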