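import Groth.Agent.Lib.CurveCoh17.Pencil2
import Groth.Agent.Lib.Curve17.ProjSep

/-!
# Sections of the pullback of `O(1)` along a dominant map to projective space
-/

set_option linter.style.haveILetI false
set_option autoImplicit false
set_option maxHeartbeats 800000

universe u

open CategoryTheory TopologicalSpace Opposite CategoryTheory.Limits AlgebraicGeometry

namespace Groth.Agent.CurveOm17

open Groth.Agent.M1 Groth.Agent.M2 Groth.Agent.CurveCoh17

variable {k : Type u} [Field k] {n : ℕ}

/-- No nonzero linear form vanishes at the generic point of projective space. -/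
theorem linForm_eq_zero_of_mem_genericPoint [IsIntegral (CohB1.ProjSpace n k)] {c : Fin (n + 1) → k}
    (h : Curve17.linForm c ∈ (genericPoint (CohB1.ProjSpace n k) :
      ProjectiveSpectrum (CohB1.polyGrading n k)).asHomogeneousIdeal.toIdeal) : c = 0 := by
  classical
  by_contra hc
  have hne : Curve17.linForm c ≠ 0 := fun h0 => hc (funext fun j => by
    have := congrArg (MvPolynomial.eval (Pi.single j (1 : k))) h0
    simpa [Curve17.linForm, Pi.single_apply, eq_comm] using this)
  have hbot : (⊥ : HomogeneousIdeal (CohB1.polyGrading n k)).toIdeal.IsPrime := by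
    rw [HomogeneousIdeal.toIdeal_bot]; exact Ideal.isPrime_bot
  have hirr : ¬HomogeneousIdeal.irrelevant (CohB1.polyGrading n k) ≤ ⊥ := fun hle => by
    have hX : (MvPolynomial.X 0 : MvPolynomial (Fin (n + 1)) k) ∈ HomogeneousIdeal.irrelevant (CohB1.polyGrading n k) :=
      HomogeneousIdeal.mem_irrelevant_of_mem (CohB1.polyGrading n k) one_pos (Curve17.X_mem 0)
    have := hle hX
    exact MvPolynomial.X_ne_zero (0 : Fin (n + 1)) (R := k) this
  let y : CohB1.ProjSpace n k := (⟨⊥, hbot, hirr⟩ : ProjectiveSpectrum (CohB1.polyGrading n k))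
  let U : (CohB1.ProjSpace n k).Opens := Proj.basicOpen (CohB1.polyGrading n k) (Curve17.linForm c)
  have hy : y ∈ U := fun h0 => hne h0
  exact (genericPoint_specializes y).mem_open U.isOpen hy h

variable {X : Scheme.{u}} [X.Over (Spec (CommRingCat.of k))] [IsIntegral X]

/-- The pullback of `O(1)` under a dominant map has at least `n + 1` independent sections. -/
theorem succ_le_h0_pullback_twist [IsIntegral (CohB1.ProjSpace n k)] (r : X ⟶ CohB1.ProjSpace n k)
    (hr : r ≫ CohB1.ProjSpace.toSpec n k = X ↘ Spec (CommRingCat.of k))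
    (hξ : r (genericPoint X) = genericPoint (CohB1.ProjSpace n k))
    [Module.Finite k (Coh.HH X ((Scheme.Modules.pullback r).obj (Twist.twistProjSpace n k 1)) 0)] :
    n + 1 ≤ Module.finrank k (Coh.HH X ((Scheme.Modules.pullback r).obj (Twist.twistProjSpace n k 1)) 0) := by
  let M := (Scheme.Modules.pullback r).obj (Twist.twist (CohB1.polyGrading n k) 1)
  haveI : Module.Finite k (Coh.HH X M 0) := ‹_›
  let v : Fin (n + 1) → Coh.HH X M 0 := fun i =>
    (hh0 M).symm (ProjUP.sec (CohB1.polyGrading n k) r (Curve17.X_mem i))
  have hv : LinearIndependent k v := Fintype.linearIndependent_iff.2 fun c hc => by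
    refine congrFun (linForm_eq_zero_of_mem_genericPoint ?_)
    have h0 : Curve17.vSec (X ↘ Spec (CommRingCat.of k)) r c = 0 := by
      refine Eq.trans (Finset.sum_congr rfl fun i _ => ?_) (((map_sum (hh0 M) _ _).symm.trans (congrArg (hh0 M) hc)).trans (map_zero _))
      refine Eq.trans ?_ (hh0_smul (M := M) _ _).symm
      rw [AddEquiv.apply_symm_apply]
      rfl
    rw [← hξ]
    refine (Curve17.germ_vSec_mem_iff (X ↘ Spec (CommRingCat.of k)) r (genericPoint X) hr c).1 ?_
    rw [h0, map_zero]
    exact zero_mem _
  have h := hv.fintype_card_le_finrank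
  rw [Fintype.card_fin] at h
  exact h

omit [X.Over (Spec (CommRingCat.of k))] in
/-- A finite map from a curve to an irreducible curve is dominant. -/
theorem map_genericPoint_of_isFinite [JacobsonSpace X] {Y : Scheme.{u}} [IrreducibleSpace Y]
    (hdY : topologicalKrullDim Y ≤ 1) (hdim : topologicalKrullDim X = 1) (r : X ⟶ Y) [IsFinite r] :
    r (genericPoint X) = genericPoint Y := by
  refine Curve17.map_genericPoint hdY r ?_
  by_contra hsub
  rw [Set.not_nontrivial_iff] at hsub
  have hfin : (Set.univ : Set X).Finite := by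
    refine (IsFinite.finite_preimage_singleton r (r (genericPoint X))).subset fun x _ => ?_
    exact hsub ⟨x, rfl⟩ ⟨_, rfl⟩
  haveI : Finite X := Set.finite_univ_iff.1 hfin
  have hcl : IsClosed (closedPoints X) := by
    have h : IsClosed (⋃ x ∈ closedPoints X, ({x} : Set X)) :=
      (Set.toFinite _).isClosed_biUnion fun x hx => hx
    rwa [Set.biUnion_of_singleton] at h
  have h1 : genericPoint X ∈ closedPoints X := by
    rw [← hcl.closure_eq, closure_closedPoints]; trivial
  haveI : Subsingleton X := ⟨fun a b =>
    ((genericPoint_specializes a).mem_closed h1 rfl).trans ((genericPoint_specializes b).mem_closed h1 rfl).symm⟩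
  haveI : DiscreteTopology X := Subsingleton.discreteTopology
  have h0 := topologicalKrullDim_zero_of_discreteTopology X
  rw [hdim] at h0
  exact absurd h0 (by simp)

end Groth.Agent.CurveOm17
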