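import Groth.Agent.Lib.CurveOm17.Apps
import Groth.Agent.Lib.CurveOm17.AnyField
import Groth.Agent.Lib.CurveCoh17.EtaleEuler
import Groth.Agent.Lib.CurveCoh17.DegTwo
import Groth.Agent.Lib.CurveOm17.PullP1
import Groth.Agent.Lib.AmpleFin18.PushEuler
import Groth.Agent.Lib.AmpleFin18.Proj
import Groth.Agent.Lib.TensorMod.Summand
import Groth.Agent.Lib.Trace12.Rank
import Groth.Agent.Lib.VB17.SmoothDuality
import Groth.Agent.Lib.VB17.Proper
import Groth.Agent.Lib.Omega12.Universal
import Groth.Agent.S7640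

/-!
# The canonical bundle of a double cover
-/

set_option linter.style.haveILetI false
set_option autoImplicit false
set_option maxHeartbeats 800000

universe u

open CategoryTheory TopologicalSpace Opposite CategoryTheory.Limits AlgebraicGeometry

namespace Groth.Agent.CurveOm17

open Groth.Agent.M1 Groth.Agent.M2 Groth.Agent.CurveCoh17

variable {k : Type u} [Field k]

/-- `h⁰` of a direct sum is at least the sum. -/
theorem h0_add_le {X : Scheme.{u}} [X.Over (Spec (CommRingCat.of k))] {A B P : X.Modules}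
    [Module.Finite k (Coh.HH X P 0)] [Module.Finite k (Coh.HH X A 0)] [Module.Finite k (Coh.HH X B 0)]
    (i : A ⟶ P) (j : B ⟶ P) (p : P ⟶ A) (q : P ⟶ B) (hip : i ≫ p = 𝟙 A) (hjq : j ≫ q = 𝟙 B)
    (hiq : i ≫ q = 0) (hjp : j ≫ p = 0) :
    Module.finrank k (Coh.HH X A 0) + Module.finrank k (Coh.HH X B 0) ≤ Module.finrank k (Coh.HH X P 0) := by
  let l := (hmap k i 0).coprod (hmap k j 0)
  have hl : Function.Injective l := (injective_iff_map_eq_zero l).2 fun x hx => by
    have h1 := congrArg (hmap k p 0) hx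
    have h2 := congrArg (hmap k q 0) hx
    simp only [l, LinearMap.coprod_apply, map_add, map_zero, ← hmap_comp, hip, hjq, hiq, hjp, hmap_id, hmap_zero,
      add_zero, zero_add] at h1 h2
    exact Prod.ext h1 h2
  have h := LinearMap.finrank_le_finrank_of_injective hl
  rwa [Module.finrank_prod] at h

/-- A finite flat map of degree two has direct image of rank two. -/
theorem isFinLocFreeOfRank_two (k : Type u) [Field k] {X Y : Scheme.{u}} [X.Over (Spec (CommRingCat.of k))]
    [Y.Over (Spec (CommRingCat.of k))] [IsIntegral X] [IsProper (X ↘ Spec (CommRingCat.of k))] [IsIntegral Y]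
    [IsProper (Y ↘ Spec (CommRingCat.of k))] (hdimX : topologicalKrullDim X = 1) (hdimY : topologicalKrullDim Y = 1) (π : X ⟶ Y)
    [IsFinite π] [Flat π] (hrk : ∀ y : ↥Y, Scheme.Hom.finrank π y = 2) :
    π (genericPoint X) = genericPoint Y ∧ π.residueDegree (genericPoint X) = 2 ∧
      FlatMod.IsFinLocFreeOfRank 2 (pushO π) := by
  haveI := VB17.isNoetherian_of_over (k := k) (X := Y)
  haveI : JacobsonSpace X := LocallyOfFiniteType.jacobsonSpace (X ↘ Spec (CommRingCat.of k))
  haveI : LocallyOfFinitePresentation π := {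
    finitePresentation_appLE := fun {U} hU {V} hV le =>
      haveI := IsLocallyNoetherian.component_noetherian (X := Y) ⟨U, hU⟩
      RingHom.FinitePresentation.of_finiteType.mp (π.finiteType_appLE hU hV le) }
  have hξ := map_genericPoint_of_isFinite hdimY.le hdimX π
  have hd2 : π.residueDegree (genericPoint X) = 2 := by
    rw [← finrank_genericPoint_eq_residueDegree π hξ
      (fun x hx => AmpleFin18.preimage_genericPoint hdimX.le hdimY π hx)]
    exact hrk _
  obtain ⟨n, hn⟩ := VB17.exists_rank_of_isFinLocFree (isFinLocFree_pushO π)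
  obtain rfl : n = 2 := by
    have h1 := AmpleFin18.finrank_pushO_genericPoint hdimX.le hdimY π hξ hξ
    obtain ⟨e⟩ := nonempty_stalk_equiv hn (genericPoint Y)
    rw [e.finrank_eq, Module.finrank_fin_fun, hd2] at h1
    exact h1
  exact ⟨hξ, hd2, hn⟩

variable [IsAlgClosed k] {X Y : Scheme.{u}} [X.Over (Spec (CommRingCat.of k))] [Y.Over (Spec (CommRingCat.of k))]
  [IsIntegral X] [IsProper (X ↘ Spec (CommRingCat.of k))] [Smooth (X ↘ Spec (CommRingCat.of k))]
  [IsIntegral Y] [IsProper (Y ↘ Spec (CommRingCat.of k))] [Smooth (Y ↘ Spec (CommRingCat.of k))]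

/-- `ω_X = π^*(ω_Y ⊗ Δ)` for `π_* O_X = O_Y ⊕ Δ⁻¹`. -/
theorem exists_pullback_iso_omega (hdimX : topologicalKrullDim X = 1) (hdimY : topologicalKrullDim Y = 1)
    (π : X ⟶ Y) [IsFinite π] [Flat π] (hπ : π ≫ (Y ↘ Spec (CommRingCat.of k)) = X ↘ Spec (CommRingCat.of k))
    (hrk : ∀ y : ↥Y, Scheme.Hom.finrank π y = 2) {D : Y.Modules} (e : pushO π ≅ Coh.structureModule Y ⊞ D) :
    ∃ Δ : Y.Modules, PicF.IsInvertible Δ ∧ Nonempty (CohB1.tensorMod Δ D ≅ Coh.structureModule Y) ∧
      PicF.IsInvertible (CohB1.tensorMod (Omega.sheaf (Y ↘ Spec (CommRingCat.of k))) Δ) ∧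
      Nonempty ((Scheme.Modules.pullback π).obj (CohB1.tensorMod (Omega.sheaf (Y ↘ Spec (CommRingCat.of k))) Δ) ≅
        Omega.sheaf (X ↘ Spec (CommRingCat.of k))) := by
  obtain ⟨hξ, hd2, hP⟩ := isFinLocFreeOfRank_two k hdimX hdimY π hrk
  obtain ⟨hX, h0X, hbigX⟩ := VB17.setup (k := k) (X := X) hdimX
  obtain ⟨hY, h0Y, hbigY⟩ := VB17.setup (k := k) (X := Y) hdimY
  obtain ⟨-, -, -, -, lamX, hWX⟩ := exists_isDualizing_omega' hdimX h0X
    (Omega12.isUniversal_dOmega (f := X ↘ Spec (CommRingCat.of k)))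
  obtain ⟨-, -, -, -, lamY, hWY⟩ := exists_isDualizing_omega' hdimY h0Y
    (Omega12.isUniversal_dOmega (f := Y ↘ Spec (CommRingCat.of k)))
  haveI := hY.like.noetherian
  let O := Coh.structureModule Y
  have hOr := (isInvertible_iff_isFinLocFreeOfRank_one O).1 (PicLoc.isInvertible_structureModule Y)
  let i : O ⟶ pushO π := biprod.inl ≫ e.inv
  let j : D ⟶ pushO π := biprod.inr ≫ e.inv
  let p : pushO π ⟶ O := e.hom ≫ biprod.fst
  let q : pushO π ⟶ D := e.hom ≫ biprod.snd
  have hip : i ≫ p = 𝟙 O := by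
    show (biprod.inl ≫ e.inv) ≫ e.hom ≫ biprod.fst = _
    rw [Category.assoc, e.inv_hom_id_assoc]
    exact biprod.inl_fst
  have hjq : j ≫ q = 𝟙 D := by
    show (biprod.inr ≫ e.inv) ≫ e.hom ≫ biprod.snd = _
    rw [Category.assoc, e.inv_hom_id_assoc]
    exact biprod.inr_snd
  have hiq : i ≫ q = 0 := by
    show (biprod.inl ≫ e.inv) ≫ e.hom ≫ biprod.snd = _
    rw [Category.assoc, e.inv_hom_id_assoc]
    exact biprod.inl_snd
  have hjp : j ≫ p = 0 := by
    show (biprod.inr ≫ e.inv) ≫ e.hom ≫ biprod.fst = _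
    rw [Category.assoc, e.inv_hom_id_assoc]
    exact biprod.inr_fst
  let S : ShortComplex Y.Modules := ShortComplex.mk i q hiq
  have htot : p ≫ i + q ≫ j = 𝟙 (pushO π) := by
    show (e.hom ≫ biprod.fst) ≫ biprod.inl ≫ e.inv + (e.hom ≫ biprod.snd) ≫ biprod.inr ≫ e.inv = _
    have h := congrArg (fun t => e.hom ≫ t ≫ e.inv) (biprod.total (X := O) (Y := D))
    simp only [Preadditive.add_comp, Preadditive.comp_add, Category.assoc] at h ⊢
    refine h.trans ?_
    erw [Category.id_comp]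
    exact e.hom_inv_id
  have hS : S.ShortExact := (ShortComplex.Splitting.mk (S := S) p j hip hjq htot).shortExact
  have hDf : FlatMod.IsFinLocFree D :=
    isFinLocFree_of_retract (Trace12.isFinLocFree_of_rank hP) j q hjq
  obtain ⟨r, hr⟩ := VB17.exists_rank_of_isFinLocFree hDf
  obtain rfl : r = 1 := by
    have h := finrank_stalk_of_splitting hS (Trace12.isFinLocFree_of_rank hOr) hDf (genericPoint Y)
    obtain ⟨e₁⟩ := nonempty_stalk_equiv hOr (genericPoint Y)
    obtain ⟨e₂⟩ := nonempty_stalk_equiv hP (genericPoint Y)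
    obtain ⟨e₃⟩ := nonempty_stalk_equiv hr (genericPoint Y)
    change Module.finrank _ ((pushO π).presheaf.stalk (genericPoint Y)) =
      Module.finrank _ (O.presheaf.stalk (genericPoint Y)) + Module.finrank _ (D.presheaf.stalk (genericPoint Y)) at h
    rw [e₁.finrank_eq, e₂.finrank_eq, e₃.finrank_eq, Module.finrank_fin_fun, Module.finrank_fin_fun,
      Module.finrank_fin_fun] at h
    omega
  have hD := (isInvertible_iff_isFinLocFreeOfRank_one D).2 hr
  obtain ⟨Δ, hΔ, ⟨eΔ⟩⟩ := exists_inverse hD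
  have eΔ' : CohB1.tensorMod Δ D ≅ O := tensorComm _ _ ≪≫ eΔ
  let WY := Omega.sheaf (Y ↘ Spec (CommRingCat.of k))
  let M := CohB1.tensorMod WY Δ
  have hM : PicF.IsInvertible M := isInvertible_tensor hWY.inv hΔ
  refine ⟨Δ, hΔ, ⟨eΔ'⟩, hM, ?_⟩
  -- the degree of `D`
  have he := euler_add (k := k) hS (hY.like.adm (isCoh_of_ofRank hOr)) (hY.like.adm (isCoh_of_ofRank hr))
  have hp := euler_pushO (k := k) π hπ
  have hdD : Curv2.deg k Y D 1 = (1 - (Curv2.genus k X : ℤ)) - 2 * (1 - (Curv2.genus k Y : ℤ)) := by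
    have hEX := hX.like.euler_structureModule
    have hEY := hY.like.euler_structureModule
    rw [h0X] at hEX
    rw [h0Y] at hEY
    push_cast at hEX hEY
    change Curv2.euler k Y O = _ at hEY
    change Curv2.euler k Y (pushO π) = Curv2.euler k Y O + Curv2.euler k Y D at he
    rw [hp] at he
    rw [Curv2.deg]
    change Curv2.euler k Y D - (1 : ℕ) * Curv2.euler k Y O = _
    push_cast
    linarith
  have hdΔ := hY.like.deg_of_tensor_iso hD hΔ eΔ
  obtain ⟨hW0, -, hWd⟩ := hWY.invariants hY h0Y hbigY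
  have hdM : Curv2.deg k Y M 1 = 2 * (Curv2.genus k Y : ℤ) - 2 - Curv2.deg k Y D 1 := by
    rw [hY.like.deg_tensor_invertible hWY.inv hΔ, hWd, hdΔ]; ring
  refine nonempty_iso_of_deg_eq hX h0X hbigX hWX (Groth.Agent.Twist.isInvertible_pullback π hM) ?_ ?_
  · rw [S7640.result k X Y hdimX hdimY π hπ hξ 1 M ((isInvertible_iff_isFinLocFreeOfRank_one M).1 hM), hd2, hdM,
      hdD]
    push_cast
    ring
  -- sections
  have eP : CohB1.tensorMod (pushO π) M ≅ (Scheme.Modules.pushforward π).obj ((Scheme.Modules.pullback π).obj M) :=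
    AmpleFin18.projIso π M (Coh.structureModule X) hM ≪≫
      (Scheme.Modules.pushforward π).mapIso (tensorLUnit _)
  haveI : ((Scheme.Modules.pullback π).obj M).IsQuasicoherent := (isCoh_of_ofRank
    ((isInvertible_iff_isFinLocFreeOfRank_one _).1 (Groth.Agent.Twist.isInvertible_pullback π hM))).1
  obtain ⟨eH⟩ := nonempty_hequiv_push k π hπ ((Scheme.Modules.pullback π).obj M) 0
  rw [← eH.finrank_eq, ← (hequiv k eP 0).finrank_eq]
  have hfM : ∀ {Z : Y.Modules}, PicF.IsInvertible Z → Module.Finite k (Coh.HH Y Z 0) := fun hZ =>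
    hY.like.fin _ (isCoh_of_ofRank ((isInvertible_iff_isFinLocFreeOfRank_one _).1 hZ)) 0
  haveI : Module.Finite k (Coh.HH Y ((tensorR M).obj O) 0) :=
    hfM (isInvertible_tensor (PicLoc.isInvertible_structureModule Y) hM)
  haveI : Module.Finite k (Coh.HH Y ((tensorR M).obj D) 0) := hfM (isInvertible_tensor hD hM)
  haveI : Module.Finite k (Coh.HH Y ((tensorR M).obj (pushO π)) 0) := by
    haveI := hX.like.fin _ (isCoh_of_ofRank ((isInvertible_iff_isFinLocFreeOfRank_one _).1
      (Groth.Agent.Twist.isInvertible_pullback π hM))) 0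
    exact Module.Finite.equiv ((hequiv k eP 0).trans eH).symm
  have hsum := h0_add_le (k := k) ((tensorR M).map i) ((tensorR M).map j) ((tensorR M).map p) ((tensorR M).map q)
    (by rw [← Functor.map_comp, hip, CategoryTheory.Functor.map_id])
    (by rw [← Functor.map_comp, hjq, CategoryTheory.Functor.map_id])
    (by rw [← Functor.map_comp, hiq, Functor.map_zero]) (by rw [← Functor.map_comp, hjp, Functor.map_zero])
  have h1 : Module.finrank k (Coh.HH Y ((tensorR M).obj O) 0) = Module.finrank k (Coh.HH Y M 0) :=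
    (hequiv k (tensorLUnit M) 0).finrank_eq
  have h2 : Module.finrank k (Coh.HH Y ((tensorR M).obj D) 0) = Module.finrank k (Coh.HH Y WY 0) :=
    (hequiv k (show (tensorR M).obj D ≅ WY from tensorComm _ _ ≪≫ tensorAssoc _ _ _ ≪≫
      tensorIso (Iso.refl WY) eΔ' ≪≫ tensorRUnit WY) 0).finrank_eq
  have hrr := hY.like.rr (isCoh_of_ofRank ((isInvertible_iff_isFinLocFreeOfRank_one M).1 hM))
  rw [h0Y, hdM, hdD] at hrr
  change _ ≤ Module.finrank k (Coh.HH Y ((tensorR M).obj (pushO π)) 0)
  change Module.finrank k (Coh.HH Y WY 0) = _ at hW0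
  push_cast at hrr
  omega

end Groth.Agent.CurveOm17
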