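import Groth.Agent.Lib.CurveCoh17.PairDeg
import Groth.Agent.Lib.TensorNat17.Basic

/-!
# Pairings of bundles with opposite degrees are perfect
-/

set_option linter.style.haveILetI false
set_option autoImplicit false
set_option maxHeartbeats 1600000

universe u

open CategoryTheory TopologicalSpace Opposite CategoryTheory.Limits AlgebraicGeometry MonoidalCategory
open scoped TensorProduct

namespace Groth.Agent.CurveOm17

open Groth.Agent.M1 Groth.Agent.M2 Groth.Agent.CurveCoh17

variable {X : Scheme.{u}}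

theorem tensorAssoc_tsec (L M N : X.Modules) {U : X.Opens} (l : Γ(L, U)) (m : Γ(M, U)) (n : Γ(N, U)) :
    (tensorAssoc L M N).hom.app U (tsec (CohB1.tensorMod L M) N (tsec L M l m) n) =
      tsec L (CohB1.tensorMod M N) l (tsec M N m n) := by
  let t₀ := tm (pm L ⊗ pm M) (pm N) (tm (pm L) (pm M) l m) n
  have h1 := congrArg (fun φ => φ.app (op U) t₀) (unitS_naturality (unitS (pm L ⊗ pm M) ⊗ₘ 𝟙 (pm N)))
  have h2 := congrArg (fun φ => φ.app (op U) t₀) (unitS_naturality (α_ (pm L) (pm M) (pm N)).hom)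
  have h3 := congrArg (fun φ => φ.app (op U) (tm (pm L) (pm M ⊗ pm N) l (tm (pm M) (pm N) m n)))
    (unitS_naturality (𝟙 (pm L) ⊗ₘ unitS (pm M ⊗ pm N)))
  have h4 : (shfWhiskerIso' (pm L ⊗ pm M) (pm N)).inv.app U (tsec (CohB1.tensorMod L M) N (tsec L M l m) n) =
      (unitS ((pm L ⊗ pm M) ⊗ pm N)).app (op U) t₀ := by
    rw [show tsec (CohB1.tensorMod L M) N (tsec L M l m) n =
      (shfWhiskerIso' (pm L ⊗ pm M) (pm N)).hom.app U ((unitS ((pm L ⊗ pm M) ⊗ pm N)).app (op U) t₀) from h1,
      ← CategoryTheory.comp_apply, ← Scheme.Modules.Hom.comp_app, Iso.hom_inv_id]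
    rfl
  show (shfWhiskerIso (pm L) (pm M ⊗ pm N)).hom.app U (((shf X).mapIso (α_ (pm L) (pm M) (pm N))).hom.app U
    ((shfWhiskerIso' (pm L ⊗ pm M) (pm N)).inv.app U _)) = _
  rw [h4]
  refine (congrArg ((shfWhiskerIso (pm L) (pm M ⊗ pm N)).hom.app U) h2.symm).trans ?_
  exact h3.symm

variable {k : Type u} [Field k] [X.Over (Spec (CommRingCat.of k))]

/-- A generically perfect pairing into `O` of bundles with opposite degrees is perfect at every point. -/
theorem perfect_of_deg_add_eq [IsIntegral X] (hX : VB17.RegCurve k X) (hdim : topologicalKrullDim X = 1) :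
    ∀ (r : ℕ) {A B : X.Modules} (_ : FlatMod.IsFinLocFreeOfRank r A) (_ : FlatMod.IsFinLocFreeOfRank r B)
      (β : CohB1.tensorMod A B ⟶ Coh.structureModule X)
      (_ : ∀ b, (∀ a, bil β (genericPoint X) a b = 0) → b = 0)
      (_ : Curv2.deg k X A r + Curv2.deg k X B r = 0) (x : X)
      (φ : A.presheaf.stalk x →ₗ[X.presheaf.stalk x] (Coh.structureModule X).presheaf.stalk x),
      ∃ b, ∀ a, bil β x a b = φ a := by
  haveI := hX.like.noetherian
  set η := genericPoint X
  intro r
  induction r with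
  | zero =>
    intro A B hA hB β _ _ x φ
    obtain ⟨eA⟩ := nonempty_stalk_equiv hA x
    refine ⟨0, fun a => ?_⟩
    rw [show a = 0 from eA.injective (Subsingleton.elim _ _), map_zero, map_zero]
  | succ r ih =>
    intro A B hA hB β hnd hsum x φ
    obtain ⟨L, i, hL, hi, hQ⟩ := exists_saturated_line hX hdim hA
    haveI := hi
    have hL1 := (isInvertible_iff_isFinLocFreeOfRank_one L).1 hL
    have hS : (ShortComplex.mk i (cokernel.π i) (cokernel.condition i)).ShortExact :=
      { exact := ShortComplex.exact_of_g_is_cokernel _ (cokernelIsCokernel _) }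
    -- `B → L^∨`
    let γ : CohB1.tensorMod B L ⟶ Coh.structureModule X := (tensorComm B L).hom ≫ tensorMap i (𝟙 B) ≫ β
    let ψ : B ⟶ dualMod L := curry γ
    have hγ' : ∀ (z : X) b l, bil γ z b l = bil β z (stalkLin i z l) b := fun y b l => by
      rw [bil_apply, show γ = (tensorComm B L).hom ≫ tensorMap i (𝟙 B) ≫ β from rfl, stalkLin_comp]
      refine (congrArg (stalkLin (tensorMap i (𝟙 B) ≫ β) y) (stalkLin_tensorComm_symm B L y b l)).trans ?_
      refine (bil_tensorMap i (𝟙 B) β y l b).trans ?_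
      congr 1
      exact LinearMap.congr_fun (show stalkLin (𝟙 B) y = LinearMap.id from LinearMap.ext fun w => by
        show (stalkAb y).map (𝟙 B) w = w
        rw [CategoryTheory.Functor.map_id]; rfl) b
    have hγ := hγ' η
    have hγx := hγ' x
    have hD := isInvertible_dualMod hL
    have hD1 := (isInvertible_iff_isFinLocFreeOfRank_one _).1 hD
    -- `ψ` is not zero
    have hψ : ψ ≠ 0 := by
      intro h0
      have hγ0 : γ = 0 := by
        rw [← curry_eval γ, show curry γ = 0 from h0]
        refine tensorMod_hom_ext fun U b s => ?_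
        rw [Scheme.Modules.Hom.comp_app, CategoryTheory.comp_apply, tensorMap_tsec]
        refine (mkHom_tsec (evalBiMap L _) _ _).trans ?_
        rfl
      obtain ⟨eA⟩ := nonempty_stalk_equiv hA η
      obtain ⟨eB⟩ := nonempty_stalk_equiv hB η
      obtain ⟨eL⟩ := nonempty_stalk_equiv hL1 η
      obtain ⟨e₁⟩ := nonempty_stalk_equiv_structureModule (X := X) η
      let e₁' := e₁.trans (LinearEquiv.funUnique (Fin 1) (X.presheaf.stalk η) (X.presheaf.stalk η))
      letI : Field (X.presheaf.stalk η) := inferInstanceAs (Field X.functionField)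
      let Φ : B.presheaf.stalk η →ₗ[X.presheaf.stalk η] Module.Dual (X.presheaf.stalk η) (A.presheaf.stalk η) :=
        ((bil β η).flip).compr₂ e₁'.toLinearMap
      have hinj : Function.Injective Φ := (injective_iff_map_eq_zero Φ).2 fun b hb => hnd b fun a =>
        e₁'.injective ((LinearMap.congr_fun hb a).trans (map_zero e₁').symm)
      haveI : Module.Finite (X.presheaf.stalk η) (A.presheaf.stalk η) := Module.Finite.equiv eA.symm
      haveI : Module.Finite (X.presheaf.stalk η) (B.presheaf.stalk η) := Module.Finite.equiv eB.symm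
      have hdimeq : Module.finrank (X.presheaf.stalk η) (B.presheaf.stalk η) =
          Module.finrank (X.presheaf.stalk η) (Module.Dual (X.presheaf.stalk η) (A.presheaf.stalk η)) := by
        rw [Subspace.dual_finrank_eq, VB17.finrank_stalk hA η, VB17.finrank_stalk hB η]
      have hsurj := (LinearMap.injective_iff_surjective_of_finrank_eq_finrank hdimeq).1 hinj
      have hl : stalkLin i η (eL.symm 1) ≠ 0 := fun h => by
        have h2 : eL.symm 1 = 0 := (mono_iff_stalk i).1 inferInstance η (h.trans (map_zero (stalkLin i η)).symm)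
        have h3 := congrFun ((congrArg eL h2).trans (map_zero eL)) 0
        rw [LinearEquiv.apply_symm_apply] at h3
        exact one_ne_zero h3
      refine hl ((Module.forall_dual_apply_eq_zero_iff (X.presheaf.stalk η) _).1 fun f => ?_)
      obtain ⟨b, rfl⟩ := hsurj f
      show e₁' (bil β η (stalkLin i η (eL.symm 1)) b) = 0
      rw [← hγ, hγ0, bil_apply]
      refine (congrArg e₁' ?_).trans (map_zero e₁')
      show (stalkAb η).map (0 : CohB1.tensorMod B L ⟶ Coh.structureModule X) _ = 0
      rw [Functor.map_zero]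
      rfl
    obtain ⟨rK, rI, hK, hI, hadd, hle, hz, -⟩ := VB17.exists_image hX.pid hB hD1 ψ
    obtain rfl : rI = 1 := by
      rcases Nat.le_one_iff_eq_zero_or_eq_one.1 hle with h | h
      · exact absurd (hz.1 h) hψ
      · exact h
    obtain rfl : rK = r := by omega
    have hdegB := VB17.deg_add hX.like (kerSC_shortExact ψ) hK hB hI
    have hdegI := (VB17.deg_le_of_mono hX.like hI hD1 (Abelian.image.ι ψ)).1
    have hdD : Curv2.deg k X (dualMod L) 1 = -Curv2.deg k X L 1 :=
      hX.like.deg_of_tensor_iso hL hD (tensorComm _ _ ≪≫ dualTensorIso hL)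
    have hdegA := VB17.deg_add hX.like hS hL1 hA hQ
    -- the induced pairing
    have hzero : tensorMap i (𝟙 (kernel ψ)) ≫ tensorMap (𝟙 A) (kernel.ι ψ) ≫ β = 0 := by
      refine tensorMod_hom_ext fun U l b => ?_
      rw [Scheme.Modules.Hom.comp_app, CategoryTheory.comp_apply, tensorMap_tsec, Scheme.Modules.Hom.comp_app,
        CategoryTheory.comp_apply, tensorMap_tsec]
      have h := congrArg (fun g => Scheme.Modules.Hom.app g U (tsec (kernel ψ) L b l))
        (show tensorMap (kernel.ι ψ ≫ ψ) (𝟙 L) ≫ evalHom L (Coh.structureModule X) =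
          tensorMap (kernel.ι ψ) (𝟙 L) ≫ γ from by
            conv_rhs => rw [← curry_eval γ, ← Category.assoc, ← tensorMap_comp, Category.comp_id])
      simp only [Scheme.Modules.Hom.comp_app, CategoryTheory.comp_apply, tensorMap_tsec] at h
      have hl : (evalHom L (Coh.structureModule X)).app U
          (tsec (dualMod L) L (ψ.app U ((kernel.ι ψ).app U b)) ((𝟙 L : L ⟶ L).app U l)) = 0 := by
        have h0 : ψ.app U ((kernel.ι ψ).app U b) = 0 := by
          have h1 := congrArg (fun g => Scheme.Modules.Hom.app g U b) (kernel.condition ψ)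
          rw [Scheme.Modules.Hom.comp_app, CategoryTheory.comp_apply] at h1
          exact h1.trans rfl
        refine (mkHom_tsec (evalBiMap L _) _ _).trans ?_
        rw [h0]
        rfl
      have hγU : γ.app U (tsec B L ((kernel.ι ψ).app U b) l) = β.app U (tsec A B (i.app U l) ((kernel.ι ψ).app U b)) := by
        show ((tensorComm B L).hom ≫ tensorMap i (𝟙 B) ≫ β).app U _ = _
        rw [Scheme.Modules.Hom.comp_app, CategoryTheory.comp_apply, Scheme.Modules.Hom.comp_app,
          CategoryTheory.comp_apply]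
        refine (congrArg (fun z => β.app U ((tensorMap i (𝟙 B)).app U z))
          (tensorComm_tsec B L ((kernel.ι ψ).app U b) l)).trans ?_
        rw [tensorMap_tsec]
        rfl
      exact hγU.symm.trans ((h.symm.trans hl).trans rfl)
    have hS' := shortExact_tensorR hS (kernel ψ) fun x =>
      Module.Flat.of_linearEquiv (nonempty_stalk_equiv hK x).some
    haveI : Epi (ShortComplex.map (ShortComplex.mk i (cokernel.π i) (cokernel.condition i)) (tensorR (kernel ψ))).g :=
      hS'.epi_g
    let β' : CohB1.tensorMod (cokernel i) (kernel ψ) ⟶ Coh.structureModule X :=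
      hS'.exact.desc (tensorMap (𝟙 A) (kernel.ι ψ) ≫ β) hzero
    have hβ' : tensorMap (cokernel.π i) (𝟙 (kernel ψ)) ≫ β' = tensorMap (𝟙 A) (kernel.ι ψ) ≫ β :=
      hS'.exact.g_desc _ hzero
    have hnd' : ∀ b, (∀ a, bil β' η a b = 0) → b = 0 := fun b hb => by
      apply (mono_iff_stalk (kernel.ι ψ)).1 inferInstance η
      refine (hnd _ fun a => ?_).trans (map_zero _).symm
      have h1 := congrArg (fun g => bil g η a b) hβ'
      simp only [bil_tensorMap] at h1
      rw [show stalkLin (𝟙 (kernel ψ)) η b = b from by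
        show (stalkAb η).map (𝟙 _) b = b; rw [CategoryTheory.Functor.map_id]; rfl, hb] at h1
      refine (Eq.trans ?_ h1.symm)
      congr 2
      · exact (show stalkLin (𝟙 A) η a = a from by
          show (stalkAb η).map (𝟙 _) a = a; rw [CategoryTheory.Functor.map_id]; rfl).symm
    have hle' := CurveCoh17.deg_add_nonpos hX hdim rK hQ hK β' hnd'
    change Curv2.deg k X B (rK + 1) = Curv2.deg k X (kernel ψ) rK + Curv2.deg k X (Abelian.image ψ) 1 at hdegB
    change Curv2.deg k X A (rK + 1) = Curv2.deg k X L 1 + Curv2.deg k X (cokernel i) rK at hdegA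
    push_cast at hdegA hdegB ⊢
    have hIdeg : Curv2.deg k X (Abelian.image ψ) 1 = Curv2.deg k X (dualMod L) 1 := by omega
    haveI := (VB17.deg_le_of_mono hX.like hI hD1 (Abelian.image.ι ψ)).2 hIdeg
    haveI : Epi ψ := by
      rw [← Abelian.image.fac ψ]; infer_instance
    have hih := ih hQ hK β' hnd' (by omega) x
    -- match `φ` on `L`
    obtain ⟨v, hv⟩ := (bijective_stalk_evalHom hL x).2 0
    obtain ⟨d, hd⟩ : ∃ d, ∀ l, bil (evalHom L (Coh.structureModule X)) x d l = φ (stalkLin i x l) := by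
      obtain ⟨eL⟩ := nonempty_stalk_equiv hL1 x
      obtain ⟨z, hz⟩ := (bijective_stalk_evalHom hL x).2 (φ (stalkLin i x (eL.symm 1)))
      obtain ⟨w, rfl⟩ : ∃ w, (stalkEquiv (dualMod L) L x).symm w = z := ⟨_, LinearEquiv.symm_apply_apply _ z⟩
      obtain ⟨d, rfl⟩ : ∃ d, w = d ⊗ₜ[X.presheaf.stalk x] eL.symm 1 := by
        clear hz
        induction w using TensorProduct.induction_on with
        | zero => exact ⟨0, by rw [TensorProduct.zero_tmul]⟩
        | tmul d l => exact ⟨eL l 0 • d, by
            rw [TensorProduct.smul_tmul, show eL l 0 • eL.symm 1 = l from eL.injective (funext fun i => by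
              rw [Fin.fin_one_eq_zero i, map_smul, Pi.smul_apply, LinearEquiv.apply_symm_apply, Pi.one_apply,
                smul_eq_mul, mul_one])]⟩
        | add u v hu hv =>
          obtain ⟨du, rfl⟩ := hu
          obtain ⟨dv, rfl⟩ := hv
          exact ⟨du + dv, (TensorProduct.add_tmul _ _ _).symm⟩
      refine ⟨d, fun l => ?_⟩
      have hl : l = eL l 0 • eL.symm 1 := eL.injective (funext fun i => by
        rw [Fin.fin_one_eq_zero i, map_smul, Pi.smul_apply, LinearEquiv.apply_symm_apply, Pi.one_apply,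
          smul_eq_mul, mul_one])
      rw [hl, map_smul, map_smul, map_smul, bil_apply]
      exact congrArg _ hz
    obtain ⟨b₁, hb₁⟩ := (epi_iff_stalk ψ).1 inferInstance x d
    have hb₁φ : ∀ l, bil β x (stalkLin i x l) b₁ = φ (stalkLin i x l) := fun l => by
      rw [← hd l, ← hb₁, ← hγx, ← curry_eval γ, bil_tensorMap,
        show stalkLin (𝟙 L) x l = l from by show (stalkAb x).map (𝟙 L) l = l; rw [CategoryTheory.Functor.map_id]; rfl]
      rfl
    -- the rest factors through the quotient
    let φ₂ := φ - (bil β x).flip b₁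
    have hker : LinearMap.ker (stalkLin (cokernel.π i) x) ≤ LinearMap.ker φ₂ := fun a ha => by
      obtain ⟨l, rfl⟩ := (exact_iff_stalk_eq_zero _).1 hS.exact x a ha
      show φ (stalkLin i x l) - bil β x (stalkLin i x l) b₁ = 0
      rw [hb₁φ, sub_self]
    have hπ := (epi_iff_stalk (cokernel.π i)).1 hS.epi_g x
    obtain ⟨φ₃, hφ₃⟩ : ∃ φ₃, ∀ a, φ₃ (stalkLin (cokernel.π i) x a) = φ₂ a :=
      ⟨((LinearMap.ker (stalkLin (cokernel.π i) x)).liftQ φ₂ hker).comp
        ((stalkLin (cokernel.π i) x).quotKerEquivOfSurjective hπ).symm.toLinearMap, fun a => by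
        rw [LinearMap.comp_apply, LinearEquiv.coe_coe,
          show ((stalkLin (cokernel.π i) x).quotKerEquivOfSurjective hπ).symm (stalkLin (cokernel.π i) x a) =
            Submodule.Quotient.mk a from (LinearEquiv.symm_apply_eq _).2 rfl]
        rfl⟩
    obtain ⟨b₂, hb₂⟩ := hih φ₃
    let b₃ : B.presheaf.stalk x := stalkLin (kernel.ι ψ) x b₂
    let b₄ : B.presheaf.stalk x := b₁
    refine ⟨b₄ + b₃, fun a => ?_⟩
    have h2 : bil β x a b₃ = φ₂ a := by
      rw [← hφ₃, ← hb₂]
      have h1 := congrArg (fun g => bil g x a b₂) hβ'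
      simp only [bil_tensorMap] at h1
      rw [show stalkLin (𝟙 (kernel ψ)) x b₂ = b₂ from by
          show (stalkAb x).map (𝟙 _) b₂ = b₂; rw [CategoryTheory.Functor.map_id]; rfl,
        show stalkLin (𝟙 A) x a = a from by
          show (stalkAb x).map (𝟙 _) a = a; rw [CategoryTheory.Functor.map_id]; rfl] at h1
      exact h1.symm
    rw [map_add, h2, LinearMap.sub_apply, LinearMap.flip_apply]
    abel


/-- A generically perfect pairing `A ⊗ B → N` with `deg A + deg B = r deg N` is perfect at every point. -/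
theorem perfect_of_deg_eq [IsIntegral X] (hX : VB17.RegCurve k X) (hdim : topologicalKrullDim X = 1) {r : ℕ}
    {A B N : X.Modules} (hA : FlatMod.IsFinLocFreeOfRank r A) (hB : FlatMod.IsFinLocFreeOfRank r B)
    (hN : PicF.IsInvertible N) (β : CohB1.tensorMod A B ⟶ N)
    (hnd : ∀ b, (∀ a, bil β (genericPoint X) a b = 0) → b = 0)
    (hsum : Curv2.deg k X A r + Curv2.deg k X B r = r * Curv2.deg k X N 1) (x : X)
    (φ : A.presheaf.stalk x →ₗ[X.presheaf.stalk x] N.presheaf.stalk x) :
    ∃ b, ∀ a, bil β x a b = φ a := by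
  haveI := hX.like.noetherian
  obtain ⟨N', hN', ⟨e⟩⟩ := M2.exists_inverse hN
  have h1 := (isInvertible_iff_isFinLocFreeOfRank_one N').1 hN'
  let β' : CohB1.tensorMod A (CohB1.tensorMod B N') ⟶ Coh.structureModule X :=
    (tensorAssoc A B N').inv ≫ tensorMap β (𝟙 N') ≫ e.hom
  -- the equivalence `n ↦ e (n ⊗ n₀)` at a stalk
  have hval : ∀ (z : X) (a : A.presheaf.stalk z) (b : B.presheaf.stalk z) (n' : N'.presheaf.stalk z),
      bil β' z a ((stalkEquiv B N' z).symm (b ⊗ₜ n')) = bil e.hom z (bil β z a b) n' := by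
    intro z a b n'
    obtain ⟨U, hz, s, t, rfl, rfl⟩ := exists_germ_germ z a b
    obtain ⟨V, hzV, n, rfl⟩ := N'.presheaf.exists_germ_eq n'
    have hW : z ∈ U ⊓ V := ⟨hz, hzV⟩
    rw [← germ_mres A (inf_le_left : U ⊓ V ≤ U) hW s, ← germ_mres B (inf_le_left : U ⊓ V ≤ U) hW t,
      ← germ_mres N' (inf_le_right : U ⊓ V ≤ V) hW n]
    set s' := mres A (inf_le_left : U ⊓ V ≤ U) s
    set t' := mres B (inf_le_left : U ⊓ V ≤ U) t
    set m' := mres N' (inf_le_right : U ⊓ V ≤ V) n
    rw [(LinearEquiv.symm_apply_eq _).2 (stalkEquiv_tsec B N' z hW t' m').symm, bil_apply, bil_apply, bil_apply,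
      (LinearEquiv.symm_apply_eq _).2 (stalkEquiv_tsec A _ z hW s' _).symm,
      (LinearEquiv.symm_apply_eq _).2 (stalkEquiv_tsec A B z hW s' t').symm]
    simp only [stalkLin_apply, germ_naturality]
    rw [(LinearEquiv.symm_apply_eq _).2 (stalkEquiv_tsec N N' z hW (β.app _ (tsec A B s' t')) m').symm]
    refine Eq.trans ?_ (M1.germ_naturality e.hom (U ⊓ V) z hW _).symm
    refine congrArg _ ?_
    show ((tensorAssoc A B N').inv ≫ tensorMap β (𝟙 N') ≫ e.hom).app _ _ = _
    rw [← tensorAssoc_tsec, ← CategoryTheory.comp_apply, ← Scheme.Modules.Hom.comp_app, Iso.hom_inv_id_assoc,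
      Scheme.Modules.Hom.comp_app, CategoryTheory.comp_apply, tensorMap_tsec]
    rfl
  have hpull : ∀ (z : X), ∃ n₀, (∀ b', ∃ b, b' = (stalkEquiv B N' z).symm (b ⊗ₜ n₀)) ∧
      Function.Injective fun n => bil e.hom z n n₀ := by
    intro z
    obtain ⟨e₁⟩ := nonempty_stalk_equiv h1 z
    refine ⟨e₁.symm 1, fun b' => ?_, (injective_iff_map_eq_zero ((bil e.hom z).flip (e₁.symm 1))).2 fun n hn => ?_⟩
    · have hgen : ∀ l, l = e₁ l 0 • e₁.symm 1 := fun l => e₁.injective (funext fun i => by
        rw [Fin.fin_one_eq_zero i, map_smul, Pi.smul_apply, LinearEquiv.apply_symm_apply, Pi.one_apply,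
          smul_eq_mul, mul_one])
      obtain ⟨w, rfl⟩ : ∃ w, (stalkEquiv B N' z).symm w = b' := ⟨_, LinearEquiv.symm_apply_apply _ b'⟩
      induction w using TensorProduct.induction_on with
      | zero => exact ⟨0, by rw [TensorProduct.zero_tmul]⟩
      | tmul b l => exact ⟨e₁ l 0 • b, by rw [TensorProduct.smul_tmul, ← hgen l]⟩
      | add u v hu hv =>
        obtain ⟨bu, hbu⟩ := hu
        obtain ⟨bv, hbv⟩ := hv
        exact ⟨bu + bv, by rw [map_add, hbu, hbv, TensorProduct.add_tmul, map_add]⟩
    · obtain ⟨e₀⟩ := nonempty_stalk_equiv ((isInvertible_iff_isFinLocFreeOfRank_one N).1 hN) z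
      have h0 : (stalkEquiv N N' z).symm (n ⊗ₜ e₁.symm 1) = 0 :=
        (mono_iff_stalk e.hom).1 inferInstance z (hn.trans (map_zero _).symm)
      rw [LinearEquiv.map_eq_zero_iff] at h0
      have h2 := congrArg (fun w => TensorProduct.lift ((LinearMap.mul _ _).compl₁₂
        ((LinearMap.proj 0).comp e₀.toLinearMap) ((LinearMap.proj 0).comp e₁.toLinearMap)) w) h0
      simp at h2
      exact e₀.injective (funext fun i => by rw [Fin.fin_one_eq_zero i, h2, map_zero]; rfl)
  have hnd' : ∀ b, (∀ a, bil β' (genericPoint X) a b = 0) → b = 0 := fun b' hb' => by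
    obtain ⟨n₀, hgen, hinj⟩ := hpull (genericPoint X)
    obtain ⟨b, rfl⟩ := hgen b'
    rw [hnd b fun a => hinj (by simpa [hval] using hb' a), TensorProduct.zero_tmul, map_zero]
  have hBN := isFinLocFreeOfRank_tensor hB h1
  rw [mul_one] at hBN
  have hd := hX.like.deg_tensor hB h1
  rw [mul_one, hX.like.deg_of_tensor_iso hN hN' e] at hd
  obtain ⟨n₀, hgen, hinj⟩ := hpull x
  obtain ⟨b', hb'⟩ := perfect_of_deg_add_eq hX hdim r hA hBN β' hnd' (by
      push_cast at hd hsum ⊢; linarith) x (((bil e.hom x).flip n₀).comp φ)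
  obtain ⟨b, rfl⟩ := hgen b'
  exact ⟨b, fun a => hinj (by simpa [hval] using hb' a)⟩

end Groth.Agent.CurveOm17
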