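import Groth.Agent.Lib.CurveOm17.Glue
import Groth.Agent.Lib.CurveOm17.Perfect
import Groth.Agent.Lib.CurveCoh17.AffPush
import Groth.Agent.Lib.CurveCoh17.TracePair
import Groth.Agent.Lib.VB17.SmoothDuality
import Groth.Agent.Lib.Omega12.Universal
import Groth.Agent.Lib.Omega12.Compat
import Groth.Agent.Lib.Omega12.LocFree
import Groth.Agent.Lib.CurveCartier25.RelDim

/-!
# Trace duality along a separable cover and the comparison `W ⊗ f^* Ω_Y ≅ Ω_X ⊗ f^* N`
-/

set_option linter.style.haveILetI false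
set_option autoImplicit false
set_option maxHeartbeats 800000

universe u

open CategoryTheory TopologicalSpace Opposite CategoryTheory.Limits AlgebraicGeometry

namespace Groth.Agent.CurveOm17

open Groth.Agent.M1 Groth.Agent.M2 Groth.Agent.CurveCoh17 Groth.Agent.P1Split

variable {X Y : Scheme.{u}} (f : X ⟶ Y) {W : X.Modules} {N : Y.Modules}

/-- Sections of invertible modules on an integral scheme vanishing on a nonempty open vanish. -/
theorem eq_zero_of_mres [IsIntegral X] (hW : PicF.IsInvertible W) {U V : X.Opens} (hV : V ≤ U)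
    (hne : (V : Set X).Nonempty) {s : Γ(W, U)} (hs : mres W hV s = 0) : s = 0 := by
  refine M1.section_ext _ _ fun x hx => ?_
  rw [map_zero]
  obtain ⟨D, g, hxD, hg⟩ := ProjUP.exists_isGen_of_invertible hW x
  obtain ⟨a, ha⟩ := (hg (D ⊓ U) inf_le_left).2 (mres W inf_le_right s)
  dsimp only at ha
  have hne' : Nonempty ((D ⊓ U ⊓ V : X.Opens) : Scheme.{u}) := by
    obtain ⟨z, hz⟩ := nonempty_preirreducible_inter (D ⊓ U).isOpen V.isOpen ⟨x, hxD, hx⟩ hne
    exact ⟨⟨z, hz⟩⟩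
  have h1 := congrArg (fun z => mres W (inf_le_left : D ⊓ U ⊓ V ≤ D ⊓ U) z) ha
  simp only [mres_smul, mres_mres] at h1
  have h2 : mres W (inf_le_left.trans inf_le_right : D ⊓ U ⊓ V ≤ U) s = 0 := by
    rw [← mres_mres W hV (inf_le_right : D ⊓ U ⊓ V ≤ V), hs, map_zero]
  have h3 : ores (inf_le_left : D ⊓ U ⊓ V ≤ D ⊓ U) a = 0 :=
    smul_inj_of_isGen (hg.mres (inf_le_left.trans inf_le_left : D ⊓ U ⊓ V ≤ D))
      ((h1.trans h2).trans (zero_smul _ _).symm)
  have h4 : a = 0 := map_injective_of_isIntegral X (homOfLE inf_le_left) (h3.trans (map_zero _).symm)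
  rw [← germ_mres W (inf_le_right : D ⊓ U ≤ U) (show x ∈ D ⊓ U from ⟨hxD, hx⟩) s, ← ha, h4, zero_smul, map_zero]

/-- A basis of `f_* O` and a generator of `W` give a basis of `f_* W`. -/
theorem isBas_pushW {U : Y.Opens} {n : ℕ} {b : Fin n → Γ(pushO f, U)} (hb : IsBas (pushO f) U b)
    {g : Γ(W, f ⁻¹ᵁ U)} (hg : Twist.IsGen W (f ⁻¹ᵁ U) g) :
    IsBas (pushW f W) U (fun i => act f W (b i) g) := fun V hV => by
  have key : (fun c : Fin n → Γ(Y, V) => ∑ i, c i • mres (pushW f W) hV (act f W (b i) g)) =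
      (fun s : Γ(pushO f, V) => act f W s (mres (pushW f W) hV (g : Γ(pushW f W, U)))) ∘
        fun c => ∑ i, c i • mres (pushO f) hV (b i) := by
    funext c
    let L : Γ(pushO f, V) →+ Γ(pushW f W, V) := AddMonoidHom.mk'
      (fun s => act f W s (mres (pushW f W) hV (g : Γ(pushW f W, U)))) fun s s' => (actBiMap f W).add_left V s s' _
    show _ = L (∑ i, _)
    rw [map_sum]
    refine Finset.sum_congr rfl fun i _ => ?_
    rw [act_mres]
    exact ((actBiMap f W).smul_left V (c i) _ _).symm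
  rw [key]
  exact (hg (f ⁻¹ᵁ V) (f.preimage_mono hV)).comp (hb V hV)

theorem isFinLocFreeOfRank_pushW [IsFinite f] [Flat f] [LocallyOfFinitePresentation f] (hW : PicF.IsInvertible W)
    {n : ℕ} (hn : FlatMod.IsFinLocFreeOfRank n (pushO f)) : FlatMod.IsFinLocFreeOfRank n (pushW f W) := fun y => by
  obtain ⟨D, hyD, ⟨i⟩⟩ := Curve17.exists_trivial_near_fibre f W hW y
  obtain ⟨g, hg⟩ := ParaF27.exists_isGen_of_iso i
  obtain ⟨C, b, hyC, hb⟩ := exists_isBas_nhd hn y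
  have hbas := isBas_pushW f (hb.mres (inf_le_right : D ⊓ C ≤ C)) (hg.mres (f.preimage_mono (inf_le_left : D ⊓ C ≤ D)))
  have himg : (D ⊓ C).ι ''ᵁ ⊤ = D ⊓ C := by simp
  obtain ⟨e⟩ := nonempty_iso_freeMod_of_isBas (isBas_restrict (D ⊓ C).ι (pushW f W) (D := ⊤) (hbas.mres himg.le))
  exact ⟨D ⊓ C, ⟨hyD, hyC⟩, ⟨e.symm⟩⟩

variable {t : pushW f W ⟶ N}

/-- A nonzero map has no right kernel. -/
theorem rkTriv_of_ne_zero [IsIntegral X] [IsIntegral Y] [IsFinite f] (e : f (genericPoint X) = genericPoint Y)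
    (hW : PicF.IsInvertible W) (hN : PicF.IsInvertible N) (ht : t ≠ 0) : RKTriv f W t := by
  intro U w hw
  by_contra hw0
  have hηU : genericPoint Y ∈ U := by
    by_contra hh
    exact hw0 (M1.section_ext _ _ fun y hy => absurd ((genericPoint_specializes y).mem_open U.2 hy) hh)
  obtain ⟨D, hηD, ⟨i⟩⟩ := Curve17.exists_trivial_near_fibre f W hW (genericPoint Y)
  obtain ⟨g, hg⟩ := ParaF27.exists_isGen_of_iso i
  obtain ⟨O, hO, hηO, hOle⟩ := exists_isAffineOpen_mem_and_subset (show genericPoint Y ∈ U ⊓ D from ⟨hηU, hηD⟩)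
  have hOU : O ≤ U := fun z hz => (hOle hz).1
  have hOD : O ≤ D := fun z hz => (hOle hz).2
  haveI : Nonempty O := ⟨⟨_, hηO⟩⟩
  haveI : Nonempty ((f ⁻¹ᵁ O : X.Opens) : Scheme.{u}) := ⟨⟨genericPoint X, show f (genericPoint X) ∈ O from e ▸ hηO⟩⟩
  obtain ⟨a, ha⟩ := exists_eq_smul_of_isGen (hg.mres (f.preimage_mono hOD)) (mres W (f.preimage_mono hOU) w)
  have ha0 : a ∈ nonZeroDivisors Γ(X, f ⁻¹ᵁ O) := mem_nonZeroDivisors_of_ne_zero fun h0 =>
    hw0 (eq_zero_of_mres hW (f.preimage_mono hOU) ⟨genericPoint X, show f (genericPoint X) ∈ O from e ▸ hηO⟩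
      (by rw [ha, h0, zero_smul]))
  letI := (f.app O).hom.toAlgebra
  haveI : Module.Finite Γ(Y, O) Γ(X, f ⁻¹ᵁ O) := f.finite_app O hO
  obtain ⟨α, hα, c, hc⟩ := (Algebra.IsIntegral.isIntegral (R := Γ(Y, O)) a).isAlgebraic.exists_nonzero_dvd ha0
  refine ht (Scheme.Modules.hom_ext _ _ fun V => ?_)
  ext z
  show t.app V z = 0
  by_cases hV : (V : Set Y).Nonempty
  swap
  · exact M1.section_ext _ _ fun y hy => absurd ⟨y, hy⟩ hV
  have hne : ((V ⊓ O : Y.Opens) : Set Y).Nonempty := nonempty_preirreducible_inter V.isOpen O.isOpen hV ⟨_, hηO⟩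
  refine eq_zero_of_mres hN (inf_le_left : V ⊓ O ≤ V) hne ?_
  rw [← M1.app_mres]
  obtain ⟨s, hs⟩ := exists_eq_smul_of_isGen
    (hg.mres (f.preimage_mono ((inf_le_right : V ⊓ O ≤ O).trans hOD))) (mres (pushW f W) (inf_le_left : V ⊓ O ≤ V) z : Γ(W, f ⁻¹ᵁ (V ⊓ O)))
  have h1 := hw (V ⊓ O) (inf_le_right.trans hOU)
    ((s * ores (f.preimage_mono inf_le_right) c : Γ(X, f ⁻¹ᵁ (V ⊓ O))) : Γ(pushO f, V ⊓ O))
  have h2 : act f W ((s * ores (f.preimage_mono inf_le_right) c : Γ(X, f ⁻¹ᵁ (V ⊓ O))) : Γ(pushO f, V ⊓ O))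
      (mres (pushW f W) (inf_le_right.trans hOU) w) =
      (ores (inf_le_right : V ⊓ O ≤ O) α • mres (pushW f W) (inf_le_left : V ⊓ O ≤ V) z : Γ(pushW f W, V ⊓ O)) := by
    show ((s * ores _ c) • mres W (f.preimage_mono (inf_le_right.trans hOU)) w : Γ(W, f ⁻¹ᵁ (V ⊓ O))) =
      f.app (V ⊓ O) (ores inf_le_right α) • _
    rw [hs, ← mres_mres W (f.preimage_mono hOU) (f.preimage_mono inf_le_right), ha, mres_smul, mres_mres,
      ← mul_smul, ← mul_smul]
    refine congrArg (fun r : Γ(X, f ⁻¹ᵁ (V ⊓ O)) => r • (_ : Γ(W, f ⁻¹ᵁ (V ⊓ O)))) ?_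
    have h3 : f.app (V ⊓ O) (ores (inf_le_right : V ⊓ O ≤ O) α) =
        ores (f.preimage_mono inf_le_right) (algebraMap Γ(Y, O) Γ(X, f ⁻¹ᵁ O) α) := by
      show (Y.presheaf.map (homOfLE inf_le_right).op ≫ f.app (V ⊓ O)) α =
        (f.app O ≫ X.presheaf.map (homOfLE (f.preimage_mono inf_le_right)).op) α
      rw [Scheme.Hom.naturality]
      rfl
    rw [h3, hc, map_mul]
    ring
  rw [h2, Scheme.Modules.Hom.app_smul] at h1
  obtain ⟨y, hy⟩ := hne
  obtain ⟨D', g', hyD', hg'⟩ := ProjUP.exists_isGen_of_invertible hN y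
  refine eq_zero_of_mres hN (inf_le_left : V ⊓ O ⊓ D' ≤ V ⊓ O) ⟨y, hy, hyD'⟩ ?_
  obtain ⟨r, hr⟩ := exists_eq_smul_of_isGen (hg'.mres (inf_le_right : V ⊓ O ⊓ D' ≤ D'))
    (mres N (inf_le_left : V ⊓ O ⊓ D' ≤ V ⊓ O) (t.app (V ⊓ O) (mres (pushW f W) inf_le_left z)))
  haveI : Nonempty ((V ⊓ O ⊓ D' : Y.Opens) : Scheme.{u}) := ⟨⟨y, hy, hyD'⟩⟩
  have h4 : ores (inf_le_left.trans inf_le_right : V ⊓ O ⊓ D' ≤ O) α * r = 0 := by
    refine smul_inj_of_isGen (hg'.mres (inf_le_right : V ⊓ O ⊓ D' ≤ D')) ?_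
    rw [mul_smul, ← hr, zero_smul, ← map_zero (mres N (inf_le_left : V ⊓ O ⊓ D' ≤ V ⊓ O)).hom, ← h1, mres_smul]
    exact congrArg (fun a : Γ(Y, V ⊓ O ⊓ D') => a • _) (ores_ores _ _ α).symm
  rw [hr, (mul_eq_zero.1 h4).resolve_left fun h => hα (map_injective_of_isIntegral Y (homOfLE _) (h.trans (map_zero _).symm)),
    zero_smul]

/-- Generic nondegeneracy of the pairing. -/
theorem nondegenerate [IsIntegral Y] (hN : PicF.IsInvertible N) (h0 : RKTriv f W t)
    (b : (pushW f W).presheaf.stalk (genericPoint Y)) (hb : ∀ a, bil (pair f W t) (genericPoint Y) a b = 0) : b = 0 := by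
  obtain ⟨U, hU, w, rfl⟩ := (pushW f W).presheaf.exists_germ_eq b
  rw [h0 U w fun U' hU' s => ?_]
  · exact map_zero _
  by_cases hne : (U' : Set Y).Nonempty
  swap
  · exact M1.section_ext _ _ fun y hy => absurd ⟨y, hy⟩ hne
  obtain ⟨y, hy⟩ := hne
  have hη : genericPoint Y ∈ U' := (genericPoint_specializes y).mem_open U'.2 hy
  have h1 := hb ((pushO f).presheaf.germ U' _ hη s)
  rw [← germ_mres (pushW f W) hU' hη w] at h1
  rw [bil_pair_germ] at h1
  obtain ⟨O, hO, i₁, i₂, he⟩ := N.presheaf.germ_eq (genericPoint Y) hη hη _ 0 (h1.trans (map_zero _).symm)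
  exact eq_zero_of_mres hN i₁.le ⟨_, hO⟩ (he.trans (map_zero _))

variable {k : Type u} [Field k] [X.Over (Spec (CommRingCat.of k))] [Y.Over (Spec (CommRingCat.of k))]

/-- The trace map of dualizing modules. -/
theorem exists_trace_map [IsFinite f] (hf : f ≫ (Y ↘ Spec (CommRingCat.of k)) = X ↘ Spec (CommRingCat.of k))
    (hY : VB17.RegCurve k Y) (h0Y : Module.finrank k (Coh.HH Y (Coh.structureModule Y) 0) = 1)
    (hbigY : VB17.HasBigDeg k Y) {lamN : Module.Dual k (Coh.HH Y N 1)} (hN : VB17.IsDualizing k N lamN)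
    {lam : Module.Dual k (Coh.HH X W 1)} (hW : VB17.IsDualizing k W lam) {n : ℕ}
    (hn : FlatMod.IsFinLocFreeOfRank n (pushW f W)) : ∃ t : pushW f W ⟶ N, t ≠ 0 := by
  haveI : W.IsQuasicoherent := (isCoh_of_ofRank ((isInvertible_iff_isFinLocFreeOfRank_one W).1 hW.inv)).1
  obtain ⟨E⟩ := nonempty_hequiv_push k f hf W 1
  obtain ⟨φ, hφ⟩ := hN.exists_hom hY h0Y hbigY hn (lam.comp E.toLinearMap)
  refine ⟨φ, fun h => hW.ne ?_⟩
  rw [h, VB17.hmap_zero', LinearMap.comp_zero] at hφ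
  refine LinearMap.ext fun x => ?_
  have := LinearMap.congr_fun hφ (E.symm x)
  simpa using this

theorem exists_perfect_trace [IsAlgClosed k] [IsIntegral X] [IsIntegral Y] [IsProper (X ↘ Spec (CommRingCat.of k))]
    [IsProper (Y ↘ Spec (CommRingCat.of k))] [Smooth (X ↘ Spec (CommRingCat.of k))]
    [Smooth (Y ↘ Spec (CommRingCat.of k))] (hdX : topologicalKrullDim X = 1) (hdY : topologicalKrullDim Y = 1)
    [IsFinite f] [Flat f] [LocallyOfFinitePresentation f]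
    (hf : f ≫ (Y ↘ Spec (CommRingCat.of k)) = X ↘ Spec (CommRingCat.of k))
    (e : f (genericPoint X) = genericPoint Y)
    {lam : Module.Dual k (Coh.HH X W 1)} (hW : VB17.IsDualizing k W lam)
    {lamN : Module.Dual k (Coh.HH Y N 1)} (hN : VB17.IsDualizing k N lamN) :
    ∃ t : pushW f W ⟶ N, RKTriv f W t ∧
      ∀ (y : Y) (φ : (pushO f).presheaf.stalk y →ₗ[Y.presheaf.stalk y] N.presheaf.stalk y),
        ∃ w, ∀ a, bil (pair f W t) y a w = φ a := by
  obtain ⟨hX', h0X, hbigX⟩ := VB17.setup (k := k) (X := X) hdX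
  obtain ⟨hY, h0Y, hbigY⟩ := VB17.setup (k := k) (X := Y) hdY
  obtain ⟨n, hn⟩ := VB17.exists_rank_of_isFinLocFree (isFinLocFree_pushO f)
  have hnW := isFinLocFreeOfRank_pushW f hW.inv hn
  obtain ⟨t, ht⟩ := exists_trace_map f hf hY h0Y hbigY hN hW hnW
  have h0 := rkTriv_of_ne_zero f e hW.inv hN.inv ht
  refine ⟨t, h0, ?_⟩
  refine perfect_of_deg_eq hY hdY hn hnW hN.inv (pair f W t) (nondegenerate f hN.inv h0) ?_
  haveI : W.IsQuasicoherent := (isCoh_of_ofRank ((isInvertible_iff_isFinLocFreeOfRank_one W).1 hW.inv)).1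
  have hχ : Curv2.euler k Y (pushW f W) = Curv2.euler k X W :=
    finsum_congr fun i => by rw [(nonempty_hequiv_push k f hf W i).some.finrank_eq]
  have hdW := (hW.invariants hX' h0X hbigX).2.2
  have hdN := (hN.invariants hY h0Y hbigY).2.2
  have hχX := (hX'.like.adm (isCoh_of_ofRank ((isInvertible_iff_isFinLocFreeOfRank_one _).1
    (PicLoc.isInvertible_structureModule X)))).euler_eq
  have hχY := (hY.like.adm (isCoh_of_ofRank ((isInvertible_iff_isFinLocFreeOfRank_one _).1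
    (PicLoc.isInvertible_structureModule Y)))).euler_eq
  rw [h0X] at hχX
  rw [h0Y] at hχY
  simp only [Curv2.deg, euler_pushO f hf, hχ, Curv2.genus] at hdW hdN ⊢
  push_cast at *
  linear_combination hdW - (n : ℤ) * hdN + 2 * hχX - 2 * (n : ℤ) * hχY


/-- The pullback of differentials along `f`. -/
theorem exists_diff [QuasiSeparated (Y ↘ Spec (CommRingCat.of k))] (hf : f ≫ (Y ↘ Spec (CommRingCat.of k)) = X ↘ Spec (CommRingCat.of k))
    {ΩX : X.Modules} (dX : OmegaSh.Der (X ↘ Spec (CommRingCat.of k)) ΩX)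
    {ΩY : Y.Modules} {dY : OmegaSh.Der (Y ↘ Spec (CommRingCat.of k)) ΩY} (hdYu : OmegaSh.IsUniversal dY) :
    ∃ φ : ΩY ⟶ pushW f ΩX, ∀ (U : Y.Opens) (a : Γ(Y, U)), φ.app U (dY.app U a) = dX.app (f ⁻¹ᵁ U) (f.app U a) := by
  have hsq : (X ↘ Spec (CommRingCat.of k)) ≫ 𝟙 _ = f ≫ (Y ↘ Spec (CommRingCat.of k)) := by rw [Category.comp_id, hf]
  obtain ⟨φ, hφ, -⟩ := hdYu _ (Omega12.pushDer hsq dX)
  exact ⟨φ, fun U a => ((Omega12.postcomp_app _ dY φ U a).symm.trans
    (congrArg (fun D : OmegaSh.Der (Y ↘ Spec (CommRingCat.of k)) _ => D.app U a) hφ)).trans (Omega12.pushDer_app hsq dX U a)⟩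

theorem nonempty_tensor_iso [IsAlgClosed k] [IsIntegral X] [IsIntegral Y] [IsProper (X ↘ Spec (CommRingCat.of k))]
    [IsProper (Y ↘ Spec (CommRingCat.of k))] [Smooth (X ↘ Spec (CommRingCat.of k))]
    [Smooth (Y ↘ Spec (CommRingCat.of k))] (hdX : topologicalKrullDim X = 1) (hdY : topologicalKrullDim Y = 1)
    [IsFinite f] (hf : f ≫ (Y ↘ Spec (CommRingCat.of k)) = X ↘ Spec (CommRingCat.of k))
    (e : f (genericPoint X) = genericPoint Y)
    (hsep : letI := ((Y.presheaf.stalkSpecializes (specializes_of_eq e) ≫ f.stalkMap (genericPoint X)).hom).toAlgebra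
      Algebra.IsSeparable Y.functionField X.functionField)
    {lam : Module.Dual k (Coh.HH X W 1)} (hW : VB17.IsDualizing k W lam)
    {lamN : Module.Dual k (Coh.HH Y N 1)} (hN : VB17.IsDualizing k N lamN)
    {ΩX : X.Modules} {dX : OmegaSh.Der (X ↘ Spec (CommRingCat.of k)) ΩX} (hdXu : OmegaSh.IsUniversal dX)
    {ΩY : Y.Modules} {dY : OmegaSh.Der (Y ↘ Spec (CommRingCat.of k)) ΩY} (hdYu : OmegaSh.IsUniversal dY) :
    Nonempty (CohB1.tensorMod W ((Scheme.Modules.pullback f).obj ΩY) ≅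
      CohB1.tensorMod ΩX ((Scheme.Modules.pullback f).obj N)) := by
  obtain ⟨hY, h0Y, hbigY⟩ := VB17.setup (k := k) (X := Y) hdY
  haveI := hY.like.noetherian
  haveI := flat_of_pid f hY.pid e
  haveI : LocallyOfFinitePresentation f := {
    finitePresentation_appLE := fun {U} hU {V} hV le =>
      haveI := IsLocallyNoetherian.component_noetherian (X := Y) ⟨U, hU⟩
      RingHom.FinitePresentation.of_finiteType.mp (f.finiteType_appLE hU hV le) }
  obtain ⟨t, h0, hperf⟩ := exists_perfect_trace f hdX hdY hf e hW hN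
  obtain ⟨ψ, hψ⟩ := exists_lift hN.inv h0 hperf (Trace12.traceHom (RelSpec.QCAlg.directImage f) (isFinLocFree_pushO f))
  obtain ⟨φ, hφ'⟩ := exists_diff f hf dX hdYu
  haveI := CurveCartier25.smoothOfRelativeDimension_one (X ↘ Spec (CommRingCat.of k)) hdX
  haveI := CurveCartier25.smoothOfRelativeDimension_one (Y ↘ Spec (CommRingCat.of k)) hdY
  have hΩX : PicF.IsInvertible ΩX := (isInvertible_iff_isFinLocFreeOfRank_one _).2
    (Omega12.isFinLocFreeOfRank_receptacle_of_smooth _ hdXu 1)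
  have hΩY : PicF.IsInvertible ΩY := (isInvertible_iff_isFinLocFreeOfRank_one _).2
    (Omega12.isFinLocFreeOfRank_receptacle_of_smooth _ hdYu 1)
  haveI : JacobsonSpace Y := jacobsonSpace_of_over (k := k)
  exact nonempty_iso_of_local f e ψ φ fun y hy =>
    exists_associated hdX.le hdY f hf e hsep hW.inv hN.inv h0 hperf rfl hψ hΩX hdXu hΩY hdYu hφ' hy

end Groth.Agent.CurveOm17
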