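import Groth.Agent.Lib.CurveOm17.Apps
import Groth.Agent.Lib.CurveOm17.Cotangent
import Groth.Agent.Lib.CurveOm17.DiffNeZero
import Groth.Agent.Lib.Omega12.Compat
import Groth.Agent.Lib.VB17.Sub
import Groth.Agent.S7640

/-!
# The Hurwitz formula
-/

set_option linter.style.haveILetI false
set_option autoImplicit false
set_option maxHeartbeats 800000

universe u

open CategoryTheory TopologicalSpace Opposite CategoryTheory.Limits AlgebraicGeometry

namespace Groth.Agent.CurveOm17

open Groth.Agent.M1 Groth.Agent.M2 Groth.Agent.CurveCoh17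

variable {k : Type u} [Field k] {X : Scheme.{u}} [X.Over (Spec (CommRingCat.of k))]

/-- The degree jumps by the sections of the cokernel. -/
theorem deg_eq_add_of_mono [IsIntegral X] (hX : CurveLike k X) {r : ℕ} {G E : X.Modules}
    (hG : FlatMod.IsFinLocFreeOfRank r G) (hE : FlatMod.IsFinLocFreeOfRank r E) (g : G ⟶ E) [Mono g] :
    Curv2.deg k X E r = Curv2.deg k X G r + Module.finrank k (Coh.HH X (cokernel g) 0) := by
  haveI := hX.noetherian
  have hinj := (mono_iff_stalk g).1 inferInstance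
  obtain ⟨S, hS⟩ := exists_suppIn_of_maximal hX.dim
    (isCoh_cokernel (isCoh_of_ofRank hG).1 (isCoh_of_ofRank hE) g) fun x hx =>
      eq_genericPoint_of_maximal hx ▸ eq_zero_stalk_cokernel g _
        (surjective_stalkLin_genericPoint (nonempty_stalk_equiv hG _) (nonempty_stalk_equiv hE _) g
          (hinj _))
  have hK0 : ∀ x, ∀ a : (kernel g).presheaf.stalk x, a = 0 := fun x => eq_zero_stalk_kernel g x (hinj x)
  have hK : SuppIn (kernel g) S := ⟨hS.closed, fun x _ => hK0 x⟩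
  obtain ⟨hk, hc, he⟩ := euler_sub g (hX.adm (isCoh_of_ofRank hG)) (hX.adm (isCoh_of_ofRank hE)) hK hS
  haveI := VB17.finrank_h0_of_empty (VB17.suppIn_empty_of_isZero hK0)
  rw [Module.finrank_zero_of_subsingleton (M := Coh.HH X (kernel g) 0)] at he
  rw [Curv2.deg, Curv2.deg]; omega

variable [IsIntegral X] [IsProper (X ↘ Spec (CommRingCat.of k))] [Smooth (X ↘ Spec (CommRingCat.of k))]
  {Y : Scheme.{u}} [Y.Over (Spec (CommRingCat.of k))] [IsIntegral Y] [IsProper (Y ↘ Spec (CommRingCat.of k))]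
  [Smooth (Y ↘ Spec (CommRingCat.of k))] (f : X ⟶ Y) [IsFinite f]

/-- The pullback of differentials along a separable map is a monomorphism. -/
theorem exists_mono_diffCompat (hdX : topologicalKrullDim X = 1) (hdY : topologicalKrullDim Y = 1)
    (hf : f ≫ (Y ↘ Spec (CommRingCat.of k)) = X ↘ Spec (CommRingCat.of k))
    (e : f (genericPoint X) = genericPoint Y)
    (hsep : letI := ((Y.presheaf.stalkSpecializes (specializes_of_eq e) ≫ f.stalkMap (genericPoint X)).hom).toAlgebra
      Algebra.IsSeparable Y.functionField X.functionField)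
    {ΩX : X.Modules} {dX : OmegaSh.Der (X ↘ Spec (CommRingCat.of k)) ΩX} (hX : OmegaSh.IsUniversal dX)
    {ΩY : Y.Modules} {dY : OmegaSh.Der (Y ↘ Spec (CommRingCat.of k)) ΩY} (hY : OmegaSh.IsUniversal dY) :
    PicF.IsInvertible ΩX ∧ PicF.IsInvertible ΩY ∧
      ∃ c : (Scheme.Modules.pullback f).obj ΩY ⟶ ΩX, OmegaSh.IsDiffCompat f dY dX c ∧ Mono c := by
  haveI := CurveCartier25.smoothOfRelativeDimension_one (X ↘ Spec (CommRingCat.of k)) hdX
  haveI := CurveCartier25.smoothOfRelativeDimension_one (Y ↘ Spec (CommRingCat.of k)) hdY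
  have hΩX : PicF.IsInvertible ΩX := (isInvertible_iff_isFinLocFreeOfRank_one _).2
    (Omega12.isFinLocFreeOfRank_receptacle_of_smooth _ hX 1)
  have hΩY : PicF.IsInvertible ΩY := (isInvertible_iff_isFinLocFreeOfRank_one _).2
    (Omega12.isFinLocFreeOfRank_receptacle_of_smooth _ hY 1)
  have hsq : (X ↘ Spec (CommRingCat.of k)) ≫ 𝟙 _ = f ≫ (Y ↘ Spec (CommRingCat.of k)) := by rw [Category.comp_id, hf]
  obtain ⟨c, hc, -⟩ := Omega12.existsUnique_diffCompat hsq hY dX
  refine ⟨hΩX, hΩY, c, hc, ?_⟩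
  rcases eq_zero_or_mono_of_isInvertible (Groth.Agent.Twist.isInvertible_pullback f hΩY) hΩX c with h0 | ⟨h, -⟩
  · obtain ⟨U, a, ha⟩ := diff_ne_zero f e hsep hΩX hX
    refine absurd ((hc U a).symm.trans ?_) ha
    rw [h0]
    simp
  · exact h

/-- Hurwitz: `deg Ω_X = n deg Ω_Y + h⁰(Ω_{X/Y})`. -/
theorem deg_omega_eq (hdX : topologicalKrullDim X = 1) (hdY : topologicalKrullDim Y = 1)
    (hf : f ≫ (Y ↘ Spec (CommRingCat.of k)) = X ↘ Spec (CommRingCat.of k))
    (e : f (genericPoint X) = genericPoint Y)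
    (hsep : letI := ((Y.presheaf.stalkSpecializes (specializes_of_eq e) ≫ f.stalkMap (genericPoint X)).hom).toAlgebra
      Algebra.IsSeparable Y.functionField X.functionField)
    {ΩX : X.Modules} {dX : OmegaSh.Der (X ↘ Spec (CommRingCat.of k)) ΩX} (hX : OmegaSh.IsUniversal dX)
    {ΩY : Y.Modules} {dY : OmegaSh.Der (Y ↘ Spec (CommRingCat.of k)) ΩY} (hY : OmegaSh.IsUniversal dY) :
    Curv2.deg k X ΩX 1 = (f.residueDegree (genericPoint X) : ℤ) * Curv2.deg k Y ΩY 1 +
      Module.finrank k (Coh.HH X (Omega.sheaf f) 0) := by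
  obtain ⟨hΩX, hΩY, c, hc, hm⟩ := exists_mono_diffCompat f hdX hdY hf e hsep hX hY
  obtain ⟨i⟩ := exists_cokernel_iso hf hY hX (Omega12.isUniversal_dOmega (f := f)) hc
  have h := deg_eq_add_of_mono (VB17.curveLike (k := k) hdX)
    ((isInvertible_iff_isFinLocFreeOfRank_one _).1 (Groth.Agent.Twist.isInvertible_pullback f hΩY))
    ((isInvertible_iff_isFinLocFreeOfRank_one _).1 hΩX) c
  rw [(hequiv k i 0).finrank_eq,
    Groth.Agent.S7640.result k X Y hdX hdY f hf e 1 ΩY ((isInvertible_iff_isFinLocFreeOfRank_one _).1 hΩY)] at h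
  exact h

end Groth.Agent.CurveOm17
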