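import Groth.Agent.Lib.RegSmooth17.Scheme
import Mathlib.AlgebraicGeometry.Morphisms.Smooth
import Mathlib.RingTheory.Smooth.StandardSmoothCotangent
import Mathlib.RingTheory.Etale.Kaehler
import Mathlib.RingTheory.Etale.Field
import Mathlib.RingTheory.Unramified.Field
import Mathlib.RingTheory.Unramified.LocalRing

/-!
# Differentials of the local rings of a smooth curve; ramification at inseparable points
-/

set_option linter.style.haveILetI false
set_option autoImplicit false

universe u

open CategoryTheory AlgebraicGeometry TensorProduct IsLocalRing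

namespace Groth.Agent.CurveOm17

/-- The differentials of the local ring of a smooth curve are free of rank one. -/
theorem nonempty_kaehler_stalk_equiv {k : Type u} [Field k] {X : Scheme.{u}}
    (f : X ⟶ Spec (CommRingCat.of k)) [SmoothOfRelativeDimension 1 f] (x : X) :
    letI := (RegSmooth17.toStalk f x).toAlgebra
    Nonempty (Ω[X.presheaf.stalk x⁄k] ≃ₗ[X.presheaf.stalk x] X.presheaf.stalk x) := by
  obtain ⟨U, hU, V, hV, hxV, hle, hsm⟩ :=
    SmoothOfRelativeDimension.exists_isStandardSmoothOfRelativeDimension (n := 1) (f := f) x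
  obtain rfl : U = ⊤ := top_le_iff.1 fun z _ => by
    rw [Subsingleton.elim (α := PrimeSpectrum k) z (f x)]
    exact hle hxV
  have hsm' : RingHom.IsStandardSmoothOfRelativeDimension 1
      ((f.appLE ⊤ V hle).hom.comp (Scheme.ΓSpecIso (CommRingCat.of k)).inv.hom) :=
    hsm.comp (RingHom.IsStandardSmoothOfRelativeDimension.equiv
      (Scheme.ΓSpecIso (CommRingCat.of k)).symm.commRingCatIsoToRingEquiv)
  let φ : k →+* Γ(X, V) := ((Scheme.ΓSpecIso (CommRingCat.of k)).inv ≫ f.appLE ⊤ V hle).hom
  letI := φ.toAlgebra
  haveI : Algebra.IsStandardSmoothOfRelativeDimension 1 k Γ(X, V) := hsm'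
  haveI : Algebra.IsStandardSmooth k Γ(X, V) :=
    Algebra.IsStandardSmoothOfRelativeDimension.isStandardSmooth 1
  letI := X.presheaf.algebra_section_stalk (U := V) ⟨x, hxV⟩
  haveI := hV.isLocalization_stalk ⟨x, hxV⟩
  letI := (RegSmooth17.toStalk f x).toAlgebra
  haveI : IsScalarTower k Γ(X, V) (X.presheaf.stalk x) := IsScalarTower.of_algebraMap_eq' (by
    show RegSmooth17.toStalk f x = (X.presheaf.germ V x hxV).hom.comp φ
    rw [RegSmooth17.toStalk, ← CommRingCat.hom_comp, Category.assoc]
    congr 2
    delta Scheme.Hom.appLE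
    rw [Category.assoc, TopCat.Presheaf.germ_res]
    rfl)
  haveI : Algebra.FormallyEtale Γ(X, V) (X.presheaf.stalk x) :=
    Algebra.FormallyEtale.of_isLocalization (hV.primeIdealOf ⟨x, hxV⟩).asIdeal.primeCompl
  haveI : Nontrivial Γ(X, V) := (X.presheaf.germ V x hxV).hom.domain_nontrivial
  have hrk := Algebra.IsStandardSmoothOfRelativeDimension.rank_kaehlerDifferential (R := k) (S := Γ(X, V)) 1
  haveI : Module.Finite Γ(X, V) Ω[Γ(X, V)⁄k] := inferInstance
  let b := (Module.finBasisOfFinrankEq Γ(X, V) Ω[Γ(X, V)⁄k] (n := 1)
    (by rw [Module.finrank, hrk]; simp)).baseChange (X.presheaf.stalk x)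
  exact ⟨(KaehlerDifferential.tensorKaehlerEquivOfFormallyEtale k Γ(X, V) (X.presheaf.stalk x)).symm.trans
    (b.repr.trans (Finsupp.LinearEquiv.finsuppUnique _ _ _))⟩

/-- At a point with separable residue extension over an inseparable point a map of smooth curves is unramified. -/
theorem map_maximalIdeal_of_not_separable {k R S : Type u} [Field k] [CommRing R] [CommRing S] [IsLocalRing R]
    [IsLocalRing S] [Algebra k R] [Algebra k S] [Algebra R S] [IsScalarTower k R S] [IsLocalHom (algebraMap R S)]
    [Algebra.EssFiniteType R S] [Algebra.EssFiniteType k (ResidueField R)]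
    [Algebra.IsSeparable (ResidueField R) (ResidueField S)] (eS : Ω[S⁄k] ≃ₗ[S] S)
    (hns : ¬ Algebra.IsSeparable k (ResidueField R)) :
    (maximalIdeal R).map (algebraMap R S) = maximalIdeal S := by
  let κR := ResidueField R
  let κS := ResidueField S
  haveI : IsScalarTower k κR κS := IsScalarTower.of_algebraMap_eq fun c => by
    show residue S (algebraMap k S c) = algebraMap κR κS (residue R (algebraMap k R c))
    rw [IsScalarTower.algebraMap_apply k R S]
    rfl
  haveI : Algebra.FormallyEtale κR κS := Algebra.FormallyEtale.of_isSeparable κR κS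
  have hnt : Nontrivial Ω[κR⁄k] := by
    rw [← not_subsingleton_iff_nontrivial]
    intro h
    haveI : Algebra.FormallyUnramified k κR := ⟨h⟩
    exact hns (Algebra.FormallyUnramified.isSeparable k κR)
  let eκ := KaehlerDifferential.tensorKaehlerEquivOfFormallyEtale k κR κS
  haveI : Nontrivial Ω[κS⁄k] := by
    obtain ⟨w, hw⟩ := exists_ne (0 : Ω[κR⁄k])
    haveI : Nontrivial (κS ⊗[κR] Ω[κR⁄k]) := ⟨1 ⊗ₜ w, 0, fun h => hw
      (by rwa [Module.FaithfullyFlat.one_tmul_eq_zero_iff] at h)⟩
    exact eκ.injective.nontrivial
  -- the map to the differentials of the residue field is bijective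
  let μ := KaehlerDifferential.mapBaseChange k S κS
  have hsurjμ : Function.Surjective μ := fun w =>
    (KaehlerDifferential.exact_mapBaseChange_map k S κS w).1 (by
      haveI : Subsingleton Ω[κS⁄S] := KaehlerDifferential.subsingleton_of_surjective S κS residue_surjective
      exact Subsingleton.elim _ _)
  let ed : κS ⊗[S] Ω[S⁄k] ≃ₗ[κS] κS :=
    (AlgebraTensorModule.congr (LinearEquiv.refl κS κS) eS).trans (AlgebraTensorModule.rid S κS κS)
  haveI : Module.Finite κS (κS ⊗[S] Ω[S⁄k]) := Module.Finite.equiv ed.symm
  haveI : Module.Finite κS Ω[κS⁄k] := Module.Finite.of_surjective μ hsurjμ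
  have hinjμ : Function.Injective μ := by
    have h1 : Module.finrank κS (κS ⊗[S] Ω[S⁄k]) = 1 := by rw [ed.finrank_eq, Module.finrank_self]
    have h2 : 0 < Module.finrank κS Ω[κS⁄k] := Module.finrank_pos
    have h3 := LinearMap.finrank_le_finrank_of_surjective hsurjμ
    exact (LinearMap.injective_iff_surjective_of_finrank_eq_finrank (by omega)).2 hsurjμ
  -- relative differentials die in the residue field
  haveI : Subsingleton (κS ⊗[S] Ω[S⁄R]) := by
    let q : κS ⊗[S] Ω[S⁄k] →ₗ[κS] κS ⊗[S] Ω[S⁄R] :=
      AlgebraTensorModule.lTensor κS κS (KaehlerDifferential.map k R S S)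
    have hle : (⊤ : Submodule κS Ω[κS⁄k]) ≤ (LinearMap.ker q).map μ := by
      rintro w -
      obtain ⟨v, rfl⟩ := eκ.surjective w
      induction v using TensorProduct.induction_on with
      | zero => simp
      | add s t hs ht => rw [map_add]; exact add_mem hs ht
      | tmul c t =>
        rw [KaehlerDifferential.tensorKaehlerEquivOfFormallyEtale_apply, KaehlerDifferential.mapBaseChange_tmul]
        refine Submodule.smul_mem _ c ?_
        induction (KaehlerDifferential.span_range_derivation k κR).ge (Submodule.mem_top (x := t))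
          using Submodule.span_induction with
        | mem w hw =>
          obtain ⟨r, rfl⟩ := hw
          obtain ⟨r, rfl⟩ := residue_surjective r
          refine ⟨(1 : κS) ⊗ₜ KaehlerDifferential.D k S (algebraMap R S r), ?_, ?_⟩
          · show q _ = 0
            simp only [q, AlgebraTensorModule.lTensor_tmul, KaehlerDifferential.map_D]
            rw [show algebraMap S S (algebraMap R S r) = algebraMap R S r from rfl, Derivation.map_algebraMap,
              TensorProduct.tmul_zero]
          · rw [KaehlerDifferential.mapBaseChange_tmul, KaehlerDifferential.map_D, one_smul,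
              KaehlerDifferential.map_D]
            rfl
        | zero => rw [map_zero]; exact zero_mem _
        | add p p' _ _ hp hp' => rw [map_add]; exact add_mem hp hp'
        | smul r p _ hp =>
          rw [map_smul, algebra_compatible_smul κS r]
          exact Submodule.smul_mem _ _ hp
    have hq : ∀ z, q z = 0 := fun z => by
      obtain ⟨z', hz', h⟩ := hle (Submodule.mem_top (x := μ z))
      rw [← hinjμ h]
      exact hz'
    refine ⟨fun a b => ?_⟩
    obtain ⟨a', rfl⟩ := LinearMap.lTensor_surjective κS (KaehlerDifferential.map_surjective k R S) a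
    obtain ⟨b', rfl⟩ := LinearMap.lTensor_surjective κS (KaehlerDifferential.map_surjective k R S) b
    exact (hq a').trans (hq b').symm
  haveI : Subsingleton Ω[S⁄R] := IsLocalRing.subsingleton_tensorProduct.1 ‹_›
  haveI : Algebra.FormallyUnramified R S := ⟨inferInstance⟩
  exact Algebra.FormallyUnramified.map_maximalIdeal

end Groth.Agent.CurveOm17
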