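import Groth.Agent.Lib.CurveOm17.Chart
import Groth.Agent.Lib.CurveOm17.Coeff
import Groth.Agent.Lib.Curve17.TrivFibre
import Groth.Agent.Lib.Omega12.Finite
import Groth.Agent.Lib.ParaF27.UFDCrit

/-!
# Multiplicities of the trace lift and of the differential of a separable cover agree
-/

set_option linter.style.haveILetI false
set_option autoImplicit false
set_option maxHeartbeats 800000

universe u

open CategoryTheory TopologicalSpace Opposite CategoryTheory.Limits AlgebraicGeometry Polynomial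

namespace Groth.Agent.CurveOm17

open Groth.Agent.M1 Groth.Agent.M2 Groth.Agent.CurveCoh17 Groth.Agent.P1Split

variable {k : Type u} [Field k] {X Y : Scheme.{u}} [X.Over (Spec (CommRingCat.of k))] [Y.Over (Spec (CommRingCat.of k))]

/-- Near the fibre over a closed point the trace lift and the differential have associated coefficients. -/
theorem exists_associated [IsAlgClosed k] [IsIntegral X] [IsIntegral Y] [Smooth (X ↘ Spec (CommRingCat.of k))]
    [Smooth (Y ↘ Spec (CommRingCat.of k))] (hdX : topologicalKrullDim X ≤ 1) (hdY : topologicalKrullDim Y = 1)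
    (f : X ⟶ Y) [IsFinite f] [Flat f] [LocallyOfFinitePresentation f]
    (hf : f ≫ (Y ↘ Spec (CommRingCat.of k)) = X ↘ Spec (CommRingCat.of k))
    (e : f (genericPoint X) = genericPoint Y)
    (hsep : letI := ((Y.presheaf.stalkSpecializes (specializes_of_eq e) ≫ f.stalkMap (genericPoint X)).hom).toAlgebra
      Algebra.IsSeparable Y.functionField X.functionField)
    {W : X.Modules} (hW : PicF.IsInvertible W) {N : Y.Modules} (hN : PicF.IsInvertible N)
    {t : pushW f W ⟶ N} (h0 : RKTriv f W t)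
    (hperf : ∀ (y : Y) (φ : (pushO f).presheaf.stalk y →ₗ[Y.presheaf.stalk y] N.presheaf.stalk y),
      ∃ w, ∀ a, bil (pair f W t) y a w = φ a)
    {τ : pushO f ⟶ Coh.structureModule Y}
    (hτ : τ = Trace12.traceHom (RelSpec.QCAlg.directImage f) (isFinLocFree_pushO f))
    {ψ : N ⟶ pushW f W} (hψ : ∀ (U : Y.Opens) (m : Γ(N, U)) (s : Γ(pushO f, U)),
      t.app U (act f W s (ψ.app U m)) = (show Γ(Y, U) from τ.app U s) • m)
    {ΩX : X.Modules} (hΩX : PicF.IsInvertible ΩX) {dX : OmegaSh.Der (X ↘ Spec (CommRingCat.of k)) ΩX}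
    (hdXu : OmegaSh.IsUniversal dX)
    {ΩY : Y.Modules} (hΩY : PicF.IsInvertible ΩY) {dY : OmegaSh.Der (Y ↘ Spec (CommRingCat.of k)) ΩY}
    (hdYu : OmegaSh.IsUniversal dY)
    {φ : ΩY ⟶ pushW f ΩX} (hφ : ∀ (U : Y.Opens) (a : Γ(Y, U)), φ.app U (dY.app U a) = dX.app (f ⁻¹ᵁ U) (f.app U a))
    {y : Y} (hy : IsClosed ({y} : Set Y)) :
    ∃ (U : Y.Opens) (_ : y ∈ U) (m : Γ(N, U)) (η : Γ(ΩY, U)) (w : Γ(W, f ⁻¹ᵁ U)) (ω : Γ(ΩX, f ⁻¹ᵁ U))
      (c c' : Γ(X, f ⁻¹ᵁ U)),
      Twist.IsGen N U m ∧ Twist.IsGen ΩY U η ∧ Twist.IsGen W (f ⁻¹ᵁ U) w ∧ Twist.IsGen ΩX (f ⁻¹ᵁ U) ω ∧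
      (ψ.app U m : Γ(W, f ⁻¹ᵁ U)) = c • w ∧ (φ.app U η : Γ(ΩX, f ⁻¹ᵁ U)) = c' • ω ∧ c ≠ 0 ∧ Associated c c' := by
  classical
  haveI : Coh.IsQCoh (pushO f) := M1.isQCoh_push f (M1.isQCoh_structureModule X)
  have hA : FlatMod.IsFinLocFree (RelSpec.QCAlg.directImage f).toModule := isFinLocFree_pushO f
  -- trivialisations near the fibre
  obtain ⟨DN, gN, hyN, hgN⟩ := ProjUP.exists_isGen_of_invertible hN y
  obtain ⟨DY, gY, hyY, hgY⟩ := ProjUP.exists_isGen_of_invertible hΩY y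
  obtain ⟨DW, hyW, ⟨iW⟩⟩ := Curve17.exists_trivial_near_fibre f W hW y
  obtain ⟨DX, hyX, ⟨iX⟩⟩ := Curve17.exists_trivial_near_fibre f ΩX hΩX y
  obtain ⟨gW, hgW⟩ := ParaF27.exists_isGen_of_iso iW
  obtain ⟨gX, hgX⟩ := ParaF27.exists_isGen_of_iso iX
  obtain ⟨C, -, hyC, hCle, n, b₀, hb₀⟩ := Trace12.exists_affine_hasBas (RelSpec.QCAlg.directImage f) hA
    (show y ∈ DN ⊓ DY ⊓ (DW ⊓ DX) from ⟨⟨hyN, hyY⟩, hyW, hyX⟩)
  obtain ⟨U, hU, hyU, hUC, θ, hθ⟩ := exists_chart hdX hdY f hf e hy hyC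
  letI : Algebra Γ(Y, U) Γ(X, f ⁻¹ᵁ U) := (f.app U).hom.toAlgebra
  have hUle := (hUC : U ≤ C).trans hCle
  have hV : IsAffineOpen (f ⁻¹ᵁ U) := hU.preimage f
  let m := mres N (hUle.trans (inf_le_left.trans inf_le_left)) gN
  let η := mres ΩY (hUle.trans (inf_le_left.trans inf_le_right)) gY
  let w := mres W (f.preimage_mono (hUle.trans (inf_le_right.trans inf_le_left))) gW
  let ω := mres ΩX (f.preimage_mono (hUle.trans (inf_le_right.trans inf_le_right))) gX
  have hm : Twist.IsGen N U m := hgN.mres _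
  have hη : Twist.IsGen ΩY U η := hgY.mres _
  have hw : Twist.IsGen W (f ⁻¹ᵁ U) w := hgW.mres _
  have hω : Twist.IsGen ΩX (f ⁻¹ᵁ U) ω := hgX.mres _
  have hb : IsBas (pushO f) U _ := IsBas.mres (M := pushO f) hb₀ hUC
  -- the rings
  haveI : Nonempty U := ⟨⟨y, hyU⟩⟩
  have hξ : genericPoint X ∈ (f ⁻¹ᵁ U) := show f (genericPoint X) ∈ U from e ▸ (genericPoint_specializes y).mem_open U.2 hyU
  haveI : Nonempty (((f ⁻¹ᵁ U) : X.Opens) : Scheme.{u}) := ⟨⟨genericPoint X, hξ⟩⟩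
  haveI : Nonempty (f ⁻¹ᵁ U) := ⟨⟨genericPoint X, hξ⟩⟩
  haveI := functionField_isFractionRing_of_isAffineOpen Y U hU
  haveI := functionField_isFractionRing_of_isAffineOpen X (f ⁻¹ᵁ U) hV
  haveI := isDedekindDomain_sections (k := k) hdY.le hU
  haveI : Module.Finite Γ(Y, U) Γ(X, (f ⁻¹ᵁ U)) := f.finite_app U hU
  let α : Y.presheaf.stalk (genericPoint Y) ⟶ X.presheaf.stalk (genericPoint X) :=
    Y.presheaf.stalkSpecializes (specializes_of_eq e) ≫ f.stalkMap (genericPoint X)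
  letI : Algebra Y.functionField X.functionField := α.hom.toAlgebra
  haveI : Algebra.IsSeparable Y.functionField X.functionField := hsep
  letI : Algebra Γ(Y, U) X.functionField :=
    ((algebraMap Γ(X, (f ⁻¹ᵁ U)) X.functionField).comp (algebraMap Γ(Y, U) Γ(X, (f ⁻¹ᵁ U)))).toAlgebra
  haveI : IsScalarTower Γ(Y, U) Γ(X, (f ⁻¹ᵁ U)) X.functionField := IsScalarTower.of_algebraMap_eq fun _ => rfl
  have hηU : genericPoint Y ∈ U := (genericPoint_specializes y).mem_open U.2 hyU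
  have hsq : ∀ a, algebraMap Γ(X, (f ⁻¹ᵁ U)) X.functionField (f.app U a) =
      algebraMap Y.functionField X.functionField (algebraMap Γ(Y, U) Y.functionField a) := fun a => by
    show X.presheaf.germ (f ⁻¹ᵁ U) _ hξ (f.app U a) =
      f.stalkMap (genericPoint X) (Y.presheaf.stalkSpecializes (specializes_of_eq e) (Y.presheaf.germ U _ hηU a))
    rw [TopCat.Presheaf.germ_stalkSpecializes_apply, Scheme.Hom.germ_stalkMap_apply]
  haveI : IsScalarTower Γ(Y, U) Y.functionField X.functionField := IsScalarTower.of_algebraMap_eq fun a => hsq a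
  haveI : FaithfulSMul Γ(Y, U) Γ(X, (f ⁻¹ᵁ U)) := (faithfulSMul_iff_algebraMap_injective _ _).2 fun a a' h => by
    refine IsFractionRing.injective Γ(Y, U) Y.functionField ((algebraMap Y.functionField X.functionField).injective ?_)
    rw [← hsq, ← hsq]
    exact congrArg _ h
  obtain ⟨G₀, hG₀surj, hG₀inj, hG₀tr⟩ := exists_euler Y.functionField X.functionField θ hθ
  set F' := aeval θ (derivative (minpoly Γ(Y, U) θ)) with hF'
  have hF'0 : F' ≠ 0 := by
    intro h
    have hmin := minpoly.isIntegrallyClosed_eq_field_fractions Y.functionField X.functionField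
      (Algebra.IsIntegral.isIntegral (R := Γ(Y, U)) θ)
    refine (Algebra.IsSeparable.isSeparable Y.functionField (algebraMap Γ(X, (f ⁻¹ᵁ U)) X.functionField θ)).aeval_derivative_ne_zero
      (x := algebraMap Γ(X, (f ⁻¹ᵁ U)) X.functionField θ) (minpoly.aeval _ _) ?_
    rw [hmin, derivative_map, aeval_map_algebraMap, aeval_algebraMap_apply, ← hF', h, map_zero]
  -- coefficients
  obtain ⟨c, hc⟩ := exists_eq_smul_of_isGen hw (ψ.app U m : Γ(W, (f ⁻¹ᵁ U)))
  obtain ⟨c', hc'⟩ := exists_eq_smul_of_isGen hω (φ.app U η : Γ(ΩX, (f ⁻¹ᵁ U)))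
  -- the functional of `w`
  obtain ⟨G, hG⟩ := exists_functional f (t := t) hm w
  obtain ⟨v, hv⟩ := hG₀surj G
  -- the trace: `F' = v c`
  have htr := trace_eq f hb hm c hτ (fun s => by rw [← hc]; exact hψ U m s) G hG
  have hFc : F' = v * c := sub_eq_zero.1 (hG₀inj _ fun b => by
    rw [sub_mul, map_sub, mul_assoc, hv, ← htr, ← hG₀tr, sub_self])
  -- perfectness: `v` is a unit near the fibre
  obtain ⟨U', hU', hyU', hunit⟩ := exists_isUnit_res f h0 hU hb hw hyU (hperf y) v G₀ (fun s => by rw [hv]; exact hG s)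
  -- differentials
  have hassoc : Associated F' c' := associated_diff f hf hdXu hdYu hφ hU hη hω θ hθ
    (fun a a' h => (FaithfulSMul.algebraMap_injective Γ(Y, U) Γ(X, (f ⁻¹ᵁ U))) h) c' hc'
  refine ⟨U', hyU', mres N hU' m, mres ΩY hU' η, mres W (f.preimage_mono hU') w, mres ΩX (f.preimage_mono hU') ω,
    X.presheaf.map (homOfLE (f.preimage_mono hU')).op c, X.presheaf.map (homOfLE (f.preimage_mono hU')).op c',
    hm.mres _, hη.mres _, hw.mres _, hω.mres _, ?_, ?_, ?_, ?_⟩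
  · rw [← mres_smul]; exact (M1.app_mres ψ hU' m).trans (congrArg (fun z => mres W (f.preimage_mono hU') z) hc)
  · rw [← mres_smul]; exact (M1.app_mres φ hU' η).trans (congrArg (fun z => mres ΩX (f.preimage_mono hU') z) hc')
  · haveI : Nonempty ((f ⁻¹ᵁ U' : X.Opens) : Scheme.{u}) := ⟨⟨genericPoint X,
      show f (genericPoint X) ∈ U' from e ▸ (genericPoint_specializes y).mem_open U'.2 hyU'⟩⟩
    intro h
    refine hF'0 (map_injective_of_isIntegral X (homOfLE (f.preimage_mono hU')) ?_)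
    rw [hFc, map_mul, h, mul_zero, map_zero]
  · refine Associated.trans ?_ (hassoc.map (X.presheaf.map (homOfLE (f.preimage_mono hU')).op).hom)
    rw [hFc, map_mul]
    exact (associated_unit_mul_left _ _ hunit).symm

end Groth.Agent.CurveOm17
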