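import Groth.Agent.Lib.Curve17.SepGen
import Groth.Agent.Lib.Curve17.Birat
import Groth.Agent.Lib.Curve17.Basic
import Groth.Agent.Lib.DVRVal.Curve
import Groth.Agent.Lib.CurveNF.Dim
import Groth.Agent.Lib.SmoothReg17.Basic
import Groth.Agent.Lib.ProjSpace.Basic
import Groth.Agent.Lib.AmpleFin18.PushEuler
import Groth.Agent.Lib.CurveCoh17.Pencil2

/-!
# A separable map to the projective line
-/

set_option linter.style.haveILetI false
set_option autoImplicit false
set_option maxHeartbeats 800000

universe u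

open CategoryTheory TopologicalSpace Opposite CategoryTheory.Limits AlgebraicGeometry IntermediateField

namespace Groth.Agent.CurveOm17

variable {k : Type u} [Field k] {X : Scheme.{u}} [IsIntegral X] (p : X ⟶ Spec (CommRingCat.of k))

theorem transcendental_of_separable [LocallyOfFiniteType p] (hd : topologicalKrullDim X = 1) (t : X.functionField)
    (ht : letI := Curve17.funAlg p; Algebra.IsSeparable k⟮t⟯ X.functionField) :
    letI := Curve17.funAlg p; Transcendental k t := by
  letI := Curve17.funAlg p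
  haveI := ht
  intro hA
  have hF : Algebra.IsAlgebraic k k⟮t⟯ := IntermediateField.isAlgebraic_adjoin_simple hA.isIntegral
  haveI : Algebra.IsAlgebraic k X.functionField := Algebra.IsAlgebraic.trans k k⟮t⟯ X.functionField
  have h0 := Curve17.trdeg_functionField p
  rw [trdeg_eq_zero_iff.2 inferInstance] at h0
  have h1 : VarDim.sdim p (genericPoint X) = 1 := by
    exact_mod_cast (VarDim.dim_eq_sdim_genericPoint p).symm.trans hd
  rw [h1] at h0
  exact one_ne_zero (h0.symm.trans (by rfl) : (1 : Cardinal) = 0)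

/-- A smooth proper integral curve has a finite separable map to the projective line. -/
theorem exists_separable_map [Smooth p] [IsProper p] (hd : topologicalKrullDim X = 1) :
    ∃ (f : X ⟶ CohB1.ProjSpace 1 k), f ≫ CohB1.ProjSpace.toSpec 1 k = p ∧ IsFinite f ∧
      ∃ e : f (genericPoint X) = (haveI := RegExt.isIntegral_projSpace 1 k; genericPoint (CohB1.ProjSpace 1 k)),
        (haveI := RegExt.isIntegral_projSpace 1 k
         letI := (((CohB1.ProjSpace 1 k).presheaf.stalkSpecializes (specializes_of_eq e) ≫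
          f.stalkMap (genericPoint X)).hom).toAlgebra
         Algebra.IsSeparable (CohB1.ProjSpace 1 k).functionField X.functionField) := by
  classical
  haveI := RegExt.isIntegral_projSpace 1 k
  letI := Curve17.funAlg p
  obtain ⟨t, ht⟩ := Curve17.exists_separable_functionField p hd
  have htr := transcendental_of_separable p hd t ht
  obtain ⟨U₀, hξ₀, t₁, ht₁⟩ := X.presheaf.exists_germ_eq t
  obtain ⟨U, hU, hξ, hU₀⟩ := exists_isAffineOpen_mem_and_subset hξ₀
  haveI : Nonempty U := ⟨⟨_, hξ⟩⟩
  let t₀ : Γ(X, U) := X.presheaf.map (homOfLE hU₀).op t₁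
  have ht₀ : X.presheaf.germ U _ hξ t₀ = t := (X.presheaf.germ_res_apply _ _ hξ t₁).trans ht₁
  let φ : MvPolynomial {j : Fin (1 + 1) // j ≠ 0} k →+* Γ(X, U) :=
    MvPolynomial.eval₂Hom (VarDim.baseToSections p U) fun _ => t₀
  have hφ : Function.Injective φ := by
    let j₀ : {j : Fin (1 + 1) // j ≠ 0} := ⟨1, by decide⟩
    haveI : Unique {j : Fin (1 + 1) // j ≠ 0} := ⟨⟨j₀⟩, fun ⟨j, hj⟩ => Subtype.ext (by fin_cases j; simp at hj; rfl)⟩
    have hinj : Function.Injective (MvPolynomial.aeval (R := k) fun _ : {j : Fin (1 + 1) // j ≠ 0} => t) :=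
      algebraicIndependent_unique_type_iff.2 htr
    have hcomp : (X.germToFunctionField U).hom.comp φ =
        (MvPolynomial.aeval (R := k) fun _ : {j : Fin (1 + 1) // j ≠ 0} => t).toRingHom := by
      refine MvPolynomial.ringHom_ext (fun c => ?_) fun j => ?_
      · simp only [RingHom.comp_apply, φ, MvPolynomial.eval₂Hom_C, AlgHom.toRingHom_eq_coe, RingHom.coe_coe,
          MvPolynomial.aeval_C]
        exact (RingHom.congr_fun (Curve17.baseStalk_eq_germ_comp p U) c).symm
      · simp only [RingHom.comp_apply, φ, MvPolynomial.eval₂Hom_X', AlgHom.toRingHom_eq_coe, RingHom.coe_coe,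
          MvPolynomial.aeval_X]
        exact ht₀
    intro a b h
    exact hinj ((RingHom.congr_fun hcomp a).symm.trans
      ((congrArg (X.germToFunctionField U).hom h).trans (RingHom.congr_fun hcomp b)))
  let ch := ProjSpace.chart 1 k 0
  let g : (U : Scheme.{u}) ⟶ CohB1.ProjSpace 1 k := U.toSpecΓ ≫ Spec.map (CommRingCat.ofHom φ) ≫ ch
  have hg : g ≫ CohB1.ProjSpace.toSpec 1 k = U.ι ≫ p := by
    simp only [g, ch, Category.assoc, ProjSpace.chart_toSpec]
    rw [← Spec.map_comp, ← CommRingCat.ofHom_comp]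
    have : φ.comp MvPolynomial.C = VarDim.baseToSections p U := RingHom.ext fun c => MvPolynomial.eval₂Hom_C _ _ c
    rw [this]
    refine ext_to_Spec ?_
    change _ ≫ (U.toSpecΓ ≫ Spec.map (CommRingCat.ofHom (VarDim.baseToSections p U))).appTop =
      _ ≫ (U.ι ≫ p).appTop
    rw [Scheme.Hom.comp_appTop, Scheme.Hom.comp_appTop, Scheme.Opens.toSpecΓ_appTop,
      Scheme.ΓSpecIso_naturality_assoc, Iso.inv_hom_id_assoc, VarDim.baseToSections, CommRingCat.ofHom_hom]
    simp only [Category.assoc]
    congr 2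
    simp [Scheme.Opens.ι_app, Scheme.Opens.topIso]
    exact (X.presheaf.map_comp _ _).symm
  have hN : Pi1.IsNormalScheme X := fun x => ⟨inferInstance, SmoothReg17.isIntegrallyClosed_stalk p x⟩
  have hcurve := (CurveNF.curve_iff_sdim_genericPoint p).2
    (by exact_mod_cast (VarDim.dim_eq_sdim_genericPoint p).symm.trans hd)
  haveI : IsProper (CohB1.ProjSpace.toSpec 1 k) := ProjSpace.isProper_toSpec 1 k
  obtain ⟨f, ⟨hfg, hfp⟩, -⟩ := DVRVal.exists_extend_curve p hcurve hN (CohB1.ProjSpace.toSpec 1 k) p U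
    (U.2.dense ⟨_, hξ⟩) g hg
  have hdimY : topologicalKrullDim (CohB1.ProjSpace 1 k) = 1 := by rw [Groth.Agent.S10829.result k 1]; rfl
  -- the image of the generic point
  haveI : IrreducibleSpace (Spec (CommRingCat.of (MvPolynomial {j : Fin (1 + 1) // j ≠ 0} k))) := inferInstance
  have hgen : f (genericPoint X) = genericPoint (CohB1.ProjSpace 1 k) := by
    have h1 : g ⟨genericPoint X, hξ⟩ = f (genericPoint X) := by rw [← hfg]; rfl
    rw [← h1, show g ⟨genericPoint X, hξ⟩ = ch (Spec.map (CommRingCat.ofHom φ) (U.toSpecΓ ⟨genericPoint X, hξ⟩)) from rfl,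
      show U.toSpecΓ ⟨genericPoint X, hξ⟩ = hU.primeIdealOf ⟨genericPoint X, hξ⟩ from rfl]
    rw [hU.primeIdealOf_genericPoint, genericPoint_eq_bot_of_affine]
    erw [show Spec.map (CommRingCat.ofHom φ) ⟨⊥, Ideal.isPrime_bot⟩ =
      genericPoint (Spec (CommRingCat.of (MvPolynomial {j : Fin (1 + 1) // j ≠ 0} k))) by
        rw [genericPoint_eq_bot_of_affine]
        exact PrimeSpectrum.ext ((RingHom.ker_eq_comap_bot φ).symm.trans ((RingHom.injective_iff_ker_eq_bot φ).1 hφ))]
    exact genericPoint_eq_of_isOpenImmersion ch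
  haveI : IsProper (f ≫ CohB1.ProjSpace.toSpec 1 k) := by rw [hfp]; infer_instance
  haveI : IsProper f := IsProper.of_comp f (CohB1.ProjSpace.toSpec 1 k)
  haveI : CompactSpace X := QuasiCompact.compactSpace_of_compactSpace p
  haveI : IsLocallyNoetherian X := LocallyOfFiniteType.isLocallyNoetherian p
  haveI : IsNoetherian X := {}
  haveI : IsFinite f := AmpleFin18.isFinite_of_nonconstant hd.le hdimY f hgen
  refine ⟨f, hfp, inferInstance, hgen, ?_⟩
  -- separability
  let σ := (CohB1.ProjSpace 1 k).presheaf.stalkSpecializes (specializes_of_eq hgen) ≫ f.stalkMap (genericPoint X)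
  letI : Algebra (CohB1.ProjSpace 1 k).functionField X.functionField := σ.hom.toAlgebra
  have hrange : ∀ a : k⟮t⟯, (a : X.functionField) ∈ σ.hom.fieldRange := by
    let Wc := ch.opensRange
    have hWU : U ≤ f ⁻¹ᵁ Wc := fun x hx => by
      show f x ∈ Wc
      have h1 : g ⟨x, hx⟩ = f x := by rw [← hfg]; rfl
      rw [← h1]
      exact ⟨_, rfl⟩
    have hηW : genericPoint (CohB1.ProjSpace 1 k) ∈ Wc := hgen ▸ hWU hξ
    have key : ∀ b : Γ(X, U), (∃ a, f.appLE Wc U hWU a = b) → X.presheaf.germ U _ hξ b ∈ σ.hom.fieldRange := by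
      rintro b ⟨a, rfl⟩
      refine ⟨(CohB1.ProjSpace 1 k).presheaf.germ Wc _ hηW a, ?_⟩
      show f.stalkMap (genericPoint X)
        ((CohB1.ProjSpace 1 k).presheaf.stalkSpecializes (specializes_of_eq hgen) _) = _
      rw [TopCat.Presheaf.germ_stalkSpecializes_apply, Scheme.Hom.germ_stalkMap_apply, Scheme.Hom.appLE,
        CategoryTheory.comp_apply]
      exact (X.presheaf.germ_res_apply _ _ hξ _).symm
    have hsurj : ∀ q, ∃ a, f.appLE Wc U hWU a = φ q := fun q => by
      let c := (Scheme.ΓSpecIso (CommRingCat.of (MvPolynomial {j : Fin (1 + 1) // j ≠ 0} k))).inv q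
      have hpre : (⊤ : (Spec (CommRingCat.of (MvPolynomial {j : Fin (1 + 1) // j ≠ 0} k))).Opens) ≤ ch ⁻¹ᵁ Wc :=
        fun z _ => ⟨z, rfl⟩
      haveI : IsIso (ch.appLE Wc ⊤ hpre) := by
        have : IsIso (ch.app Wc) := ch.isIso_app Wc le_rfl
        rw [Scheme.Hom.appLE]
        haveI : IsIso (homOfLE hpre) := ⟨⟨homOfLE le_top, rfl, rfl⟩⟩
        infer_instance
      obtain ⟨a, ha⟩ := (ConcreteCategory.isIso_iff_bijective (ch.appLE Wc ⊤ hpre)).1 inferInstance |>.2 c
      refine ⟨a, ?_⟩
      have hTop : (⊤ : U.toScheme.Opens) ≤ g ⁻¹ᵁ Wc := fun z _ => ⟨_, rfl⟩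
      have h1 : g.appLE Wc ⊤ hTop a = U.topIso.inv (φ q) := by
        have h2 : g.appLE Wc ⊤ hTop = ch.appLE Wc ⊤ hpre ≫ (U.toSpecΓ ≫ Spec.map (CommRingCat.ofHom φ)).appLE ⊤ ⊤ le_top := by
          rw [Scheme.Hom.appLE_comp_appLE]
          simp only [g, Category.assoc]
        rw [h2, CategoryTheory.comp_apply, ha]
        show ((U.toSpecΓ ≫ Spec.map (CommRingCat.ofHom φ)).appTop ≫ (U.toScheme.presheaf.map (𝟙 _))) c = _
        rw [CategoryTheory.Functor.map_id, Category.comp_id, Scheme.Hom.comp_appTop, Scheme.Opens.toSpecΓ_appTop,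
          ← Category.assoc, Scheme.ΓSpecIso_naturality, Category.assoc, CategoryTheory.comp_apply,
          CategoryTheory.comp_apply]
        show U.topIso.inv (φ ((Scheme.ΓSpecIso _).hom c)) = _
        rw [show (Scheme.ΓSpecIso (CommRingCat.of (MvPolynomial {j : Fin (1 + 1) // j ≠ 0} k))).hom c = q from
          Iso.inv_hom_id_apply (Scheme.ΓSpecIso (CommRingCat.of (MvPolynomial {j : Fin (1 + 1) // j ≠ 0} k))) q]
      have h3 : g.appLE Wc ⊤ hTop = f.appLE Wc U hWU ≫ U.topIso.inv := by
        simp only [← hfg]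
        rw [← Scheme.Hom.appLE_comp_appLE U.ι f Wc U ⊤ hWU (by simp)]
        congr 1
        simp [Scheme.Opens.ι_app, Scheme.Hom.appLE]
        exact (X.presheaf.map_comp _ _).symm
      rw [h3, CategoryTheory.comp_apply] at h1
      exact (ConcreteCategory.isIso_iff_bijective U.topIso.inv).1 inferInstance |>.1 h1
    rintro ⟨a, ha⟩
    have hk : Set.range (algebraMap k X.functionField) ⊆ (σ.hom.fieldRange : Set X.functionField) := by
      rintro _ ⟨c, rfl⟩
      have h := key _ (hsurj (MvPolynomial.C c))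
      simp only [φ, MvPolynomial.eval₂Hom_C] at h
      rw [RingHom.algebraMap_toAlgebra, Curve17.baseStalk_eq_germ_comp p U]
      exact h
    have ht' : t ∈ σ.hom.fieldRange := by
      have h := key _ (hsurj (MvPolynomial.X ⟨1, by decide⟩))
      simp only [φ, MvPolynomial.eval₂Hom_X'] at h
      rwa [ht₀] at h
    let E : IntermediateField k X.functionField :=
      { σ.hom.fieldRange with algebraMap_mem' := fun c => hk ⟨c, rfl⟩ }
    exact (IntermediateField.adjoin_le_iff.2 (show ({t} : Set X.functionField) ⊆ E from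
      Set.singleton_subset_iff.2 ht') : k⟮t⟯ ≤ E) ha
  refine ⟨fun z => ?_⟩
  haveI := ht
  have hz : IsSeparable k⟮t⟯ z := Algebra.IsSeparable.isSeparable k⟮t⟯ z
  -- transport along the inclusion of `k(t)` in the image of `σ`
  let ι : k⟮t⟯ →+* (CohB1.ProjSpace 1 k).functionField :=
    (RingEquiv.ofBijective σ.hom.rangeRestrictField (RingHom.rangeRestrictField_bijective σ.hom)).symm.toRingHom.comp
      (k⟮t⟯.toSubfield.subtype.codRestrict σ.hom.fieldRange hrange)
  letI : Algebra k⟮t⟯ (CohB1.ProjSpace 1 k).functionField := ι.toAlgebra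
  haveI : IsScalarTower k⟮t⟯ (CohB1.ProjSpace 1 k).functionField X.functionField :=
    IsScalarTower.of_algebraMap_eq fun a => by
      show (a : X.functionField) = σ.hom (ι a)
      have h := (RingEquiv.ofBijective σ.hom.rangeRestrictField (RingHom.rangeRestrictField_bijective σ.hom)).apply_symm_apply ((k⟮t⟯.toSubfield.subtype.codRestrict σ.hom.fieldRange hrange) a)
      exact (congrArg Subtype.val h).symm
  exact IsSeparable.tower_top _ hz

end Groth.Agent.CurveOm17
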