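import Groth.Agent.Lib.CurveOm17.P1
import Groth.Agent.Lib.CurveOm17.SepMap
import Groth.Agent.Lib.VB17.SmoothDuality

/-!
# `Ω ≅ W` on a smooth proper curve over an algebraically closed field
-/

set_option linter.style.haveILetI false
set_option autoImplicit false
set_option maxHeartbeats 800000

universe u

open CategoryTheory TopologicalSpace Opposite CategoryTheory.Limits AlgebraicGeometry

namespace Groth.Agent.CurveOm17

open Groth.Agent.M1 Groth.Agent.M2 Groth.Agent.CurveCoh17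

variable {k : Type u} [Field k] [IsAlgClosed k]

/-- The differentials of the projective line are dualizing. -/
theorem isDualizing_omega_P1 :
    letI : (CohB1.ProjSpace 1 k).Over (Spec (CommRingCat.of k)) := ⟨CohB1.ProjSpace.toSpec 1 k⟩
    ∀ {Ω : (CohB1.ProjSpace 1 k).Modules}
      {d : OmegaSh.Der ((CohB1.ProjSpace 1 k) ↘ Spec (CommRingCat.of k)) Ω},
      OmegaSh.IsUniversal d → ∃ lam, VB17.IsDualizing k Ω lam := by
  intro Ω d hd
  letI : (CohB1.ProjSpace 1 k).Over (Spec (CommRingCat.of k)) := ⟨CohB1.ProjSpace.toSpec 1 k⟩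
  haveI := RegExt.isIntegral_projSpace 1 k
  haveI : IsProper ((CohB1.ProjSpace 1 k) ↘ Spec (CommRingCat.of k)) := ProjSpace.isProper_toSpec 1 k
  haveI : Smooth ((CohB1.ProjSpace 1 k) ↘ Spec (CommRingCat.of k)) := ProjSpace.smooth_toSpec 1 k
  have hdim : topologicalKrullDim (CohB1.ProjSpace 1 k) = 1 := by rw [Groth.Agent.S10829.result k 1]; rfl
  haveI := CurveCartier25.smoothOfRelativeDimension_one ((CohB1.ProjSpace 1 k) ↘ Spec (CommRingCat.of k)) hdim
  have hΩ : PicF.IsInvertible Ω := (isInvertible_iff_isFinLocFreeOfRank_one _).2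
    (Omega12.isFinLocFreeOfRank_receptacle_of_smooth _ hd 1)
  obtain ⟨hX, h0, hbig⟩ := VB17.setup (k := k) (X := CohB1.ProjSpace 1 k) hdim
  obtain ⟨W, lam, hW⟩ := VB17.exists_dual (k := k) (X := CohB1.ProjSpace 1 k) hdim
  have hdeg := deg_omega_P1 k hd
  have hdW := (hW.invariants hX h0 hbig).2.2
  rw [genus_P1] at hdW
  have hrr := hX.like.rr (isCoh_of_ofRank ((isInvertible_iff_isFinLocFreeOfRank_one _).1 hΩ))
  rw [hdeg, h0] at hrr
  have hg := genus_P1 k
  rw [Curv2.genus] at hg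
  have hne : Nontrivial (Coh.HH (CohB1.ProjSpace 1 k) Ω 1) := by
    haveI := hX.like.fin Ω (isCoh_of_ofRank ((isInvertible_iff_isFinLocFreeOfRank_one _).1 hΩ)) 1
    exact Module.finrank_pos_iff.1 (show 0 < Module.finrank k (Coh.HH (CohB1.ProjSpace 1 k) Ω 1) by omega)
  obtain ⟨η, hη⟩ := exists_ne (0 : Coh.HH (CohB1.ProjSpace 1 k) Ω 1)
  haveI : Module.Free k (Coh.HH (CohB1.ProjSpace 1 k) Ω 1) := Module.Free.of_divisionRing k _
  haveI : Module.Projective k (Coh.HH (CohB1.ProjSpace 1 k) Ω 1) := Module.Projective.of_free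
  obtain ⟨μ, hμ⟩ := Module.Projective.exists_dual_ne_zero k hη
  exact ⟨μ, hΩ, fun h => hμ (by rw [h]; rfl), fun W' hW' h' => by
    have := hW.max W' hW' h'
    rw [hdeg]
    omega⟩

variable {X : Scheme.{u}} [X.Over (Spec (CommRingCat.of k))] [IsIntegral X]
  [IsProper (X ↘ Spec (CommRingCat.of k))] [Smooth (X ↘ Spec (CommRingCat.of k))]

/-- The differentials of a smooth proper curve are dualizing: any dualizing module is isomorphic to them. -/
theorem nonempty_omega_iso_dualizing (hdim : topologicalKrullDim X = 1) {W : X.Modules}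
    {lam : Module.Dual k (Coh.HH X W 1)} (hW : VB17.IsDualizing k W lam)
    {Ω : X.Modules} {d : OmegaSh.Der (X ↘ Spec (CommRingCat.of k)) Ω} (hd : OmegaSh.IsUniversal d) :
    Nonempty (Ω ≅ W) := by
  obtain ⟨f, hf, hfin, e, hsep⟩ := exists_separable_map (X ↘ Spec (CommRingCat.of k)) hdim
  letI : (CohB1.ProjSpace 1 k).Over (Spec (CommRingCat.of k)) := ⟨CohB1.ProjSpace.toSpec 1 k⟩
  haveI := RegExt.isIntegral_projSpace 1 k
  haveI : IsProper ((CohB1.ProjSpace 1 k) ↘ Spec (CommRingCat.of k)) := ProjSpace.isProper_toSpec 1 k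
  haveI : Smooth ((CohB1.ProjSpace 1 k) ↘ Spec (CommRingCat.of k)) := ProjSpace.smooth_toSpec 1 k
  have hdimY : topologicalKrullDim (CohB1.ProjSpace 1 k) = 1 := by rw [Groth.Agent.S10829.result k 1]; rfl
  haveI := CurveCartier25.smoothOfRelativeDimension_one ((CohB1.ProjSpace 1 k) ↘ Spec (CommRingCat.of k)) hdimY
  haveI := hfin
  have hdY := Omega12.isUniversal_dOmega (f := (CohB1.ProjSpace 1 k) ↘ Spec (CommRingCat.of k))
  obtain ⟨lamY, hN⟩ := isDualizing_omega_P1 hdY
  have h := nonempty_tensor_iso f hdim hdimY hf e hsep hW hN hd hdY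
  obtain ⟨i⟩ := nonempty_iso_of_tensor_iso (PicLoc.isInvertible_pullback f hN.inv) (Iso.refl _) h
  exact ⟨i.symm⟩

/-- Every receptacle of a universal derivation is dualizing. -/
theorem exists_isDualizing_omega (hdim : topologicalKrullDim X = 1) {Ω : X.Modules}
    {d : OmegaSh.Der (X ↘ Spec (CommRingCat.of k)) Ω} (hd : OmegaSh.IsUniversal d) :
    ∃ lam, VB17.IsDualizing k Ω lam := by
  obtain ⟨W, lam, hW⟩ := VB17.exists_dual (k := k) (X := X) hdim
  obtain ⟨i⟩ := nonempty_omega_iso_dualizing hdim hW hd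
  haveI : SmoothOfRelativeDimension 1 (X ↘ Spec (CommRingCat.of k)) := CurveCartier25.smoothOfRelativeDimension_one _ hdim
  refine ⟨lam.comp (hequiv k i 1).toLinearMap, (isInvertible_iff_isFinLocFreeOfRank_one _).2
    (Omega12.isFinLocFreeOfRank_receptacle_of_smooth _ hd 1), fun h => hW.ne (LinearMap.ext fun x => ?_),
    fun W' hW' h' => (hW.max W' hW' h').trans_eq (deg_iso i).symm⟩
  simpa using LinearMap.congr_fun h ((hequiv k i 1).symm x)

/-- `h⁰(Ω) = g`, `h¹(Ω) = 1`, `deg Ω = 2g - 2`. -/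
theorem omega_invariants (hdim : topologicalKrullDim X = 1) {Ω : X.Modules}
    {d : OmegaSh.Der (X ↘ Spec (CommRingCat.of k)) Ω} (hd : OmegaSh.IsUniversal d) :
    Module.finrank k (Coh.HH X Ω 0) = Curv2.genus k X ∧ Module.finrank k (Coh.HH X Ω 1) = 1 ∧
      Curv2.deg k X Ω 1 = 2 * (Curv2.genus k X : ℤ) - 2 := by
  obtain ⟨lam, hΩ⟩ := exists_isDualizing_omega hdim hd
  obtain ⟨hX, h0, hbig⟩ := VB17.setup (k := k) (X := X) hdim
  exact hΩ.invariants hX h0 hbig

end Groth.Agent.CurveOm17
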