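import Mathlib.RingTheory.DedekindDomain.Ideal.Lemmas
import Mathlib.RingTheory.DedekindDomain.Different
import Mathlib.RingTheory.Ideal.Quotient.Operations
import Mathlib.RingTheory.Nakayama
import Mathlib.RingTheory.Kaehler.Basic
import Mathlib.RingTheory.PowerBasis
import Mathlib.RingTheory.Polynomial.Quotient
import Mathlib.RingTheory.Trace.Basic
import Mathlib.RingTheory.Localization.NormTrace
import Mathlib.FieldTheory.Minpoly.IsIntegrallyClosed
import Mathlib.RingTheory.Adjoin.PowerBasis

/-!
# Monogenic extensions: Euler's identity and the derivation to `B/F'(θ)`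

Locally on the base a finite extension of Dedekind domains with trivial residue extensions and infinite residue
field is monogenic.  For `B = A[θ]` with minimal polynomial `F`, the coordinate of `θ^(n-1)` generates `Hom_A(B, A)`
and `trace(b) = coord(F'(θ) b)`; and there is a derivation `B → B/F'(θ)` over `A` sending `θ` to `1`.
-/

set_option autoImplicit false
set_option maxHeartbeats 800000

universe u v

open Polynomial
open scoped nonZeroDivisors

namespace Groth.Agent.CurveOm17

variable {A B : Type u} [CommRing A] [CommRing B] [Algebra A B]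

/-- A finite extension of Dedekind domains is monogenic near a prime with infinite residue field and trivial
residue extensions. -/
theorem exists_adjoin_eq_local [IsDedekindDomain B] [Module.Finite A B] (p : Ideal A) [p.IsMaximal]
    [Infinite (A ⧸ p)] (hne : p.map (algebraMap A B) ≠ ⊥)
    (hres : ∀ P : Ideal B, P.IsMaximal → p.map (algebraMap A B) ≤ P → ∀ b : B, ∃ a : A, b - algebraMap A B a ∈ P) :
    ∃ θ : B, ∃ s ∉ p, ∀ b : B, s • b ∈ Algebra.adjoin A {θ} := by
  classical
  set I := p.map (algebraMap A B) with hI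
  let S := (UniqueFactorizationMonoid.normalizedFactors I).toFinset
  have hprime : ∀ P ∈ S, P.IsMaximal ∧ I ≤ P := fun P hP => by
    rw [Multiset.mem_toFinset] at hP
    have hp := UniqueFactorizationMonoid.prime_of_normalized_factor P hP
    exact ⟨(Ideal.isPrime_of_prime hp).isMaximal hp.ne_zero,
      Ideal.le_of_dvd (UniqueFactorizationMonoid.dvd_of_mem_normalizedFactors hP)⟩
  let e : Ideal B → ℕ := fun P => (UniqueFactorizationMonoid.normalizedFactors I).count P
  have hprod : ∏ P ∈ S, P ^ e P = I := by
    conv_rhs => rw [← associated_iff_eq.1 (UniqueFactorizationMonoid.prod_normalizedFactors hne)]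
    exact (Finset.prod_multiset_count _).symm
  -- representatives of distinct residues and uniformizers
  obtain ⟨a, ha⟩ : ∃ a : S → A, Function.Injective fun P => Ideal.Quotient.mk p (a P) := by
    let g : S ↪ A ⧸ p := ((Fintype.equivFin S).toEmbedding.trans Fin.valEmbedding).trans (Infinite.natEmbedding _)
    choose a ha using fun P : S => Ideal.Quotient.mk_surjective (I := p) (g P)
    exact ⟨a, fun P Q h => g.injective (by rw [← ha P, ← ha Q]; exact h)⟩
  have hπ : ∀ P : S, ∃ π : B, π ∈ (P : Ideal B) ∧ π ∉ (P : Ideal B) ^ 2 := fun P => by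
    have hp := UniqueFactorizationMonoid.prime_of_normalized_factor (P : Ideal B) (Multiset.mem_toFinset.1 P.2)
    have hlt : (P : Ideal B) ^ 2 < (P : Ideal B) := by
      simpa using Ideal.pow_right_strictAnti (P : Ideal B) hp.ne_zero ((Ideal.isPrime_of_prime hp).ne_top) (show 1 < 2 by norm_num)
    exact Set.exists_of_ssubset hlt
  choose π hπ hπ2 using hπ
  obtain ⟨θ, hθ⟩ := Ideal.exists_forall_sub_mem_ideal (I := fun P : S => (P : Ideal B) ^ (2 : ℕ))
    (fun P Q hPQ => IsCoprime.pow
      (Ideal.isCoprime_iff_sup_eq.2 ((hprime P P.2).1.coprime_of_ne (hprime Q Q.2).1 fun h => hPQ (Subtype.ext h))))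
    (fun P => algebraMap A B (a P) + π P)
  have hθmem : ∀ P : S, θ - algebraMap A B (a P) ∈ (P : Ideal B) := fun P => by
    have := Ideal.add_mem _ (Ideal.pow_le_self (two_ne_zero) (hθ P)) (hπ P)
    convert this using 1; ring
  have hθnot : ∀ P : S, θ - algebraMap A B (a P) ∉ (P : Ideal B) ^ 2 := fun P h => hπ2 P (by
    have := Ideal.sub_mem _ h (hθ P)
    convert this using 1; ring)
  refine ⟨θ, ?_⟩
  -- every residue class modulo `P ^ m` is a polynomial in `θ`
  have hloc : ∀ (P : S) (m : ℕ) (b : B), ∃ q : A[X], b - aeval θ q ∈ (P : Ideal B) ^ m := by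
    intro P m
    induction m with
    | zero => exact fun b => ⟨0, by simp⟩
    | succ m ih =>
      intro b
      obtain ⟨q, hq⟩ := ih b
      have hp := UniqueFactorizationMonoid.prime_of_normalized_factor (P : Ideal B) (Multiset.mem_toFinset.1 P.2)
      haveI := (hprime P P.2).1
      set t := θ - algebraMap A B (a P)
      have htm : t ^ m ∈ (P : Ideal B) ^ m := Ideal.pow_mem_pow (hθmem P) m
      have htm1 : t ^ m ∉ (P : Ideal B) ^ (m + 1) := by
        intro h
        have h1 : (P : Ideal B) ^ (m + 1) ∣ Ideal.span {t} ^ m := by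
          rw [Ideal.span_singleton_pow, Ideal.dvd_span_singleton]; exact h
        obtain ⟨J, hJ⟩ := (Ideal.dvd_span_singleton.2 (hθmem P))
        rw [hJ, mul_pow, pow_succ, mul_dvd_mul_iff_left (pow_ne_zero _ hp.ne_zero)] at h1
        have h2 := hp.dvd_of_dvd_pow h1
        refine hθnot P ?_
        rw [← Ideal.dvd_span_singleton, hJ, pow_two]
        exact mul_dvd_mul_left _ h2
      have hsup : Ideal.span {t ^ m} ⊔ (P : Ideal B) ^ (m + 1) = (P : Ideal B) ^ m :=
        Ideal.eq_prime_pow_of_succ_lt_of_le hp.ne_zero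
          (lt_of_le_of_ne le_sup_right fun h => htm1 (h ▸ Ideal.mem_sup_left (Ideal.mem_span_singleton_self _)))
          (sup_le ((Ideal.span_singleton_le_iff_mem _).2 htm) (Ideal.pow_le_pow_right (Nat.le_succ m)))
      rw [← hsup] at hq
      obtain ⟨y, hy, z, hz, hyz⟩ := Submodule.mem_sup.1 hq
      obtain ⟨r, rfl⟩ := Ideal.mem_span_singleton'.1 hy
      obtain ⟨c, hc⟩ := hres (P : Ideal B) (hprime P P.2).1 (hprime P P.2).2 r
      refine ⟨q + C c * (X - C (a P)) ^ m, ?_⟩
      have : b - aeval θ (q + C c * (X - C (a P)) ^ m) = z + (r - algebraMap A B c) * t ^ m := by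
        simp only [map_add, map_mul, map_pow, map_sub, aeval_C, aeval_X, t]
        linear_combination -hyz
      rw [this]
      refine Ideal.add_mem _ hz ?_
      rw [pow_succ, mul_comm (r - algebraMap A B c)]
      exact Ideal.mul_mem_mul htm hc
  -- glue the local polynomials
  have hglue : ∀ b : B, ∃ q : A[X], b - aeval θ q ∈ I := by
    intro b
    choose q hq using fun P : S => hloc P (e P) b
    let J : S → Ideal (A ⧸ p)[X] := fun P => Ideal.span {(X - C (Ideal.Quotient.mk p (a P))) ^ e P}
    have hJ : Pairwise fun P Q => IsCoprime (J P) (J Q) := fun P Q hPQ => by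
      show IsCoprime (Ideal.span _) (Ideal.span _)
      rw [Ideal.isCoprime_span_singleton_iff]
      refine IsCoprime.pow (isCoprime_X_sub_C_of_isUnit_sub ?_)
      letI := Ideal.Quotient.field p
      exact isUnit_iff_ne_zero.2 (sub_ne_zero.2 fun h => hPQ (ha h))
    obtain ⟨Q, hQ⟩ := Ideal.exists_forall_sub_mem_ideal (I := J) hJ
      (fun P => (q P).map (Ideal.Quotient.mk p))
    obtain ⟨Q, rfl⟩ := Polynomial.map_surjective (Ideal.Quotient.mk p) Ideal.Quotient.mk_surjective Q
    refine ⟨Q, ?_⟩
    rw [← hprod]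
    have : ∏ P ∈ S, P ^ e P = ⨅ P ∈ S, P ^ e P := by
      refine (Ideal.prod_eq_iInf_of_pairwise_isCoprime fun P hP Q hQ hPQ => ?_)
      exact IsCoprime.pow (Ideal.isCoprime_iff_sup_eq.2 ((hprime P hP).1.coprime_of_ne (hprime Q hQ).1 hPQ))
    rw [this]
    simp only [Submodule.mem_iInf]
    intro P hP
    obtain ⟨g, hg⟩ := Ideal.mem_span_singleton'.1 (hQ ⟨P, hP⟩)
    obtain ⟨g, rfl⟩ := Polynomial.map_surjective (Ideal.Quotient.mk p) Ideal.Quotient.mk_surjective g
    have hker : Q - q ⟨P, hP⟩ - g * (X - C (a ⟨P, hP⟩)) ^ e P ∈ p.map (C : A →+* A[X]) := by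
      rw [Ideal.mem_map_C_iff]
      intro n
      rw [← Ideal.Quotient.eq_zero_iff_mem, ← coeff_map]
      simp only [Polynomial.map_sub, Polynomial.map_mul, Polynomial.map_pow, map_X, map_C]
      rw [hg, sub_self, coeff_zero]
    have h1 : aeval θ (Q - q ⟨P, hP⟩ - g * (X - C (a ⟨P, hP⟩)) ^ e P) ∈ (P : Ideal B) ^ e P := by
      have h2 : aeval θ (Q - q ⟨P, hP⟩ - g * (X - C (a ⟨P, hP⟩)) ^ e P) ∈ I := by
        have h3 := Ideal.mem_map_of_mem (aeval θ : A[X] →ₐ[A] B) hker
        rw [hI]
        refine (?_ : (p.map (C : A →+* A[X])).map (aeval θ : A[X] →ₐ[A] B).toRingHom ≤ p.map (algebraMap A B)) h3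
        rw [Ideal.map_map]
        exact le_of_eq (congrArg (fun g : A →+* B => p.map g) (RingHom.ext fun x => by simp))
      exact Ideal.le_of_dvd (by rw [← hprod]; exact Finset.dvd_prod_of_mem (fun P : Ideal B => P ^ e P) hP) h2
    have h4 : aeval θ g * (θ - algebraMap A B (a ⟨P, hP⟩)) ^ e P ∈ (P : Ideal B) ^ e P :=
      Ideal.mul_mem_left _ _ (Ideal.pow_mem_pow (hθmem ⟨P, hP⟩) _)
    have : b - aeval θ Q = (b - aeval θ (q ⟨P, hP⟩)) - aeval θ (Q - q ⟨P, hP⟩ - g * (X - C (a ⟨P, hP⟩)) ^ e P)
        - aeval θ g * (θ - algebraMap A B (a ⟨P, hP⟩)) ^ e P := by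
      simp only [map_sub, map_mul, map_pow, aeval_X, aeval_C]; ring
    rw [this]
    exact Ideal.sub_mem _ (Ideal.sub_mem _ (hq ⟨P, hP⟩) h1) h4
  -- Nakayama
  let N := Subalgebra.toSubmodule (Algebra.adjoin A {θ})
  obtain ⟨s, hs, hs'⟩ := Submodule.exists_sub_one_mem_and_smul_eq_zero_of_fg_of_le_smul p
    (⊤ : Submodule A (B ⧸ N)) Module.Finite.fg_top (fun z _ => by
      obtain ⟨b, rfl⟩ := Submodule.Quotient.mk_surjective N z
      obtain ⟨q, hq⟩ := hglue b
      have hmem : b - aeval θ q ∈ p • (⊤ : Submodule A B) := by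
        rw [Ideal.smul_top_eq_map]; exact hq
      have h := Submodule.mem_map_of_mem (f := N.mkQ) hmem
      rw [Submodule.map_smul'', Submodule.map_top, Submodule.range_mkQ, map_sub] at h
      convert h using 1
      rw [show N.mkQ (aeval θ q) = 0 from (Submodule.Quotient.mk_eq_zero N).2
        (Polynomial.aeval_mem_adjoin_singleton A θ), sub_zero]
      rfl)
  refine ⟨s, fun hsp => ?_, fun b => ?_⟩
  · exact (inferInstance : p.IsMaximal).ne_top ((Ideal.eq_top_iff_one p).2 (by simpa using Ideal.sub_mem _ hsp hs))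
  · have h := hs' (Submodule.Quotient.mk b) trivial
    rw [← Submodule.Quotient.mk_smul, Submodule.Quotient.mk_eq_zero] at h
    exact h

variable [IsDomain A] [IsDomain B] [IsIntegrallyClosed A] [FaithfulSMul A B] [Module.Finite A B]

/-- Euler: for `B = A[θ]` some functional generates `Hom_A(B, A)` and carries `F'(θ)` to the trace. -/
theorem exists_euler (K L : Type u) [Field K] [Field L] [Algebra A K] [IsFractionRing A K] [Algebra B L]
    [IsFractionRing B L] [Algebra A L] [Algebra K L] [IsScalarTower A K L] [IsScalarTower A B L]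
    [Algebra.IsSeparable K L] (θ : B) (hθ : Algebra.adjoin A {θ} = ⊤) :
    ∃ G : B →ₗ[A] A, (∀ φ : B →ₗ[A] A, ∃ v : B, ∀ b, G (v * b) = φ b) ∧
      (∀ v : B, (∀ b, G (v * b) = 0) → v = 0) ∧
      ∀ b, Algebra.trace A B b = G (aeval θ (derivative (minpoly A θ)) * b) := by
  classical
  have hint : IsIntegral A θ := Algebra.IsIntegral.isIntegral θ
  let pb : PowerBasis A B := PowerBasis.ofAdjoinEqTop' hint hθ
  have hgen : pb.gen = θ := by simp [pb, PowerBasis.ofAdjoinEqTop']
  haveI : Module.Free A B := .of_basis pb.basis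
  have hpos : 0 < pb.dim := pb.dim_pos
  let last : Fin pb.dim := ⟨pb.dim - 1, by omega⟩
  let G : B →ₗ[A] A := pb.basis.coord last
  have hG : ∀ (m : ℕ) (hm : m < pb.dim), G (θ ^ m) = if m = pb.dim - 1 then 1 else 0 := fun m hm => by
    have : θ ^ m = pb.basis ⟨m, hm⟩ := by rw [pb.basis_eq_pow, hgen]
    rw [this]
    show pb.basis.repr _ last = _
    rw [Module.Basis.repr_self, Finsupp.single_apply]
    exact if_congr (by simp [last, Fin.ext_iff]) rfl rfl
  refine ⟨G, ?_, ?_, ?_⟩
  · let Ψ : B →ₗ[A] (B →ₗ[A] A) := (LinearMap.mul A B).compr₂ G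
    have hΨ : ∀ v b, Ψ v b = G (v * b) := fun _ _ => rfl
    suffices h : ∀ (i : ℕ) (hi : i < pb.dim), pb.basis.coord ⟨i, hi⟩ ∈ LinearMap.range Ψ by
      intro φ
      have : φ ∈ LinearMap.range Ψ := by
        have e : φ = ∑ i, φ (pb.basis i) • pb.basis.coord i := by
          refine pb.basis.ext fun j => ?_
          rw [LinearMap.sum_apply, Finset.sum_eq_single j]
          · simp [-PowerBasis.coe_basis]
          · intro i _ hi; simp [-PowerBasis.coe_basis, Finsupp.single_apply, Ne.symm hi]
          · simp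
        rw [e]
        exact Submodule.sum_mem _ fun i _ => Submodule.smul_mem _ _ (h i.1 i.2)
      obtain ⟨v, rfl⟩ := this
      exact ⟨v, fun b => (hΨ v b).symm⟩
    suffices h : ∀ (d i : ℕ) (hi : i < pb.dim), pb.dim - i = d → pb.basis.coord ⟨i, hi⟩ ∈ LinearMap.range Ψ from
      fun i hi => h _ i hi rfl
    intro d
    induction d using Nat.strong_induction_on with | _ d ih => ?_
    intro i hi hd
    -- `Ψ (θ ^ (n - 1 - i))` is the `i`-th coordinate up to higher ones
    have key : Ψ (θ ^ (pb.dim - 1 - i)) = pb.basis.coord ⟨i, hi⟩ +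
        ∑ j ∈ Finset.univ.filter (fun j : Fin pb.dim => i < j), G (θ ^ (pb.dim - 1 - i + j)) • pb.basis.coord j := by
      refine pb.basis.ext fun j => ?_
      rw [hΨ, pb.basis_eq_pow, hgen, ← pow_add, ← hgen, ← pb.basis_eq_pow, hgen]
      rw [LinearMap.add_apply, LinearMap.sum_apply]
      simp only [LinearMap.smul_apply, Module.Basis.coord_apply, Module.Basis.repr_self, smul_eq_mul,
        Finsupp.single_apply, mul_ite, mul_one, mul_zero, Finset.sum_ite_eq, Finset.mem_filter,
        Finset.mem_univ, true_and]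
      rcases lt_trichotomy j.1 i with h | h | h
      · rw [hG _ (by omega), if_neg (by omega), if_neg (by simp [Fin.ext_iff]; omega), if_neg (by omega), add_zero]
      · rw [hG _ (by omega), if_pos (by omega), if_pos (by simp [Fin.ext_iff]; omega), if_neg (by omega), add_zero]
      · rw [if_neg (by simp [Fin.ext_iff]; omega), if_pos h, zero_add]
    rw [← sub_eq_iff_eq_add] at key
    rw [← key]
    refine Submodule.sub_mem _ ⟨_, rfl⟩ (Submodule.sum_mem _ fun j hj => Submodule.smul_mem _ _ ?_)
    have hj' : i < j.1 := (Finset.mem_filter.1 hj).2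
    exact ih (pb.dim - j) (by omega) j.1 j.2 rfl
  all_goals
    haveI : Algebra.IsIntegral A B := Algebra.IsIntegral.of_finite A B
    haveI hloc : IsLocalization (Algebra.algebraMapSubmonoid B A⁰) L := by
      refine { map_units := ?_, surj := ?_, exists_of_eq := ?_ }
      · rintro ⟨_, a, ha, rfl⟩
        refine isUnit_iff_ne_zero.2 fun h0 => ?_
        exact nonZeroDivisors.ne_zero ha ((FaithfulSMul.algebraMap_injective A B)
          ((IsFractionRing.injective B L (h0.trans (map_zero _).symm)).trans (map_zero _).symm))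
      · intro z
        obtain ⟨⟨b, n⟩, hz⟩ := IsLocalization.surj B⁰ z
        obtain ⟨a, ha, c, hc⟩ := (Algebra.IsIntegral.isIntegral (R := A) (n : B)).isAlgebraic.exists_nonzero_dvd n.2
        refine ⟨⟨b * c, ⟨algebraMap A B a, a, mem_nonZeroDivisors_of_ne_zero ha, rfl⟩⟩, ?_⟩
        show z * algebraMap B L (algebraMap A B a) = algebraMap B L (b * c)
        rw [hc, map_mul, map_mul, ← mul_assoc, hz]
      · intro x y hxy
        exact ⟨1, by rw [IsFractionRing.injective B L hxy]⟩
    haveI : FiniteDimensional K L := Module.Finite.of_isLocalization A B A⁰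
    let bK := pb.basis.localizationLocalization K A⁰ L
    let pbK : PowerBasis K L :=
      { gen := algebraMap B L θ, dim := pb.dim, basis := bK
        basis_eq_pow := fun i => by rw [Module.Basis.localizationLocalization_apply, pb.basis_eq_pow, hgen, map_pow] }
    have hmin : minpoly K (algebraMap B L θ) = (minpoly A θ).map (algebraMap A K) :=
      minpoly.isIntegrallyClosed_eq_field_fractions K L hint
    set F' := aeval θ (derivative (minpoly A θ))
    have hF : aeval pbK.gen (derivative (minpoly K pbK.gen)) = algebraMap B L F' := by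
      show aeval (algebraMap B L θ) (derivative (minpoly K (algebraMap B L θ))) = _
      rw [hmin, derivative_map, aeval_map_algebraMap, aeval_algebraMap_apply]
    have hF0 : algebraMap B L F' ≠ 0 := by
      rw [← hF]
      exact (Algebra.IsSeparable.isSeparable _ _).aeval_derivative_ne_zero (minpoly.aeval _ _)
    have hdual : pbK.basis.traceDual last = (algebraMap B L F')⁻¹ := by
      rw [Module.Basis.traceDual_powerBasis_eq, hF]
      have hd : (minpolyDiv K pbK.gen).natDegree = pb.dim - 1 := by
        have := natDegree_minpolyDiv_succ (R := K) (x := pbK.gen) (Algebra.IsIntegral.isIntegral _)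
        rw [pbK.natDegree_minpoly] at this
        change _ = pb.dim at this
        omega
      have h1 : (minpolyDiv K pbK.gen).coeff (pb.dim - 1) = 1 := by
        rw [← hd]; exact (minpolyDiv_monic (Algebra.IsIntegral.isIntegral _)).coeff_natDegree
      show (minpolyDiv K pbK.gen).coeff (pb.dim - 1) / _ = _
      rw [h1, one_div]
    have key : ∀ b : B, algebraMap A K (G b) = Algebra.trace K L ((algebraMap B L F')⁻¹ * algebraMap B L b) := by
      intro b
      rw [← hdual]
      have hb : algebraMap B L b = ∑ i, algebraMap A K (pb.basis.repr b i) • pbK.basis i := by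
        conv_lhs => rw [← pb.basis.sum_repr b]
        rw [map_sum]
        refine Finset.sum_congr rfl fun i _ => ?_
        rw [algebraMap_smul, show pbK.basis i = algebraMap B L (pb.basis i) from pb.basis.localizationLocalization_apply K A⁰ L i,
          Algebra.smul_def, Algebra.smul_def, map_mul, ← IsScalarTower.algebraMap_apply A B L]
      rw [hb, Finset.mul_sum, map_sum, Finset.sum_eq_single last]
      · rw [mul_smul_comm, map_smul, Module.Basis.trace_traceDual_mul, if_pos rfl, smul_eq_mul, mul_one]
        rfl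
      · intro i _ hi
        rw [mul_smul_comm, map_smul, Module.Basis.trace_traceDual_mul, if_neg (fun h => hi h), smul_eq_mul, mul_zero]
      · exact fun h => absurd (Finset.mem_univ _) h
  · intro v hv
    refine IsFractionRing.injective B L ?_
    rw [map_zero]
    suffices h : (algebraMap B L F')⁻¹ * algebraMap B L v = 0 from (mul_eq_zero.1 h).resolve_left (inv_ne_zero hF0)
    refine (traceForm_nondegenerate K L).1 _ fun l => ?_
    rw [← bK.sum_repr l, map_sum]
    refine Finset.sum_eq_zero fun i _ => ?_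
    rw [map_smul, Algebra.traceForm_apply, Module.Basis.localizationLocalization_apply, mul_assoc, ← map_mul, ← key, hv,
      map_zero, smul_zero]
  · intro b
    refine IsFractionRing.injective A K ?_
    rw [key, (algebraMap B L).map_mul, ← mul_assoc, inv_mul_cancel₀ hF0, one_mul, Algebra.trace_localization A A⁰]

/-- For `B = A[θ]` there is a derivation `B → B/F'(θ)` over `A` with `θ ↦ 1`. -/
theorem exists_derivation (θ : B) (hθ : Algebra.adjoin A {θ} = ⊤) :
    ∃ D : Derivation A B (B ⧸ Ideal.span {aeval θ (derivative (minpoly A θ))}), D θ = 1 := by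
  classical
  set J := Ideal.span {aeval θ (derivative (minpoly A θ))} with hJ
  have hsurj : Function.Surjective (aeval θ : A[X] →ₐ[A] B) := by
    rw [← AlgHom.range_eq_top, ← Algebra.adjoin_singleton_eq_range_aeval, hθ]
  have hint : IsIntegral A θ := Algebra.IsIntegral.isIntegral θ
  let δ : A[X] → B ⧸ J := fun q => Ideal.Quotient.mk J (aeval θ (derivative q))
  have hadd : ∀ p q, δ (p + q) = δ p + δ q := fun p q => by simp [δ]
  have hmul : ∀ p q, δ (p * q) = aeval θ p • δ q + aeval θ q • δ p := fun p q => by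
    show Ideal.Quotient.mk J _ = aeval θ p • Ideal.Quotient.mk J _ + aeval θ q • Ideal.Quotient.mk J _
    rw [Algebra.smul_def, Algebra.smul_def, Ideal.Quotient.algebraMap_eq, ← (Ideal.Quotient.mk J).map_mul, ← (Ideal.Quotient.mk J).map_mul,
      ← (Ideal.Quotient.mk J).map_add]
    congr 1
    simp only [derivative_mul, map_add, map_mul, smul_eq_mul]; ring
  have hwd : ∀ p q, aeval θ p = aeval θ q → δ p = δ q := fun p q h => by
    obtain ⟨g, hg⟩ := minpoly.isIntegrallyClosed_dvd hint (show aeval θ (p - q) = 0 by rw [map_sub, h, sub_self])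
    have h1 := hadd q (p - q)
    rw [add_sub_cancel] at h1
    rw [h1, hg, hmul, minpoly.aeval, zero_smul, zero_add]
    have h2 : δ (minpoly A θ) = 0 := Ideal.Quotient.eq_zero_iff_mem.2 (Ideal.mem_span_singleton_self _)
    rw [h2, smul_zero, add_zero]
  let σ := Function.surjInv hsurj
  have hσ : ∀ b, aeval θ (σ b) = b := Function.surjInv_eq hsurj
  refine ⟨Derivation.mk'
    { toFun := fun b => δ (σ b)
      map_add' := fun b b' => by rw [← hadd]; exact hwd _ _ (by simp [hσ])
      map_smul' := fun c b => by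
        show δ (σ (c • b)) = c • δ (σ b)
        rw [hwd (σ (c • b)) (c • σ b) (by simp [hσ])]
        simp only [δ, derivative_smul, map_smul]
        rfl } (fun b b' => ?_), ?_⟩
  · show δ (σ (b * b')) = b • δ (σ b') + b' • δ (σ b)
    rw [hwd (σ (b * b')) (σ b * σ b') (by simp [hσ]), hmul, hσ, hσ]
  · show δ (σ θ) = 1
    rw [hwd (σ θ) X (by simp [hσ])]
    simp [δ]

end Groth.Agent.CurveOm17
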