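import Groth.Agent.Lib.CurveOm17.Dual
import Groth.Agent.Lib.CurveCoh17.Pencil2
import Groth.Agent.Lib.CurveCoh17.DegTwo
import Groth.Agent.Lib.CurveCoh17.Hyper
import Mathlib.RingTheory.Trace.Basic

/-!
# Self maps of the projective line and the degree of its differentials
-/

set_option linter.style.haveILetI false
set_option autoImplicit false
set_option maxHeartbeats 800000

universe u

open CategoryTheory TopologicalSpace Opposite CategoryTheory.Limits AlgebraicGeometry TensorProduct

namespace Groth.Agent.CurveOm17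

open Groth.Agent.M1 Groth.Agent.M2 Groth.Agent.CurveCoh17

variable {X : Scheme.{u}}

attribute [local instance] stalkMod

/-- A germ generating the stalk of a module. -/
def GenAt (M : X.Modules) (s : Γ(M, (⊤ : X.Opens))) (x : X) : Prop :=
  Function.Bijective fun c : X.presheaf.stalk x => c • (M.presheaf.germ ⊤ x trivial s : M.presheaf.stalk x)

theorem genAt_one (x : X) : GenAt (Coh.structureModule X) (one ⊤) x :=
  (P1Split.isGen_one (X := X) ⊤).stalk (x := x) trivial

theorem GenAt.tsec {A B : X.Modules} {a : Γ(A, (⊤ : X.Opens))} {b : Γ(B, (⊤ : X.Opens))} {x : X} (ha : GenAt A a x)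
    (hb : GenAt B b x) : GenAt (CohB1.tensorMod A B) (M2.tsec A B a b) x := by
  let eA := LinearEquiv.ofBijective (LinearMap.toSpanSingleton _ _ (A.presheaf.germ ⊤ x trivial a)) ha
  let eB := LinearEquiv.ofBijective (LinearMap.toSpanSingleton _ _ (B.presheaf.germ ⊤ x trivial b)) hb
  let e := (TensorProduct.lid (X.presheaf.stalk x) (X.presheaf.stalk x)).symm ≪≫ₗ TensorProduct.congr eA eB ≪≫ₗ
    (stalkEquiv A B x).symm
  have h1 : e 1 = (CohB1.tensorMod A B).presheaf.germ ⊤ x trivial (M2.tsec A B a b) := by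
    rw [LinearEquiv.trans_apply, LinearEquiv.trans_apply, LinearEquiv.symm_apply_eq, stalkEquiv_tsec,
      TensorProduct.lid_symm_apply, TensorProduct.congr_tmul]
    simp only [eA, eB, LinearEquiv.ofBijective_apply, LinearMap.toSpanSingleton_apply_one]
  unfold GenAt
  convert e.bijective using 1
  funext c
  show c • _ = e c
  rw [← h1, ← map_smul, smul_eq_mul, mul_one]

/-- One of two spanning germs of an invertible module generates. -/
theorem genAt_or {L : X.Modules} (hL : PicF.IsInvertible L) {s t : Γ(L, (⊤ : X.Opens))} {x : X}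
    (hspan : Submodule.span (X.presheaf.stalk x)
      ({(L.presheaf.germ ⊤ x trivial s : L.presheaf.stalk x), L.presheaf.germ ⊤ x trivial t} :
        Set (L.presheaf.stalk x)) = ⊤) : GenAt L s x ∨ GenAt L t x := by
  obtain ⟨D, g, hxD, hg⟩ := ProjUP.exists_isGen_of_invertible hL x
  have hbij := hg.stalk hxD
  set γ : L.presheaf.stalk x := L.presheaf.germ D x hxD g
  obtain ⟨α, hα⟩ := hbij.2 (L.presheaf.germ ⊤ x trivial s)
  obtain ⟨β, hβ⟩ := hbij.2 (L.presheaf.germ ⊤ x trivial t)
  dsimp only at hα hβ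
  have hgen : ∀ (w : Γ(L, (⊤ : X.Opens))) (δ : X.presheaf.stalk x),
      δ • γ = (L.presheaf.germ ⊤ x trivial w : L.presheaf.stalk x) → IsUnit δ → GenAt L w x := by
    intro w δ hw hδ
    unfold GenAt
    rw [← hw, show (fun c : X.presheaf.stalk x => c • δ • γ) = (fun c => c • γ) ∘ fun c => c * δ from
      funext fun c => (mul_smul c δ γ).symm]
    exact hbij.comp (Units.mulRight hδ.unit).bijective
  have hmem : γ ∈ Submodule.span (X.presheaf.stalk x)
      ({α • γ, β • γ} : Set (L.presheaf.stalk x)) := by rw [hα, hβ, hspan]; trivial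
  obtain ⟨a, b, hab⟩ := Submodule.mem_span_pair.1 hmem
  have h1 : IsUnit (a * α + b * β) := by
    rw [show a * α + b * β = 1 from hbij.1 (show (a * α + b * β) • γ = (1 : X.presheaf.stalk x) • γ by
      rw [add_smul, mul_smul, mul_smul, one_smul, hab])]
    exact isUnit_one
  rcases IsLocalRing.isUnit_or_isUnit_of_isUnit_add h1 with h | h
  · exact Or.inl (hgen s α hα (isUnit_of_mul_isUnit_right h))
  · exact Or.inr (hgen t β hβ (isUnit_of_mul_isUnit_right h))

theorem span_eq_top {L : X.Modules} {s t : Γ(L, (⊤ : X.Opens))} {x : X} (h : GenAt L s x ∨ GenAt L t x) :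
    Submodule.span (X.presheaf.stalk x)
      ({(L.presheaf.germ ⊤ x trivial s : L.presheaf.stalk x), L.presheaf.germ ⊤ x trivial t} :
        Set (L.presheaf.stalk x)) = ⊤ := by
  refine top_le_iff.1 fun z _ => ?_
  rcases h with h | h
  · obtain ⟨c, hc⟩ := h.2 z
    exact hc ▸ Submodule.smul_mem _ c (Submodule.subset_span (Or.inl rfl))
  · obtain ⟨c, hc⟩ := h.2 z
    exact hc ▸ Submodule.smul_mem _ c (Submodule.subset_span (Or.inr rfl))

/-- Powers of a pencil. -/
theorem exists_pow_pencil [IsIntegral X] {L : X.Modules} (hL : PicF.IsInvertible L) (s t : Γ(L, (⊤ : X.Opens)))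
    (x₀ : X) (hspan : ∀ x : X, Submodule.span (X.presheaf.stalk x)
      ({(L.presheaf.germ ⊤ x trivial s : L.presheaf.stalk x), L.presheaf.germ ⊤ x trivial t} :
        Set (L.presheaf.stalk x)) = ⊤)
    (hs : s ≠ 0)
    (hsm : (L.presheaf.germ ⊤ x₀ trivial s : L.presheaf.stalk x₀) ∈
        IsLocalRing.maximalIdeal (X.presheaf.stalk x₀) • (⊤ : Submodule (X.presheaf.stalk x₀) (L.presheaf.stalk x₀)))
    (n : ℕ) :
    ∃ s' t' : Γ(CohB1.tensorPow L (n + 1), (⊤ : X.Opens)),
      (∀ x : X, Submodule.span (X.presheaf.stalk x)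
        ({((CohB1.tensorPow L (n + 1)).presheaf.germ ⊤ x trivial s' : (CohB1.tensorPow L (n + 1)).presheaf.stalk x),
          (CohB1.tensorPow L (n + 1)).presheaf.germ ⊤ x trivial t'} :
          Set ((CohB1.tensorPow L (n + 1)).presheaf.stalk x)) = ⊤) ∧ s' ≠ 0 ∧
      ((CohB1.tensorPow L (n + 1)).presheaf.germ ⊤ x₀ trivial s' : (CohB1.tensorPow L (n + 1)).presheaf.stalk x₀) ∈
        IsLocalRing.maximalIdeal (X.presheaf.stalk x₀) •
          (⊤ : Submodule (X.presheaf.stalk x₀) ((CohB1.tensorPow L (n + 1)).presheaf.stalk x₀)) := by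
  have hpow : ∀ m : ℕ, ∃ a b : Γ(CohB1.tensorPow L m, (⊤ : X.Opens)),
      ∀ x, (GenAt L s x → GenAt (CohB1.tensorPow L m) a x) ∧ (GenAt L t x → GenAt (CohB1.tensorPow L m) b x) := by
    intro m
    induction m with
    | zero => exact ⟨one ⊤, one ⊤, fun x => ⟨fun _ => genAt_one x, fun _ => genAt_one x⟩⟩
    | succ m ih =>
      obtain ⟨a, b, hab⟩ := ih
      exact ⟨tsec _ L a s, tsec _ L b t, fun x => ⟨fun h => ((hab x).1 h).tsec h, fun h => ((hab x).2 h).tsec h⟩⟩
  obtain ⟨a, b, hab⟩ := hpow n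
  refine ⟨tsec (CohB1.tensorPow L n) L a s, tsec (CohB1.tensorPow L n) L b t, fun x => span_eq_top ?_, ?_, ?_⟩
  · exact (genAt_or hL (hspan x)).imp (fun h => ((hab x).1 h).tsec h) fun h => ((hab x).2 h).tsec h
  · obtain ⟨D, g, hxD, hg⟩ := ProjUP.exists_isGen_of_invertible hL (genericPoint X)
    obtain ⟨c, hc⟩ := (hg.stalk hxD).2 (L.presheaf.germ ⊤ (genericPoint X) trivial s)
    dsimp only at hc
    have hc0 : c ≠ 0 := fun h => hs (eq_zero_of_germ_eq_zero ((isInvertible_iff_isFinLocFreeOfRank_one L).1 hL) s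
      (by rw [← hc, h, zero_smul]))
    have hu : IsUnit c := by
      letI : Field (X.presheaf.stalk (genericPoint X)) := inferInstanceAs (Field X.functionField)
      exact isUnit_iff_ne_zero.2 hc0
    have hgs : GenAt L s (genericPoint X) := by
      unfold GenAt
      rw [← hc, show (fun z : X.presheaf.stalk (genericPoint X) => z • c • (L.presheaf.germ D _ hxD g :
          L.presheaf.stalk (genericPoint X))) = (fun z => z • (L.presheaf.germ D _ hxD g :
          L.presheaf.stalk (genericPoint X))) ∘ fun z => z * c from funext fun z => (mul_smul z c _).symm]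
      exact (hg.stalk hxD).comp (Units.mulRight hu.unit).bijective
    intro h0
    have h1 := ((hab _).1 hgs).tsec hgs
    unfold GenAt at h1
    rw [h0] at h1
    refine one_ne_zero (h1.1 (a₁ := 1) (a₂ := 0) ?_)
    dsimp only
    have hz := map_zero ((CohB1.tensorMod (CohB1.tensorPow L n) L).presheaf.germ ⊤ (genericPoint X) trivial).hom
    erw [hz, smul_zero, smul_zero]
  · let φ : L.presheaf.stalk x₀ →ₗ[X.presheaf.stalk x₀] (CohB1.tensorPow L (n + 1)).presheaf.stalk x₀ :=
      (stalkEquiv (CohB1.tensorPow L n) L x₀).symm.toLinearMap.comp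
        (TensorProduct.mk _ _ _ ((CohB1.tensorPow L n).presheaf.germ ⊤ x₀ trivial a))
    have h2 := Submodule.mem_map_of_mem (f := φ) hsm
    rw [Submodule.map_smul''] at h2
    have h3 : φ (L.presheaf.germ ⊤ x₀ trivial s) =
        (CohB1.tensorPow L (n + 1)).presheaf.germ ⊤ x₀ trivial (tsec (CohB1.tensorPow L n) L a s) :=
      (LinearEquiv.symm_apply_eq _).2 (stalkEquiv_tsec (U := ⊤) _ _ x₀ trivial a s).symm
    rw [← h3]
    exact Submodule.smul_mono le_rfl le_top h2

/-- An extension of degree not divisible by the characteristic is separable. -/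
theorem isSeparable_of_finrank {K L : Type u} [Field K] [Field L] [Algebra K L]
    (h : ((Module.finrank K L : ℕ) : K) ≠ 0) : Algebra.IsSeparable K L := by
  by_contra hns
  refine h ?_
  rw [← mul_one ((Module.finrank K L : ℕ) : K), ← nsmul_eq_mul, ← Algebra.trace_algebraMap (S := L) (1 : K),
    Algebra.trace_eq_zero_of_not_isSeparable hns, LinearMap.zero_apply]

section degree

variable {k : Type u} [Field k] {Y : Scheme.{u}} [X.Over (Spec (CommRingCat.of k))] [Y.Over (Spec (CommRingCat.of k))]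

theorem finrank_genMap_eq_residueDegree [IsIntegral X] [IsIntegral Y] (r : X ⟶ Y)
    (e : r (genericPoint X) = genericPoint Y) :
    (letI := (Curve17.genMap r e).hom.toAlgebra
     Module.finrank Y.functionField X.functionField) = r.residueDegree (genericPoint X) := by
  let ξ := genericPoint X
  have hKY : IsField (Y.presheaf.stalk (r ξ)) := by
    rw [e]; exact Field.toIsField Y.functionField
  have bij : ∀ (Z : Scheme.{u}) (z : Z), IsField (Z.presheaf.stalk z) → Function.Bijective (Z.residue z) :=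
    fun Z z h => ⟨by
      refine (injective_iff_map_eq_zero _).2 fun a ha => ?_
      by_contra hne
      have hu : IsUnit a := by
        letI := h.toField
        exact isUnit_iff_ne_zero.2 hne
      have h0 := hu.map (Z.residue z).hom
      rw [show (Z.residue z).hom a = 0 from ha] at h0
      exact not_isUnit_zero h0, IsLocalRing.residue_surjective⟩
  let σ := Y.presheaf.stalkSpecializes (specializes_of_eq e)
  haveI : IsIso σ := ⟨Y.presheaf.stalkSpecializes (specializes_of_eq e.symm), by simp [σ], by simp [σ]⟩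
  let e₁ : Y.functionField ≃+* Y.residueField (r ξ) :=
    (asIso σ).commRingCatIsoToRingEquiv.trans (RingEquiv.ofBijective (Y.residue (r ξ)).hom (bij _ _ hKY))
  let e₂ : X.functionField ≃+* X.residueField ξ :=
    RingEquiv.ofBijective (X.residue ξ).hom (bij _ _ (Field.toIsField X.functionField))
  letI : Algebra Y.functionField X.functionField := (Curve17.genMap r e).hom.toAlgebra
  letI : Algebra (Y.residueField (r ξ)) (X.residueField ξ) := (r.residueFieldMap ξ).hom.toAlgebra
  have he : RingHom.comp (algebraMap (Y.residueField (r ξ)) (X.residueField ξ)) e₁.toRingHom =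
      e₂.toRingHom.comp (algebraMap Y.functionField X.functionField) := by
    refine RingHom.ext fun a => ?_
    exact ConcreteCategory.congr_hom (Scheme.residue_residueFieldMap r ξ) (σ a)
  exact Algebra.finrank_eq_of_equiv_equiv e₁ e₂ he

/-- Degrees in the comparison along a cover. -/
theorem deg_compare [IsAlgClosed k] [IsIntegral X] [IsIntegral Y] [IsProper (X ↘ Spec (CommRingCat.of k))]
    [IsProper (Y ↘ Spec (CommRingCat.of k))] [Smooth (X ↘ Spec (CommRingCat.of k))]
    [Smooth (Y ↘ Spec (CommRingCat.of k))] (hdX : topologicalKrullDim X = 1) (hdY : topologicalKrullDim Y = 1)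
    (f : X ⟶ Y) [IsFinite f] (hf : f ≫ (Y ↘ Spec (CommRingCat.of k)) = X ↘ Spec (CommRingCat.of k))
    (e : f (genericPoint X) = genericPoint Y)
    (hsep : letI := ((Y.presheaf.stalkSpecializes (specializes_of_eq e) ≫ f.stalkMap (genericPoint X)).hom).toAlgebra
      Algebra.IsSeparable Y.functionField X.functionField)
    {ΩX : X.Modules} {dX : OmegaSh.Der (X ↘ Spec (CommRingCat.of k)) ΩX} (hdXu : OmegaSh.IsUniversal dX)
    {ΩY : Y.Modules} {dY : OmegaSh.Der (Y ↘ Spec (CommRingCat.of k)) ΩY} (hdYu : OmegaSh.IsUniversal dY) :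
    2 * (Curv2.genus k X : ℤ) - 2 + f.residueDegree (genericPoint X) * Curv2.deg k Y ΩY 1 =
      Curv2.deg k X ΩX 1 + f.residueDegree (genericPoint X) * (2 * (Curv2.genus k Y : ℤ) - 2) := by
  obtain ⟨W, lam, hW⟩ := VB17.exists_dual (k := k) (X := X) hdX
  obtain ⟨N, lamN, hN⟩ := VB17.exists_dual (k := k) (X := Y) hdY
  obtain ⟨hX', h0X, hbigX⟩ := VB17.setup (k := k) (X := X) hdX
  obtain ⟨hY, h0Y, hbigY⟩ := VB17.setup (k := k) (X := Y) hdY
  haveI := CurveCartier25.smoothOfRelativeDimension_one (X ↘ Spec (CommRingCat.of k)) hdX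
  haveI := CurveCartier25.smoothOfRelativeDimension_one (Y ↘ Spec (CommRingCat.of k)) hdY
  have hΩX : PicF.IsInvertible ΩX := (isInvertible_iff_isFinLocFreeOfRank_one _).2
    (Omega12.isFinLocFreeOfRank_receptacle_of_smooth _ hdXu 1)
  have hΩY : PicF.IsInvertible ΩY := (isInvertible_iff_isFinLocFreeOfRank_one _).2
    (Omega12.isFinLocFreeOfRank_receptacle_of_smooth _ hdYu 1)
  obtain ⟨τ⟩ := nonempty_tensor_iso f hdX hdY hf e hsep hW hN hdXu hdYu
  have h := deg_iso (k := k) (r := 1) τ
  rw [hX'.like.deg_tensor_invertible hW.inv (PicLoc.isInvertible_pullback f hΩY),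
    hX'.like.deg_tensor_invertible hΩX (PicLoc.isInvertible_pullback f hN.inv),
    Groth.Agent.S7640.result k X Y hdX hdY f hf e 1 ΩY ((isInvertible_iff_isFinLocFreeOfRank_one _).1 hΩY),
    Groth.Agent.S7640.result k X Y hdX hdY f hf e 1 N ((isInvertible_iff_isFinLocFreeOfRank_one _).1 hN.inv),
    (hW.invariants hX' h0X hbigX).2.2, (hN.invariants hY h0Y hbigY).2.2] at h
  exact h

end degree

/-- `deg Ω = -2` on the projective line. -/
theorem deg_omega_P1 (k : Type u) [Field k] [IsAlgClosed k] :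
    letI : (CohB1.ProjSpace 1 k).Over (Spec (CommRingCat.of k)) := ⟨CohB1.ProjSpace.toSpec 1 k⟩
    ∀ {Ω : (CohB1.ProjSpace 1 k).Modules}
      {d : OmegaSh.Der ((CohB1.ProjSpace 1 k) ↘ Spec (CommRingCat.of k)) Ω},
      OmegaSh.IsUniversal d → Curv2.deg k (CohB1.ProjSpace 1 k) Ω 1 = -2 := by
  intro Ω d hd
  letI : (CohB1.ProjSpace 1 k).Over (Spec (CommRingCat.of k)) := ⟨CohB1.ProjSpace.toSpec 1 k⟩
  haveI := RegExt.isIntegral_projSpace 1 k
  haveI : IsProper ((CohB1.ProjSpace 1 k) ↘ Spec (CommRingCat.of k)) := ProjSpace.isProper_toSpec 1 k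
  haveI : Smooth ((CohB1.ProjSpace 1 k) ↘ Spec (CommRingCat.of k)) := ProjSpace.smooth_toSpec 1 k
  have hdim : topologicalKrullDim (CohB1.ProjSpace 1 k) = 1 := by rw [Groth.Agent.S10829.result k 1]; rfl
  obtain ⟨σ, hσ⟩ := exists_section_P1 k
  obtain ⟨hc, hres⟩ := section_point_props σ hσ
  have hX : CurveLike k (CohB1.ProjSpace 1 k) := VB17.curveLike hdim
  obtain ⟨D, hD, hdeg, -⟩ := hX.exists_deg_one_of_point hdim hc (VB17.pid_stalk (k := k) hdim.le _) hres
  obtain ⟨s, t, x₀, hspan, hs, hsm⟩ := hX.exists_pencil_of_deg_one hD hdeg (hX.two_le_h0 (genus_P1 k) hD hdeg)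
  obtain ⟨q, hq2, hqk⟩ : ∃ q : ℕ, 2 ≤ q ∧ (q : k) ≠ 0 := by
    by_cases h2 : ((2 : ℕ) : k) = 0
    · refine ⟨3, by norm_num, fun h3 => one_ne_zero (α := k) ?_⟩
      have : (1 : k) = ((3 : ℕ) : k) - ((2 : ℕ) : k) := by norm_num
      rw [this, h3, h2, sub_zero]
    · exact ⟨2, le_rfl, h2⟩
  obtain ⟨m, rfl⟩ : ∃ m, q = m + 1 := ⟨q - 1, by omega⟩
  obtain ⟨s', t', hspan', hs', hsm'⟩ := exists_pow_pencil hD s t x₀ hspan hs hsm m
  obtain ⟨r, hr, hfin, -, hξ, -, hdr⟩ := exists_map_P1 (k := k) hdim (isInvertible_tensorPow hD (m + 1)) s' t' x₀ hspan' hs' hsm'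
  rw [deg_twistP1, mul_one, hX.deg_tensorPow hD, hdeg, mul_one] at hdr
  haveI := hfin
  have hn : r.residueDegree (genericPoint (CohB1.ProjSpace 1 k)) = m + 1 := by exact_mod_cast hdr
  have hsep : (letI := (Curve17.genMap r hξ).hom.toAlgebra
      Algebra.IsSeparable (CohB1.ProjSpace 1 k).functionField (CohB1.ProjSpace 1 k).functionField) := by
    letI := (Curve17.genMap r hξ).hom.toAlgebra
    refine isSeparable_of_finrank ?_
    rw [finrank_genMap_eq_residueDegree r hξ, hn]
    let ι : k →+* (CohB1.ProjSpace 1 k).functionField :=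
      ((CohB1.ProjSpace 1 k).presheaf.germ ⊤ _ trivial).hom.comp (toSect k ⊤)
    intro h
    exact hqk (ι.injective (by rw [map_natCast, map_zero]; exact h))
  have h := deg_compare hdim hdim r hr hξ hsep hd hd
  rw [genus_P1, hn] at h
  push_cast at h
  have h' : (m : ℤ) * (Curv2.deg k (CohB1.ProjSpace 1 k) Ω 1 + 2) = 0 := by linarith
  rcases mul_eq_zero.1 h' with h0 | h0
  · omega
  · omega

end Groth.Agent.CurveOm17
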