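import Groth.Agent.Lib.CurveOm17.PullP1
import Groth.Agent.Lib.CurveOm17.P1
import Groth.Agent.Lib.CurveOm17.InvHom
import Groth.Agent.Lib.CurveCoh17.Hyper

/-!
# Sections of powers of a pencil
-/

set_option linter.style.haveILetI false
set_option autoImplicit false
set_option maxHeartbeats 800000

universe u

open CategoryTheory TopologicalSpace Opposite CategoryTheory.Limits AlgebraicGeometry

namespace Groth.Agent.CurveOm17

open Groth.Agent.M1 Groth.Agent.M2 Groth.Agent.CurveCoh17

variable {k : Type u} [Field k] {X : Scheme.{u}} [X.Over (Spec (CommRingCat.of k))] [IsIntegral X]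

/-- A generating germ is not in the maximal ideal times the stalk. -/
theorem not_genAt_of_mem {L : X.Modules} {s : Γ(L, (⊤ : X.Opens))} {x : X}
    (h : (L.presheaf.germ ⊤ x trivial s : L.presheaf.stalk x) ∈
      IsLocalRing.maximalIdeal (X.presheaf.stalk x) • (⊤ : Submodule (X.presheaf.stalk x) (L.presheaf.stalk x))) :
    ¬ GenAt L s x := fun hs => by
  let e := LinearEquiv.ofBijective (LinearMap.toSpanSingleton _ _ (L.presheaf.germ ⊤ x trivial s)) hs
  have h1 := Submodule.mem_map_of_mem (f := e.symm.toLinearMap) h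
  rw [Submodule.map_smul'', Submodule.map_top, LinearEquiv.range, Ideal.smul_eq_mul, Ideal.mul_top] at h1
  have h2 : e.symm.toLinearMap (L.presheaf.germ ⊤ x trivial s) = 1 :=
    (LinearEquiv.symm_apply_eq e).2 (LinearMap.toSpanSingleton_apply_one _ _ _).symm
  rw [h2] at h1
  exact (IsLocalRing.mem_maximalIdeal _).1 h1 isUnit_one

/-- `h⁰` of the powers of a pulled back `O(1)` of the line increases strictly. -/
theorem h0_pow_pullback_lt [IsIntegral (CohB1.ProjSpace 1 k)] (hX : CurveLike k X)
    (r : X ⟶ CohB1.ProjSpace 1 k)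
    (hr : r ≫ CohB1.ProjSpace.toSpec 1 k = X ↘ Spec (CommRingCat.of k))
    (hξ : r (genericPoint X) = genericPoint (CohB1.ProjSpace 1 k))
    (hd : 0 < Curv2.deg k X ((Scheme.Modules.pullback r).obj (Twist.twistProjSpace 1 k 1)) 1) (m : ℕ) :
    Module.finrank k (Coh.HH X
      (CohB1.tensorPow ((Scheme.Modules.pullback r).obj (Twist.twistProjSpace 1 k 1)) m) 0) <
    Module.finrank k (Coh.HH X
      (CohB1.tensorPow ((Scheme.Modules.pullback r).obj (Twist.twistProjSpace 1 k 1)) (m + 1)) 0) := by
  haveI := hX.noetherian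
  let L := (Scheme.Modules.pullback r).obj (_root_.Twist.twist (CohB1.polyGrading 1 k) 1)
  let sec : Fin (1 + 1) → Γ(L, (⊤ : X.Opens)) := fun j => ProjUP.sec (CohB1.polyGrading 1 k) r (Curve17.X_mem j)
  let s := sec 0
  let t := sec 1
  have hL : PicF.IsInvertible L := Groth.Agent.Twist.isInvertible_pullback r (Twist.isInvertible_twistProjSpace 1 k 1)
  have hgen : ∀ x : X, GenAt L s x ∨ GenAt L t x := fun x => by
    obtain ⟨i, hi⟩ := Curve17.exists_X_notMem (r x)
    have h := (Groth.Agent.ProjUP.isGen_sec (CohB1.polyGrading 1 k) r (Curve17.X_mem i)).stalk (x := x) hi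
    have h' : GenAt L (sec i) x := by
      unfold GenAt
      erw [germ_mres] at h
      exact h
    fin_cases i
    · exact Or.inl h'
    · exact Or.inr h'
  -- `s` is a nonzero section
  have hs : s ≠ 0 := fun h => by
    have hc : Curve17.linForm (k := k) (Pi.single (0 : Fin (1 + 1)) (1 : k)) ∈
        (r (genericPoint X)).asHomogeneousIdeal.toIdeal := by
      refine (Curve17.germ_vSec_mem_iff (X ↘ Spec (CommRingCat.of k)) r (genericPoint X) hr _).1 ?_
      have hz : Curve17.vSec (X ↘ Spec (CommRingCat.of k)) r (Pi.single (0 : Fin (1 + 1)) (1 : k)) = 0 := by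
        refine Eq.trans (Fin.sum_univ_two _) ?_
        rw [Pi.single_eq_same, Pi.single_eq_of_ne (by decide), map_one, map_zero, one_smul, zero_smul, add_zero]
        exact h
      rw [hz, map_zero]
      exact zero_mem _
    have := congrFun (linForm_eq_zero_of_mem_genericPoint (hξ ▸ hc)) 0
    simp at this
  obtain ⟨x₀, hx₀⟩ := exists_vanish_of_deg_pos hX hL hd hs
  have ht0 : GenAt L t x₀ := (hgen x₀).resolve_left (not_genAt_of_mem hx₀)
  have hsη : ∃ a : ∀ m, Γ(CohB1.tensorPow L m, (⊤ : X.Opens)), ∀ m x, GenAt L s x → GenAt (CohB1.tensorPow L m) (a m) x := by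
    refine ⟨fun m => Nat.rec (one ⊤) (fun m a => tsec (CohB1.tensorPow L m) L a s) m, fun m x h => ?_⟩
    induction m with
    | zero => exact genAt_one x
    | succ m ih => exact ih.tsec h
  obtain ⟨a, ha⟩ := hsη
  have hsgen : GenAt L s (genericPoint X) := by
    obtain ⟨D, g, hxD, hg⟩ := ProjUP.exists_isGen_of_invertible hL (genericPoint X)
    obtain ⟨c, hc⟩ := (hg.stalk hxD).2 (L.presheaf.germ ⊤ (genericPoint X) trivial s)
    dsimp only at hc
    have hc0 : c ≠ 0 := fun h => hs (eq_zero_of_germ_eq_zero ((isInvertible_iff_isFinLocFreeOfRank_one L).1 hL) s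
      (by rw [← hc, h, zero_smul]))
    have hu : IsUnit c := by
      letI : Field (X.presheaf.stalk (genericPoint X)) := inferInstanceAs (Field X.functionField)
      exact isUnit_iff_ne_zero.2 hc0
    unfold GenAt
    rw [← hc, show (fun z : X.presheaf.stalk (genericPoint X) => z • c • (L.presheaf.germ D _ hxD g :
        L.presheaf.stalk (genericPoint X))) = (fun z => z • (L.presheaf.germ D _ hxD g :
        L.presheaf.stalk (genericPoint X))) ∘ fun z => z * c from funext fun z => (mul_smul z c _).symm]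
    exact (hg.stalk hxD).comp (Units.mulRight hu.unit).bijective
  have hb : ∀ m, ∃ b : Γ(CohB1.tensorPow L m, (⊤ : X.Opens)), GenAt (CohB1.tensorPow L m) b x₀ := fun m => by
    induction m with
    | zero => exact ⟨one ⊤, genAt_one x₀⟩
    | succ m ih => obtain ⟨b, hb⟩ := ih; exact ⟨tsec _ L b t, hb.tsec ht0⟩
  change Module.finrank k (Coh.HH X (CohB1.tensorPow L m) 0) <
    Module.finrank k (Coh.HH X (CohB1.tensorPow L (m + 1)) 0)
  · let P := CohB1.tensorPow L m
    let P' := CohB1.tensorPow L (m + 1)
    have hP : PicF.IsInvertible P := isInvertible_tensorPow hL m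
    have hP' : PicF.IsInvertible P' := isInvertible_tensorPow hL (m + 1)
    haveI := hX.fin _ (isCoh_of_ofRank ((isInvertible_iff_isFinLocFreeOfRank_one P).1 hP)) 0
    haveI := hX.fin _ (isCoh_of_ofRank ((isInvertible_iff_isFinLocFreeOfRank_one P').1 hP')) 0
    let l : Coh.HH X P 0 →ₗ[k] Coh.HH X P' 0 :=
      { toFun := fun u => (hh0 P').symm (tsec P L (hh0 P u) s)
        map_add' := fun u v => (congrArg (fun w => (hh0 P').symm w) ((congrArg (fun w => tsec P L w s) (map_add (hh0 P) u v)).trans (tsec_add_left _ _ _))).trans (map_add (hh0 P').symm _ _)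
        map_smul' := fun c u => by
          refine (hh0 P').injective ?_
          rw [AddEquiv.apply_symm_apply, RingHom.id_apply]
          refine Eq.trans ?_ (hh0_smul (M := P') _ _).symm
          rw [AddEquiv.apply_symm_apply]
          refine Eq.trans (congrArg (fun w => tsec P L w s) (hh0_smul (M := P) _ _)) ?_
          exact tsec_smul_left _ _ _ }
    have hlapp : ∀ u, hh0 P' (l u) = tsec P L (hh0 P u) s := fun u => AddEquiv.apply_symm_apply _ _
    have hl : Function.Injective l := (injective_iff_map_eq_zero l).2 fun u hu => by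
      refine (hh0 P).injective (((map_zero (hh0 P))).symm ▸ ?_)
      refine eq_zero_of_germ_eq_zero ((isInvertible_iff_isFinLocFreeOfRank_one P).1 hP) _ (x := genericPoint X) ?_
      have h1 : tsec P L (hh0 P u) s = 0 := by rw [← hlapp, hu]; exact map_zero _
      have h2 := congrArg (stalkEquiv P L (genericPoint X))
        (congrArg (P'.presheaf.germ ⊤ (genericPoint X) trivial) h1)
      erw [stalkEquiv_tsec, map_zero, map_zero] at h2
      let eB := LinearEquiv.ofBijective (LinearMap.toSpanSingleton _ _ (L.presheaf.germ ⊤ (genericPoint X) trivial s)) hsgen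
      have h3 := congrArg ((TensorProduct.congr (LinearEquiv.refl _ _) eB.symm).trans (TensorProduct.rid _ _)) h2
      rw [map_zero, LinearEquiv.trans_apply, TensorProduct.congr_tmul, TensorProduct.rid_tmul] at h3
      rwa [show eB.symm (L.presheaf.germ ⊤ (genericPoint X) trivial s) = 1 from
        (LinearEquiv.symm_apply_eq eB).2 (LinearMap.toSpanSingleton_apply_one _ _ _).symm, one_smul] at h3
    obtain ⟨b, hb⟩ := hb (m + 1)
    have hlt : LinearMap.range l ≠ ⊤ := fun htop => by
      obtain ⟨u, hu⟩ := LinearMap.range_eq_top.1 htop ((hh0 P').symm b)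
      refine not_genAt_of_mem ?_ hb
      rw [show b = tsec P L (hh0 P u) s by rw [← hlapp, hu, AddEquiv.apply_symm_apply]]
      let ψ : L.presheaf.stalk x₀ →ₗ[X.presheaf.stalk x₀] P'.presheaf.stalk x₀ :=
        (stalkEquiv P L x₀).symm.toLinearMap.comp (TensorProduct.mk _ _ _ (P.presheaf.germ ⊤ x₀ trivial (hh0 P u)))
      have h2 := Submodule.mem_map_of_mem (f := ψ) hx₀
      rw [Submodule.map_smul''] at h2
      have h3 : ψ (L.presheaf.germ ⊤ x₀ trivial s) = P'.presheaf.germ ⊤ x₀ trivial (tsec P L (hh0 P u) s) :=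
        (LinearEquiv.symm_apply_eq _).2 (stalkEquiv_tsec (U := ⊤) _ _ x₀ trivial (hh0 P u) s).symm
      rw [← h3]
      exact Submodule.smul_mono le_rfl le_top h2
    have h4 := Submodule.finrank_lt hlt
    rw [LinearMap.finrank_range_of_inj hl] at h4
    exact h4

/-- `h⁰` of the `m`-th power of a pulled back `O(1)` of the line is at least `m + 1`. -/
theorem succ_le_h0_pow_pullback [IsIntegral (CohB1.ProjSpace 1 k)] (hX : CurveLike k X)
    (h0 : Module.finrank k (Coh.HH X (Coh.structureModule X) 0) = 1) (r : X ⟶ CohB1.ProjSpace 1 k)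
    (hr : r ≫ CohB1.ProjSpace.toSpec 1 k = X ↘ Spec (CommRingCat.of k))
    (hξ : r (genericPoint X) = genericPoint (CohB1.ProjSpace 1 k))
    (hd : 0 < Curv2.deg k X ((Scheme.Modules.pullback r).obj (Twist.twistProjSpace 1 k 1)) 1) (m : ℕ) :
    m + 1 ≤ Module.finrank k (Coh.HH X
      (CohB1.tensorPow ((Scheme.Modules.pullback r).obj (Twist.twistProjSpace 1 k 1)) m) 0) := by
  induction m with
  | zero => exact h0.ge
  | succ m ih => exact Nat.succ_le_of_lt (lt_of_le_of_lt ih (h0_pow_pullback_lt hX r hr hξ hd m))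

end Groth.Agent.CurveOm17
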