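import Groth.Agent.Lib.CurveOm17.Hurwitz
import Groth.Agent.Lib.CurveOm17.Glue
import Groth.Agent.Lib.Fitting26.Sheaf
import Groth.Agent.Lib.TensorMod.IdealMod
import Groth.Agent.Lib.Omega12.Finite

/-!
# The ramification ideal
-/

set_option linter.style.haveILetI false
set_option autoImplicit false
set_option maxHeartbeats 800000

universe u

open CategoryTheory TopologicalSpace Opposite CategoryTheory.Limits AlgebraicGeometry

namespace Groth.Agent.CurveOm17

open Groth.Agent.M1 Groth.Agent.M2 Groth.Agent.CurveCoh17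

/-- A mono of invertible modules identifies the source with the target twisted by the Fitting ideal of the cokernel. -/
theorem nonempty_iso_fitting {X : Scheme.{u}} [IsIntegral X] {A B Q : X.Modules} (hA : PicF.IsInvertible A)
    (hB : PicF.IsInvertible B) (c : A ⟶ B) [Mono c] (i : cokernel c ≅ Q) (hQ : Coh.IsQCoh Q) (hQT : CohB1.IsFT Q) :
    Nonempty (CohB1.tensorMod B (ClSub.idealMod (Fitt.sheafIdeal Q 0)) ≅ A) := by
  classical
  let π : B ⟶ Q := cokernel.π c ≫ i.hom
  have hz : c ≫ π = 0 := by rw [← Category.assoc, cokernel.condition, zero_comp]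
  let S := ShortComplex.mk c π hz
  have hex : S.Exact := ShortComplex.exact_of_g_is_cokernel _
    (IsColimit.ofIsoColimit (cokernelIsCokernel c) (Cofork.ext i (by simp [S, π])))
  have hBq : Coh.IsQCoh B := (isCoh_of_ofRank ((isInvertible_iff_isFinLocFreeOfRank_one B).1 hB)).1
  let I := Fitt.sheafIdeal Q 0
  have loc : ∀ x : X, ∃ (U : X.Opens) (a : Γ(A, U)) (b : Γ(B, U)) (r : Γ(X, U)) (s : Γ(ClSub.idealMod I, U)),
      x ∈ U ∧ Twist.IsGen A U a ∧ Twist.IsGen B U b ∧ c.app U a = r • b ∧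
        Twist.IsGen (ClSub.idealMod I) U s ∧ idealIncl I s = r := by
    intro x
    obtain ⟨D, a₀, hxD, ha₀⟩ := Groth.Agent.ProjUP.exists_isGen_of_invertible hA x
    obtain ⟨D', b₀, hxD', hb₀⟩ := Groth.Agent.ProjUP.exists_isGen_of_invertible hB x
    obtain ⟨U, hU, hxU, hUle⟩ := exists_isAffineOpen_mem_and_subset (x := x) (U := D ⊓ D') ⟨hxD, hxD'⟩
    have hUD : U ≤ D := fun _ h => (hUle h).1
    have hUD' : U ≤ D' := fun _ h => (hUle h).2
    haveI : Nonempty ((U : X.Opens) : Scheme.{u}) := ⟨⟨x, hxU⟩⟩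
    haveI : Nonempty (U : X.Opens) := ⟨⟨x, hxU⟩⟩
    set a := mres A hUD a₀
    set b := mres B hUD' b₀
    have ha : Twist.IsGen A U a := ha₀.mres hUD
    have hb : Twist.IsGen B U b := hb₀.mres hUD'
    have ha' : ∀ z : Γ(A, U), ∃ t : Γ(X, U), t • a = z := fun z => by
      obtain ⟨t, ht⟩ := (ha U le_rfl).2 z
      exact ⟨t, by simpa only [mres_id] using ht⟩
    have hb' : ∀ z : Γ(B, U), ∃ t : Γ(X, U), t • b = z := fun z => by
      obtain ⟨t, ht⟩ := (hb U le_rfl).2 z
      exact ⟨t, by simpa only [mres_id] using ht⟩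
    have hainj : ∀ t t' : Γ(X, U), t • a = t' • a → t = t' := fun t t' h =>
      (ha U le_rfl).1 (by simpa only [mres_id] using h)
    have hbinj : ∀ t t' : Γ(X, U), t • b = t' • b → t = t' := fun t t' h =>
      (hb U le_rfl).1 (by simpa only [mres_id] using h)
    obtain ⟨r, hr⟩ := hb' (c.app U a)
    have hr0 : r ≠ 0 := fun h0 => by
      have h1 : a = 0 := M1.app_injective c U (by rw [← hr, h0, zero_smul, map_zero])
      exact one_ne_zero (hainj 1 0 (by rw [h1, smul_zero, smul_zero]))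
    -- the Fitting ideal
    haveI : Module.Finite Γ(X, U) Γ(Q, U) := Groth.Agent.M1.finite_sections hQ hQT hU
    have hπ : Function.Surjective (π.app U) :=
      haveI : Epi π := epi_comp _ _
      M1.app_surjective_affine_of_isQCoh hBq hQ π hU
    have hgen : Submodule.span Γ(X, U) (Set.range ![π.app U b]) = ⊤ := eq_top_iff.2 fun w _ => by
      obtain ⟨v, rfl⟩ := hπ w
      obtain ⟨t, rfl⟩ := hb' v
      rw [Scheme.Modules.Hom.app_smul]
      exact Submodule.smul_mem _ _ (Submodule.subset_span ⟨0, rfl⟩)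
    have hkill : r • π.app U b = 0 := by
      rw [← Scheme.Modules.Hom.app_smul, hr]
      exact congr($(congrArg (fun φ : A ⟶ Q => φ.app U) hz) a)
    have hI : I.ideal ⟨U, hU⟩ = Ideal.span {r} := by
      rw [Fitting26.sheafIdeal_ideal hQ hQT 0 ⟨U, hU⟩]
      refine le_antisymm (fun t ht => ?_) ((Ideal.span_singleton_le_iff_mem _).2 ?_)
      · have h1 := FittingLib.ideal_zero_le_annihilator (R := Γ(X, U)) (M := Γ(Q, U)) ht
        have h2 : π.app U (t • b) = 0 := by
          rw [Scheme.Modules.Hom.app_smul]; exact Module.mem_annihilator.1 h1 _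
        obtain ⟨z, hz'⟩ := M1.sections_exact hex U _ h2
        obtain ⟨q, rfl⟩ := ha' z
        rw [show S.f = c from rfl, Scheme.Modules.Hom.app_smul, ← hr, ← mul_smul] at hz'
        exact Ideal.mem_span_singleton'.2 ⟨q, hbinj _ _ hz'⟩
      · refine Ideal.subset_span ⟨1, ![π.app U b], ![![r]], hgen, fun j _ => ?_, (Matrix.det_fin_one (Matrix.of ![![r]])).symm⟩
        rw [Fin.sum_univ_one, Fin.fin_one_eq_zero j]
        exact hkill
    obtain ⟨s, hs⟩ := (range_idealIncl I ⟨U, hU⟩).ge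
      (show r ∈ (I.ideal ⟨U, hU⟩ : Set Γ(X, U)) by rw [hI]; exact Ideal.subset_span rfl)
    exact ⟨U, a, b, r, s, hxU, ha, hb, hr.symm,
      isGenerator_idealMod I (U := ⟨U, hU⟩) r (mem_nonZeroDivisors_of_ne_zero hr0) hI s hs, hs⟩
  choose U a b r s hxU ha hb hr hsg hs using loc
  have hcov : ⨆ x, U x = ⊤ := eq_top_iff.2 fun x _ => Opens.mem_iSup.2 ⟨x, hxU x⟩
  obtain ⟨τ, -⟩ := Twist.exists_iso_of_gen _ hcov (fun x => tsec B (ClSub.idealMod I) (b x) (s x)) a
    (fun x => isGen_tsec (hb x) (hsg x)) ha (sameTransition_of_inf (fun x => isGen_tsec (hb x) (hsg x)) fun i j => by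
      have hi : U i ⊓ U j ≤ U i := inf_le_left
      have hj : U i ⊓ U j ≤ U j := inf_le_right
      obtain ⟨α, hα⟩ := (ha i _ hi).2 (mres A hj (a j))
      obtain ⟨β, hβ⟩ := (hb i _ hi).2 (mres B hj (b j))
      obtain ⟨γ, hγ⟩ := (hsg i _ hi).2 (mres _ hj (s j))
      dsimp only at hα hβ hγ
      refine ⟨U i ⊓ U j, hi, hj, α, fun V h₁ h₂ x hx => ⟨h₁ hx, h₂ hx⟩, ?_, hα.symm⟩
      have e₁ : α * ores hi (r i) = ores hj (r j) * β := by
        refine (hb i _ hi).1 ?_
        dsimp only
        rw [mul_smul, mul_smul, hβ, ← mres_smul, ← mres_smul, ← hr, ← hr, ← M1.app_mres, ← M1.app_mres, ← hα,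
          Scheme.Modules.Hom.app_smul]
      have e₂ : ores hj (r j) = γ * ores hi (r i) := by
        have h := congrArg (idealIncl I) hγ
        rw [idealIncl_smul] at h
        rw [← hs i, ← hs j]
        exact (idealIncl_res I hj (s j)).symm.trans (h.symm.trans (congrArg (γ * ·) (idealIncl_res I hi (s i))))
      have e₃ : β * γ = α := by
        haveI : Nonempty ((U i ⊓ U j : X.Opens) : Scheme.{u}) := ⟨⟨genericPoint X,
          (genericPoint_specializes i).mem_open (U i).2 (hxU i), (genericPoint_specializes j).mem_open (U j).2 (hxU j)⟩⟩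
        haveI : Nonempty (U i ⊓ U j : X.Opens) := ⟨⟨genericPoint X,
          (genericPoint_specializes i).mem_open (U i).2 (hxU i), (genericPoint_specializes j).mem_open (U j).2 (hxU j)⟩⟩
        have hne : ores hi (r i) ≠ 0 := fun h0 => by
          have h1 : mres A hi (a i) = 0 := M1.app_injective c _ (by
            rw [M1.app_mres, hr, mres_smul, h0, zero_smul, map_zero])
          exact one_ne_zero ((ha i _ hi).1 (show (1 : Γ(X, U i ⊓ U j)) • mres A hi (a i) = (0 : Γ(X, U i ⊓ U j)) • mres A hi (a i) by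
            rw [h1, smul_zero, smul_zero]))
        refine mul_right_cancel₀ hne ?_
        rw [e₁, e₂]; ring
      rw [mres_tsec, mres_tsec, ← hβ, ← hγ, tsec_smul_left, tsec_smul_right, ← mul_smul, e₃])
  exact ⟨τ⟩

end Groth.Agent.CurveOm17
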