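import Mathlib.RingTheory.Smooth.Basic
import Mathlib.RingTheory.Etale.Field
import Mathlib.RingTheory.Etale.Kaehler
import Mathlib.RingTheory.Unramified.Field
import Mathlib.RingTheory.LocalRing.Module
import Mathlib.RingTheory.Nakayama
import Mathlib.RingTheory.OrzechProperty

/-!
# The differential of a uniformizer
-/

set_option linter.style.haveILetI false
set_option autoImplicit false

universe u

open TensorProduct IsLocalRing

namespace Groth.Agent.CurveOm17

theorem bijective_smul_D {k O : Type u} [Field k] [CommRing O] [IsLocalRing O] [IsNoetherianRing O] [Algebra k O]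
    [Algebra.FormallySmooth k O] (e : KaehlerDifferential k O ≃ₗ[O] O)
    [Algebra.IsSeparable k (ResidueField O)] (s : O) (hs : Irreducible s) :
    Function.Bijective fun a : O => a • KaehlerDifferential.D k O s := by
  let Ω := KaehlerDifferential k O
  let κ := ResidueField O
  haveI : Module.Finite O Ω := Module.Finite.equiv e.symm
  haveI : Algebra.FormallyEtale k κ := Algebra.FormallyEtale.of_isSeparable k κ
  have hsurj : Function.Surjective (algebraMap O κ) := IsLocalRing.residue_surjective
  have hI : RingHom.ker (algebraMap O κ) = maximalIdeal O := IsLocalRing.ker_residue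
  -- the cotangent sequence
  obtain ⟨φ, hφinj, hφsurj, hφD⟩ : ∃ φ : (maximalIdeal O).Cotangent →ₗ[O] κ ⊗[O] Ω,
      Function.Injective φ ∧ Function.Surjective φ ∧
        ∀ y : maximalIdeal O, φ (Ideal.toCotangent _ y) = (1 : κ) ⊗ₜ KaehlerDifferential.D k O y.1 := by
    rw [← hI]
    refine ⟨KaehlerDifferential.kerCotangentToTensor k O κ,
      (Algebra.FormallySmooth.kerCotangentToTensor_injective_iff hsurj).2 inferInstance, fun w => ?_, fun y => rfl⟩
    have hw : KaehlerDifferential.mapBaseChange k O κ w = 0 := Subsingleton.elim _ _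
    exact (KaehlerDifferential.exact_kerCotangentToTensor_mapBaseChange k O κ hsurj w).1 hw
  let e' : κ ⊗[O] Ω ≃ₗ[O] κ := (LinearEquiv.lTensor κ e).trans (TensorProduct.rid O κ)
  -- the maximal ideal is generated by `s`
  have hsm : s ∈ maximalIdeal O := (IsLocalRing.mem_maximalIdeal _).2 hs.not_isUnit
  obtain ⟨t, htm, ht⟩ : ∃ t ∈ maximalIdeal O, maximalIdeal O = Ideal.span {t} := by
    obtain ⟨⟨t, htm⟩, ht⟩ := (e'.surjective.comp (hφsurj.comp (Ideal.toCotangent_surjective (maximalIdeal O)))) 1
    dsimp only [Function.comp_apply] at ht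
    refine ⟨t, htm, le_antisymm ?_ ((Ideal.span_singleton_le_iff_mem _).2 htm)⟩
    refine Submodule.le_of_le_smul_of_le_jacobson_bot (I := maximalIdeal O)
      (IsNoetherian.noetherian _) (IsLocalRing.maximalIdeal_le_jacobson ⊥) fun y hy => ?_
    obtain ⟨a, ha⟩ := hsurj (e' (φ (Ideal.toCotangent _ ⟨y, hy⟩)))
    have h0 : Ideal.toCotangent (maximalIdeal O) (⟨y, hy⟩ - a • ⟨t, htm⟩) = 0 := by
      refine hφinj (e'.injective ?_)
      rw [map_zero, map_zero, map_sub, map_sub, map_sub, map_smul, map_smul, map_smul, ht, ← ha, sub_eq_zero,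
        Algebra.smul_def, mul_one]
    rw [Ideal.toCotangent_eq_zero, Submodule.coe_sub, SetLike.val_smul, smul_eq_mul, pow_two] at h0
    exact Submodule.mem_sup.2 ⟨a * t, Ideal.mem_span_singleton'.2 ⟨a, rfl⟩, y - a * t, h0, by ring⟩
  have hms : ∀ y ∈ maximalIdeal O, ∃ b, y = b * s := fun y hy => by
    rw [ht] at hsm hy
    obtain ⟨c, hc⟩ := Ideal.mem_span_singleton'.1 hsm
    obtain ⟨d, rfl⟩ := Ideal.mem_span_singleton'.1 hy
    have hu : IsUnit c := (hs.isUnit_or_isUnit hc.symm).resolve_right ((IsLocalRing.mem_maximalIdeal _).1 htm)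
    exact ⟨d * ↑hu.unit⁻¹, by rw [← hc, mul_assoc, ← mul_assoc (↑hu.unit⁻¹ : O), IsUnit.val_inv_mul, one_mul]⟩
  -- `ds` generates
  let N : Submodule O Ω := Submodule.span O {KaehlerDifferential.D k O s}
  haveI : Subsingleton (κ ⊗[O] (Ω ⧸ N)) := by
    refine ⟨fun a b => ?_⟩
    have hz : ∀ a, a = (0 : κ ⊗[O] (Ω ⧸ N)) := fun a => by
      obtain ⟨w, rfl⟩ := LinearMap.lTensor_surjective κ (N.mkQ_surjective) a
      obtain ⟨c, rfl⟩ := hφsurj w
      obtain ⟨⟨y, hy⟩, rfl⟩ := Ideal.toCotangent_surjective _ c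
      rw [hφD, LinearMap.lTensor_tmul]
      obtain ⟨b, rfl⟩ := hms y hy
      rw [Derivation.leibniz, map_add, TensorProduct.tmul_add, map_smul, map_smul,
        show N.mkQ (KaehlerDifferential.D k O s) = 0 from (Submodule.Quotient.mk_eq_zero N).2 (Submodule.subset_span rfl),
        smul_zero, TensorProduct.tmul_zero, zero_add, ← TensorProduct.smul_tmul, Algebra.smul_def, mul_one,
        show algebraMap O κ s = 0 from (IsLocalRing.residue_eq_zero_iff s).2 hsm, TensorProduct.zero_tmul]
    rw [hz a, hz b]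
  have hsub : Subsingleton (Ω ⧸ N) := IsLocalRing.subsingleton_tensorProduct.1 ‹_›
  let f : O →ₗ[O] Ω := LinearMap.toSpanSingleton O Ω (KaehlerDifferential.D k O s)
  have hf : Function.Surjective f := fun w => by
    have hw : w ∈ N := (Submodule.Quotient.mk_eq_zero N).1 (Subsingleton.elim _ _)
    obtain ⟨a, ha⟩ := Submodule.mem_span_singleton.1 hw
    exact ⟨a, ha⟩
  have h := OrzechProperty.bijective_of_surjective_endomorphism (e.toLinearMap.comp f) (e.surjective.comp hf)
  exact ⟨fun a b hab => h.1 (congrArg e hab), hf⟩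

end Groth.Agent.CurveOm17
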